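import Mathlib
import Cfsg.Prelude.Def_Classification2
import Cfsg.Agent.H35.CoxCoset
import Cfsg.Agent.H35.BNChamber
import Cfsg.Agent.H35.BNParabolic

/-!
# Finite spherical buildings of rank at least three: definitions and statements

The paper proof is in `stubs/notes/lead_tits3.md`.
-/

set_option autoImplicit false

namespace Cfsg.Agent.Lead.T3

open Cfsg.Agent.H35 Equiv

universe u

/-- A Coxeter system given by involutions with the exchange condition. -/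
structure Cox (I W : Type) [Group W] extends InvGen I W where
  exch : toInvGen.Exchange
  inj : Function.Injective toInvGen.s

namespace Cox

variable {I W : Type} [Group W] (X : Cox I W)

/-- The Coxeter matrix. -/
noncomputable def m (i j : I) : ℕ := orderOf (X.s i * X.s j)

/-- The standard parabolic subgroup. -/
def WJ (J : Set I) : Subgroup W := Subgroup.closure (X.s '' J)

/-- The root (half-apartment) `v α_i`: it contains `v` and not `v s_i`. -/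
def rt (v : W) (i : I) : Set W := {w | X.len (v⁻¹ * w) < X.len (X.s i * (v⁻¹ * w))}

/-- The reflection in the wall of type `i` of the chamber `v`. -/
def rf (v : W) (i : I) : W := v * X.s i * v⁻¹

variable [Finite W]

/-- The longest element of `W_J`. -/
noncomputable def wJ (J : Set I) : W := Classical.choose (InvGen.exists_isLongest X.toInvGen J)

theorem wJ_spec (J : Set I) : X.IsLongest J (X.wJ J) :=
  Classical.choose_spec (InvGen.exists_isLongest X.toInvGen J)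

/-- The longest element. -/
noncomputable def w0 : W := X.wJ Set.univ

open Classical in
/-- The opposition involution of `W_K`. -/
noncomputable def op (K : Set I) (i : I) : I :=
  if h : ∃ j ∈ K, X.wJ K * X.s i = X.s j * X.wJ K then h.choose else i

/-- All bonds have order two, three or four. -/
def M234 : Prop := ∀ i j, i ≠ j → X.m i j = 2 ∨ X.m i j = 3 ∨ X.m i j = 4

/-- A linear triple `i - j - k` with a simple bond `i j` and a bond of order `n` at `j k`. -/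
def Tri (n : ℕ) (i j k : I) : Prop := X.m i j = 3 ∧ X.m j k = n ∧ X.m i k = 2

end Cox

/-- A thick building of type `X`, as a `W`-metric space. -/
structure Bld {I W : Type} [Group W] (X : Cox I W) (C : Type u) where
  δ : C → C → W
  eq_one : ∀ x y, δ x y = 1 ↔ x = y
  symm : ∀ x y, δ y x = (δ x y)⁻¹
  step : ∀ i x y z, δ x y = X.s i → δ x z = X.s i * δ y z ∨ δ x z = δ y z
  step_up : ∀ i x y z, δ x y = X.s i → X.len (δ y z) ≤ X.len (X.s i * δ y z) →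
    δ x z = X.s i * δ y z
  ex : ∀ i y z, ∃ x, δ x y = X.s i ∧ δ x z = X.s i * δ y z
  thick : ∀ i x, ∃ y z, y ≠ z ∧ δ x y = X.s i ∧ δ x z = X.s i

namespace Bld

variable {I W : Type} [Group W] {X : Cox I W} {C C' : Type u}

/-- Transport along a bijection. -/
def comap {D : Type*} {E : Type*} (B : Bld X D) (e : E ≃ D) : Bld X E where
  δ x y := B.δ (e x) (e y)
  eq_one x y := by rw [B.eq_one, e.apply_eq_iff_eq]
  symm x y := B.symm _ _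
  step i x y z := B.step i _ _ _
  step_up i x y z := B.step_up i _ _ _
  ex i y z := by
    obtain ⟨x, h⟩ := B.ex i (e y) (e z)
    exact ⟨e.symm x, by simpa using h⟩
  thick i x := by
    obtain ⟨y, z, h, h1, h2⟩ := B.thick i (e x)
    exact ⟨e.symm y, e.symm z, by simpa using h, by simpa using h1, by simpa using h2⟩

variable (B : Bld X C) (B' : Bld X C')

/-- An apartment: an isometric copy of `W`. -/
def Apt (σ : W → C) : Prop := ∀ u w, B.δ (σ u) (σ w) = u⁻¹ * w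

/-- The residue of type `J` of `c`. -/
def res (J : Set I) (c : C) : Set C := {y | B.δ c y ∈ X.WJ J}

/-- The chambers `i`-adjacent to `c` (without `c`). -/
def pan (c : C) (i : I) : Set C := {y | B.δ c y = X.s i}

/-- The union of the residues of rank at most two of `c`. -/
def E2 (c : C) : Set C := {y | ∃ i j, y ∈ B.res {i, j} c}

/-- `f` is an isometry on `S`. -/
def Iso (f : C → C') (S : Set C) : Prop := ∀ x ∈ S, ∀ y ∈ S, B'.δ (f x) (f y) = B.δ x y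

/-- `f` maps the `J`-residue of `c` isometrically onto the `J`-residue of `f c`. -/
def IsoOn (f : C → C') (J : Set I) (c : C) : Prop :=
  B.Iso B' f (B.res J c) ∧ B'.res J (f c) ⊆ f '' B.res J c

/-- A local isomorphism on the residues of rank at most two of `c`. -/
def Germ (φ : C → C') (c : C) : Prop := ∀ i j, B.IsoOn B' φ {i, j} c

open Classical in
/-- The projection of `z` onto the `J`-residue of `x`. -/
noncomputable def proj (J : Set I) (x z : C) : C :=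
  if h : ∃ p ∈ B.res J x, ∀ j ∈ J, X.len (B.δ p z) ≤ X.len (X.s j * B.δ p z) then h.choose else x

/-- The automorphisms of the `K`-residue of `c`, extended by the identity. -/
def Aut (K : Set I) (c : C) : Subgroup (Perm C) where
  carrier := {g | (∀ x, x ∉ B.res K c → g x = x) ∧
    ∀ x ∈ B.res K c, ∀ y ∈ B.res K c, B.δ (g x) (g y) = B.δ x y}
  one_mem' := ⟨fun _ _ => rfl, fun _ _ _ _ => rfl⟩
  mul_mem' := by
    rintro g h ⟨g1, g2⟩ ⟨h1, h2⟩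
    have hm : ∀ x ∈ B.res K c, h x ∈ B.res K c := fun x hx => by
      by_contra hn
      exact hn ((h.injective (h1 _ hn)).symm ▸ hx)
    refine ⟨fun x hx => by rw [Perm.mul_apply, h1 x hx, g1 x hx], fun x hx y hy => ?_⟩
    rw [Perm.mul_apply, Perm.mul_apply, g2 _ (hm x hx) _ (hm y hy), h2 x hx y hy]
  inv_mem' := by
    rintro g ⟨g1, g2⟩
    have hm : ∀ x ∈ B.res K c, g⁻¹ x ∈ B.res K c := fun x hx => by
      by_contra hn
      have := g1 _ hn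
      rw [show g (g⁻¹ x) = x from g.apply_symm_apply x] at this
      exact hn (this ▸ hx)
    refine ⟨fun x hx => Perm.inv_eq_iff_eq.2 (g1 x hx).symm, fun x hx y hy => ?_⟩
    rw [← g2 _ (hm x hx) _ (hm y hy), show g (g⁻¹ x) = x from g.apply_symm_apply x,
      show g (g⁻¹ y) = y from g.apply_symm_apply y]

/-- The root group of the root `α` of the apartment `σ`, inside the `K`-residue of `σ 1`: it fixes
`α` and every chamber of every panel with two chambers in `α`. -/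
def U (σ : W → C) (K : Set I) (α : Set W) : Subgroup (Perm C) where
  carrier := {g | g ∈ B.Aut K (σ 1) ∧ (∀ w ∈ X.WJ K, w ∈ α → g (σ w) = σ w) ∧
    ∀ w ∈ X.WJ K, ∀ j ∈ K, w ∈ α → w * X.s j ∈ α → ∀ x ∈ B.pan (σ w) j, g x = x}
  one_mem' := ⟨one_mem _, fun _ _ _ => rfl, fun _ _ _ _ _ _ _ _ => rfl⟩
  mul_mem' := by
    rintro g h ⟨g1, g2, g3⟩ ⟨h1, h2, h3⟩
    refine ⟨mul_mem g1 h1, fun w hw ha => ?_, fun w hw j hj a b x hx => ?_⟩
    · rw [Perm.mul_apply, h2 w hw ha, g2 w hw ha]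
    · rw [Perm.mul_apply, h3 w hw j hj a b x hx, g3 w hw j hj a b x hx]
  inv_mem' := by
    rintro g ⟨g1, g2, g3⟩
    exact ⟨inv_mem g1, fun w hw ha => Perm.inv_eq_iff_eq.2 (g2 w hw ha).symm,
      fun w hw j hj a b x hx => Perm.inv_eq_iff_eq.2 (g3 w hw j hj a b x hx).symm⟩

/-- The root group of `v α_i`. -/
abbrev R (σ : W → C) (K : Set I) (v : W) (i : I) : Subgroup (Perm C) := B.U σ K (X.rt v i)

/-- The `K`-residue of `c` is Moufang. -/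
def Mou (K : Set I) (c : C) : Prop :=
  ∀ σ, B.Apt σ → σ 1 ∈ B.res K c → ∀ v ∈ X.WJ K, ∀ i ∈ K, ∀ x ∈ B.pan (σ v) i,
    ∀ y ∈ B.pan (σ v) i, ∃ g ∈ B.R σ K v i, g x = y

/-- `f`, given on the panels of `σ 1`, extends to an isomorphism of the `J`-residues matching the
apartments. -/
def Ext (σ : W → C) (σ' : W → C') (J : Set I) (f : C → C') : Prop :=
  ∃ φ : C → C', B.IsoOn B' φ J (σ 1) ∧ (∀ w ∈ X.WJ J, φ (σ w) = σ' w) ∧
    ∀ i ∈ J, ∀ x ∈ B.pan (σ 1) i, φ x = f x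

/-- Isomorphic buildings. -/
def Isom : Prop := ∃ f : C ≃ C', ∀ x y, B'.δ (f x) (f y) = B.δ x y

/-- Two vectors are proportional. -/
def Par {F : Type} [Field F] (a b : Fin 3 → F) : Prop := ∃ s : F, s ≠ 0 ∧ b = s • a

/-- Plane coordinates: the `{i, j}`-residue of `σ 1` is the flag complex of the plane over `F`
(`p x` the point and `l x` the line of the flag `x`), `σ` is the standard triangle, and `κ`, `κ'`
are the affine coordinates on the panels of types `i` and `j` of `σ 1`. -/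
structure PCD (σ : W → C) (i j : I) (F : Type) [Field F] (κ κ' : C → F) (p l : C → Fin 3 → F) :
    Prop where
  ne : ∀ x ∈ B.res {i, j} (σ 1), p x ≠ 0 ∧ l x ≠ 0 ∧ l x ⬝ᵥ p x = 0
  pt : ∀ x ∈ B.res {i, j} (σ 1), ∀ y ∈ B.res {i, j} (σ 1), B.δ x y ∈ X.WJ {j} ↔ Par (p x) (p y)
  ln : ∀ x ∈ B.res {i, j} (σ 1), ∀ y ∈ B.res {i, j} (σ 1), B.δ x y ∈ X.WJ {i} ↔ Par (l x) (l y)
  sur : ∀ a b : Fin 3 → F, a ≠ 0 → b ≠ 0 → b ⬝ᵥ a = 0 →
    ∃ x ∈ B.res {i, j} (σ 1), Par (p x) a ∧ Par (l x) b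
  base : Par (p (σ 1)) ![1, 0, 0] ∧ Par (l (σ 1)) ![0, 0, 1]
  opp : Par (p (σ (X.s i * X.s j * X.s i))) ![0, 0, 1] ∧
    Par (l (σ (X.s i * X.s j * X.s i))) ![1, 0, 0]
  ki : ∀ x ∈ B.pan (σ 1) i, Par (p x) ![κ x, 1, 0]
  kj : ∀ x ∈ B.pan (σ 1) j, Par (l x) ![0, 1, -κ' x]

/-- Plane charts. -/
def PC (σ : W → C) (i j : I) (F : Type) [Field F] (κ κ' : C → F) : Prop :=
  X.m i j = 3 ∧ ∃ p l, B.PCD σ i j F κ κ' p l

/-- The number of chambers `i`-adjacent to `c`. -/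
noncomputable def q (c : C) (i : I) : ℕ := Nat.card (B.pan c i)

/-- The first and third root groups of the quadrangle commute. -/
def Kind (σ : W → C) (j k : I) : Prop :=
  ∀ g ∈ B.R σ {j, k} 1 j, ∀ h ∈ B.R σ {j, k} (X.s j * X.s k) j, g * h = h * g

variable [Finite W]

/-- `d ↦ d'` is compatible with the germ `φ` at the opposite chamber `c`. -/
def Cpt (φ : C → C') (c d : C) (d' : C') : Prop :=
  B.δ c d = X.w0 ∧ ∀ x ∈ B.E2 c, B'.δ (φ x) d' = B.δ x d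

/-- Two germs at opposite chambers are transfers of each other. -/
def Link (φ : C → C') (c : C) (ψ : C → C') (d : C) : Prop :=
  B.δ c d = X.w0 ∧ ∀ i j, ∀ x ∈ B.res {i, j} c,
    ∀ y ∈ B.res {X.op Set.univ i, X.op Set.univ j} d, B'.δ (φ x) (ψ y) = B.δ x y

end Bld

/-- Statements about one finite Coxeter system. -/
def All0 (P : ∀ {I W : Type} [Group W] [Finite W] (_ : Cox I W), Prop) : Prop :=
  ∀ {I W : Type} [Group W] [Finite W] (X : Cox I W), P X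

/-- Statements about one finite building. -/
def All1 (P : ∀ {I W : Type} [Group W] [Finite W] {X : Cox I W} {C : Type u} [Finite C]
    (_ : Bld X C), Prop) : Prop :=
  ∀ {I W : Type} [Group W] [Finite W] {X : Cox I W} {C : Type u} [Finite C] (B : Bld X C), P B

/-- Statements about two finite buildings of the same type. -/
def All2 (P : ∀ {I W : Type} [Group W] [Finite W] {X : Cox I W} {C C' : Type u} [Finite C]
    [Finite C'] (_ : Bld X C) (_ : Bld X C'), Prop) : Prop :=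
  ∀ {I W : Type} [Group W] [Finite W] {X : Cox I W} {C C' : Type u} [Finite C] [Finite C']
    (B : Bld X C) (B' : Bld X C'), P B B'

/-! ### Coxeter basics -/

/-- **CX** -/
def CxStmt : Prop := All0 fun {I _} _ _ X =>
  (∀ K, X.wJ K * X.wJ K = 1) ∧
  (∀ K, ∀ v ∈ X.WJ K, X.len (X.wJ K * v) + X.len v = X.len (X.wJ K) ∧
    X.len (v * X.wJ K) + X.len v = X.len (X.wJ K)) ∧
  (∀ K, ∀ i ∈ K, X.op K i ∈ K ∧ X.wJ K * X.s i = X.s (X.op K i) * X.wJ K ∧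
    X.op K (X.op K i) = i) ∧
  (∀ J K : Set I, X.WJ J ⊓ X.WJ K = X.WJ (J ∩ K)) ∧
  (∀ (J : Set I) i, X.s i ∈ X.WJ J ↔ i ∈ J) ∧
  (∀ i w, w ∈ X.WJ {i} ↔ w = 1 ∨ w = X.s i) ∧
  (∀ J K : Set I, J ⊆ K → X.wJ K * X.wJ J * X.wJ K = X.wJ (X.op K '' J)) ∧
  ∀ i j, i ≠ j → (∀ n ≤ X.m i j, X.len (X.wp (InvGen.altw i j n)) = n) ∧
    X.wJ {i, j} = X.wp (InvGen.altw i j (X.m i j)) ∧
    ∀ w ∈ X.WJ {i, j}, ∃ n ≤ X.m i j, w = X.wp (InvGen.altw i j n) ∨ w = X.wp (InvGen.altw j i n)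

/-- **RT**: roots. -/
def RtStmt : Prop := All0 fun {_ _} _ _ X =>
  (∀ v i, v ∈ X.rt v i) ∧
  (∀ v i w, w ∈ X.rt (v * X.s i) i ↔ w ∉ X.rt v i) ∧
  (∀ v i w j, (w ∈ X.rt v i ↔ w * X.s j ∈ X.rt v i) ↔ X.rf w j ≠ X.rf v i) ∧
  (∀ v i v' i', X.rf v i = X.rf v' i' → v' ∈ X.rt v i → X.rt v' i' = X.rt v i) ∧
  (∀ v i a b w, a ∈ X.rt v i → b ∈ X.rt v i →
    X.len (a⁻¹ * w) + X.len (w⁻¹ * b) = X.len (a⁻¹ * b) → w ∈ X.rt v i) ∧
  (∀ u v i w, u * w ∈ X.rt (u * v) i ↔ w ∈ X.rt v i) ∧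
  ∀ v i K, v ∈ X.WJ K → i ∈ K → ∀ w ∈ X.WJ K, w * X.wJ K ∈ X.rt v i ↔ w ∉ X.rt v i

/-- **SUB**: Coxeter systems with the same matrix are isomorphic. -/
def SubStmt : Prop :=
  ∀ {I W : Type} [Group W] (X : Cox I W) {I' W' : Type u} [Group W'] (Y : InvGen I' W')
    (_ : Y.Exchange) (_ : Function.Injective Y.s) (e : I ≃ I'),
    (∀ i j, orderOf (Y.s (e i) * Y.s (e j)) = X.m i j) →
    ∃ φ : W' ≃* W, (∀ i, φ (Y.s (e i)) = X.s i) ∧ ∀ w, X.len (φ w) = Y.len w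

/-! ### Building basics -/

/-- **BA1** -/
def Ba1Stmt : Prop := All1.{u} fun {_ W} _ _ {X} {C} _ B =>
  (∀ x y z, X.len (B.δ x y * B.δ y z) = X.len (B.δ x y) + X.len (B.δ y z) →
    B.δ x z = B.δ x y * B.δ y z) ∧
  (∀ x z w w', B.δ x z = w * w' → ∃ y, B.δ x y = w ∧ B.δ y z = w') ∧
  (∀ x w, ∃ y, B.δ x y = w) ∧
  (∀ J x, x ∈ B.res J x) ∧
  (∀ J x, ∀ y ∈ B.res J x, B.res J y = B.res J x) ∧
  (∀ J x z, ∀ y ∈ B.res J x, ∃ u ∈ X.WJ J, B.δ x z = u * B.δ y z) ∧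
  (∀ J x z, B.proj J x z ∈ B.res J x ∧
    (∀ j ∈ J, X.len (B.δ (B.proj J x z) z) ≤ X.len (X.s j * B.δ (B.proj J x z) z)) ∧
    ∀ y ∈ B.res J x, B.δ y z = B.δ y (B.proj J x z) * B.δ (B.proj J x z) z ∧
      X.len (B.δ y z) = X.len (B.δ y (B.proj J x z)) + X.len (B.δ (B.proj J x z) z)) ∧
  (∀ J x z, ∀ p ∈ B.res J x, (∀ j ∈ J, X.len (B.δ p z) ≤ X.len (X.s j * B.δ p z)) →
    B.proj J x z = p) ∧
  (∀ c d x x' : C, B.δ c x = B.δ c x' → B.δ x d = B.δ x' d →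
    X.len (B.δ c d) = X.len (B.δ c x) + X.len (B.δ x d) → x = x') ∧
  ∀ c d, B.δ c d = X.w0 → ∃ σ : W → C, B.Apt σ ∧ σ 1 = c ∧ σ X.w0 = d

/-- **BA2**: opposite residues inside a `K`-residue, and parallel panels. -/
def Ba2Stmt : Prop := All1.{u} fun {I W} _ _ {X} {C} _ B =>
  (∀ (J K : Set I) (c d : C), J ⊆ K → B.δ c d = X.wJ K →
    (∀ y ∈ B.res (X.op K '' J) d, B.δ (B.proj J c y) y = X.wJ J * X.wJ K ∧
      B.proj (X.op K '' J) d (B.proj J c y) = y) ∧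
    (∀ x ∈ B.res J c, B.δ x (B.proj (X.op K '' J) d x) = X.wJ J * X.wJ K ∧
      B.proj J c (B.proj (X.op K '' J) d x) = x) ∧
    ∀ x ∈ B.res J c, ∀ x' ∈ B.res J c,
      B.δ (B.proj (X.op K '' J) d x) (B.proj (X.op K '' J) d x') =
        (X.wJ J * X.wJ K)⁻¹ * B.δ x x' * (X.wJ J * X.wJ K)) ∧
  ∀ (a b : C) (g : W) (i j : I), B.δ a b = g → X.s i * g = g * X.s j →
    X.len g < X.len (X.s i * g) → ∀ y ∈ B.res {j} b, ∃ x ∈ B.res {i} a, B.δ x y = g ∧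
      ∀ y' ∈ B.res {j} b, B.δ x y' = g → y' = y

/-- **BA3**: local to global, and rigidity. -/
def Ba3Stmt : Prop := All2.{u} fun {I _} _ _ {X} {C C'} _ _ B B' =>
  (∀ (K : Set I) (c : C) (f : C → C'),
    (∀ x ∈ B.res K c, ∀ i ∈ K, ∀ y ∈ B.pan x i, f y ∈ B'.pan (f x) i) →
    B.Iso B' f (B.res K c) ∧
      ((∀ x ∈ B.res K c, ∀ i ∈ K, B'.pan (f x) i ⊆ f '' B.pan x i) → B.IsoOn B' f K c)) ∧
  ∀ (K : Set I) (c d : C) (f f' : C → C'), B.Iso B' f (B.res K c) → B.Iso B' f' (B.res K c) →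
    B.δ c d = X.wJ K → f c = f' c → f d = f' d → (∀ i ∈ K, ∀ x ∈ B.pan c i, f x = f' x) →
    Set.EqOn f f' (B.res K c)

/-! ### The extension theorem -/

/-- **LINK**: transfer of germs. -/
def LinkStmt : Prop := All2.{u} fun {I _} _ _ {X} {C C'} _ _ B B' =>
  (∀ (φ : C → C') c d d', B.Germ B' φ c → B.Cpt B' φ c d d' →
    ∃ ψ, B.Germ B' ψ d ∧ ψ d = d' ∧ B.Link B' φ c ψ d) ∧
  (∀ (φ ψ : C → C') c d, B.Link B' φ c ψ d → B.Link B' ψ d φ c ∧ B.Cpt B' φ c d (ψ d)) ∧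
  (∀ (φ ψ φ₂ ψ₂ : C → C') c d c₂ d₂ (i j : I), B.Germ B' φ c → B.Germ B' ψ d → B.Germ B' ψ₂ d₂ →
    B.Link B' φ c ψ d → B.Link B' φ₂ c₂ ψ₂ d₂ → c₂ ∈ B.res {i, j} c →
    Set.EqOn φ φ₂ (B.res {i, j} c) → d₂ ∈ B.res {X.op Set.univ i, X.op Set.univ j} d →
    ψ₂ d₂ ∈ B'.res {X.op Set.univ i, X.op Set.univ j} (ψ d) →
    Set.EqOn ψ ψ₂ (B.res {X.op Set.univ i, X.op Set.univ j} d)) ∧
  ∀ (φ φ₂ : C → C') c d d', B.Germ B' φ c → B.Germ B' φ₂ c → B.Cpt B' φ c d d' →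
    B.Cpt B' φ₂ c d d' → φ c = φ₂ c → (∀ i, ∀ x ∈ B.pan c i, φ x = φ₂ x) →
    Set.EqOn φ φ₂ (B.E2 c)

/-- **SG0**: germs along apartments. -/
def Sg0Stmt : Prop := All2.{u} fun {_ W} _ _ {X} {C C'} _ _ B B' =>
  ∀ (σ : W → C) (σ' : W → C') (φ : C → C') (w : W), B.Apt σ → B'.Apt σ' → B.Germ B' φ (σ w) →
    φ (σ w) = σ' w → (B.Cpt B' φ (σ w) (σ (w * X.w0)) (σ' (w * X.w0)) ↔
      ∀ i j, ∀ v ∈ X.WJ {i, j}, φ (σ (w * v)) = σ' (w * v))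

/-- **KEY** -/
def KeyStmt : Prop := All2.{u} fun {_ _} _ _ {X} {C C'} _ _ B B' =>
  ∀ (φ ψ : C → C') c d e, B.Germ B' φ c → B.Germ B' ψ d → B.Link B' φ c ψ d → e ∈ B.E2 d →
    B.δ c e = X.w0 → B.Cpt B' φ c e (ψ e)

/-- **PANEL**: a panel opposite a whole ordinary polygon. -/
def PanelStmt : Prop := All1.{u} fun {_ W} _ _ {X} {C} _ B =>
  ∀ (σ : W → C) i j, B.Apt σ → i ≠ j → (X.m i j = 2 ∨ X.m i j = 3 ∨ X.m i j = 4) →
    ∃ e ∈ B.res {i, j} (σ 1), ∃ k, (k = i ∨ k = j) ∧ ∀ w ∈ X.WJ {i, j},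
      B.δ (σ w) e = X.wJ {i, j} ∨ B.δ (σ w) e = X.wJ {i, j} * X.s k

/-- A coherent family of germs along the apartments. -/
structure SigFam {I W : Type} [Group W] {X : Cox I W} {C C' : Type u} (B : Bld X C) (B' : Bld X C')
    (σ : W → C) (σ' : W → C') (Φ : W → C → C') : Prop where
  germ : ∀ w, B.Germ B' (Φ w) (σ w)
  apt : ∀ w i j, ∀ v ∈ X.WJ {i, j}, Φ w (σ (w * v)) = σ' (w * v)
  coh : ∀ w i j, Set.EqOn (Φ w) (Φ (w * X.s i)) (B.res {i, j} (σ w))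

/-- **SIG** -/
def SigStmt : Prop := All2.{u} fun {I W} _ _ {X} {C C'} _ _ B B' =>
  Nontrivial I → X.M234 → ∀ (σ : W → C) (σ' : W → C') (φ : C → C'), B.Apt σ → B'.Apt σ' →
    B.Germ B' φ (σ 1) → (∀ i j, ∀ v ∈ X.WJ {i, j}, φ (σ v) = σ' v) →
    ∃ Φ, SigFam B B' σ σ' Φ ∧ Set.EqOn (Φ 1) φ (B.E2 (σ 1))

/-- **GLOB** -/
def GlobStmt : Prop := All2.{u} fun {I W} _ _ {X} {C C'} _ _ B B' =>
  Nontrivial I → ∀ (σ : W → C) (σ' : W → C') (Φ : W → C → C'), B.Apt σ → B'.Apt σ' →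
    SigFam B B' σ σ' Φ → ∃ f : C ≃ C', (∀ x y, B'.δ (f x) (f y) = B.δ x y) ∧
      (∀ w, f (σ w) = σ' w) ∧ B.Link B' f (σ 1) (Φ X.w0) (σ X.w0)

/-- **EXT**: the extension theorem. -/
def ExtStmt : Prop := All2.{u} fun {I W} _ _ {X} {C C'} _ _ B B' =>
  Nontrivial I → X.M234 → ∀ (σ : W → C) (σ' : W → C') (φ : C → C'), B.Apt σ → B'.Apt σ' →
    B.Germ B' φ (σ 1) → (∀ i j, ∀ v ∈ X.WJ {i, j}, φ (σ v) = σ' v) →
    ∃ f : C ≃ C', (∀ x y, B'.δ (f x) (f y) = B.δ x y) ∧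
      (∀ w, f (σ w) = σ' w) ∧ Set.EqOn f φ (B.E2 (σ 1))

/-- **GLUE**: panel maps that extend to all rank two residues give an isomorphism; digons. -/
def GlueStmt : Prop := All2.{u} fun {I W} _ _ {X} {C C'} _ _ B B' =>
  (Nontrivial I → X.M234 → ∀ (σ : W → C) (σ' : W → C') (f : C → C'), B.Apt σ → B'.Apt σ' →
    (∀ i j, i ≠ j → B.Ext B' σ σ' {i, j} f) → B.Isom B') ∧
  ∀ (σ : W → C) (σ' : W → C') (f : C → C') i j, B.Apt σ → B'.Apt σ' → X.m i j = 2 →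
    (∀ k, k = i ∨ k = j → Set.BijOn f (B.pan (σ 1) k) (B'.pan (σ' 1) k) ∧
      f (σ (X.s k)) = σ' (X.s k)) → B.Ext B' σ σ' {i, j} f

/-! ### The Moufang property in rank three -/

/-- The wall condition for the root `α_i`. -/
def Wall {I W : Type} [Group W] (X : Cox I W) (i : I) : Prop :=
  ∃ c, (∀ a b, ∀ u ∈ X.WJ {a, b}, c * u ∈ X.rt 1 i) ∧ ∀ M : Set W, (∀ j, X.rf c j ∈ M) →
    (∀ v a b, (∀ u ∈ X.WJ {a, b}, v * u ∈ X.rt 1 i) → X.rf v a ∈ M → X.rf v b ∈ M →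
      ∀ u ∈ X.WJ {a, b}, X.rf (v * u) a ∈ M ∧ X.rf (v * u) b ∈ M) →
    ∀ v j, v ∈ X.rt 1 i → v * X.s j ∈ X.rt 1 i → X.rf v j ∈ M

/-- **WALL** -/
def WallStmt : Prop := ∀ {W : Type} [Group W] [Finite W] (X : Cox (Fin 3) W),
  (X.Tri 3 0 1 2 ∨ X.Tri 4 0 1 2) → ∀ i, Wall X i

/-- **MOU1** -/
def Mou1Stmt : Prop := All1.{u} fun {I _} _ _ {X} {_} _ B =>
  Nontrivial I → X.M234 → (∀ i, Wall X i) → ∀ c, B.Mou Set.univ c

/-- **MOU** -/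
def MouStmt : Prop := All1.{u} fun {_ _} _ _ {X} {_} _ B =>
  ∀ i j k, (X.Tri 3 i j k ∨ X.Tri 4 i j k) → ∀ c, B.Mou {i, j, k} c

/-! ### Root groups -/

/-- **FREE**: freeness, conjugation, rebasing. -/
def FreeStmt : Prop := All1.{u} fun {I W} _ _ {X} {C} _ B =>
  ∀ (σ : W → C) (K : Set I), B.Apt σ →
    (∀ v ∈ X.WJ K, ∀ i ∈ K, (∃ j ∈ K, 3 ≤ X.m i j) → ∀ g ∈ B.R σ K v i,
      ∀ x ∈ B.pan (σ v) i, g x = x → g = 1) ∧
    (∀ n ∈ B.Aut K (σ 1), ∀ u ∈ X.WJ K, (∀ w ∈ X.WJ K, n (σ w) = σ (u * w)) →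
      ∀ v i, ∀ g ∈ B.R σ K v i, n * g * n⁻¹ ∈ B.R σ K (u * v) i) ∧
    (∀ g ∈ B.Aut K (σ 1), ∀ c ∈ B.res K (σ 1), ∀ d, B.δ c d = X.wJ K → g c = c → g d = d →
      (∀ i ∈ K, ∀ x ∈ B.pan c i, g x = x) → g = 1) ∧
    ∀ g ∈ B.Aut K (σ 1), ∀ v ∈ X.WJ K, ∀ u ∈ X.WJ K, g (σ v) = σ (u * v) →
      g (σ (v * X.wJ K)) = σ (u * (v * X.wJ K)) → ∀ w ∈ X.WJ K, g (σ w) = σ (u * w)

/-- **MEL**: the elements `m(u)`. -/
def MelStmt : Prop := All1.{u} fun {I W} _ _ {X} {C} _ B =>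
  ∀ (σ : W → C) (K : Set I), B.Apt σ → B.Mou K (σ 1) → ∀ v ∈ X.WJ K, ∀ i ∈ K,
    (∃ j ∈ K, 3 ≤ X.m i j) → ∀ g ∈ B.R σ K v i, g ≠ 1 →
      ∃ a ∈ B.R σ K (v * X.s i) i, ∃ b ∈ B.R σ K (v * X.s i) i,
        ∀ w ∈ X.WJ K, (a * g * b) (σ w) = σ (X.rf v i * w)

/-- **COM**: commutator relations in the windows of rank two. -/
def ComStmt : Prop := All1.{u} fun {I W} _ _ {X} {C} _ B =>
  ∀ (σ : W → C) (K : Set I), B.Apt σ → B.Mou K (σ 1) → ∀ v ∈ X.WJ K, ∀ i ∈ K, ∀ j ∈ K,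
    (X.m i j = 2 → ∀ a ∈ B.R σ K v i, ∀ b ∈ B.R σ K v j, a * b = b * a) ∧
    (X.m i j = 3 ∨ X.m i j = 4 → ∀ a ∈ B.R σ K v i, ∀ b ∈ B.R σ K (v * X.s i) j, a * b = b * a) ∧
    (X.m i j = 3 → ∀ a ∈ B.R σ K v i, ∀ b ∈ B.R σ K v j,
      a * b * a⁻¹ * b⁻¹ ∈ B.R σ K (v * X.s i) j) ∧
    (X.m i j = 4 → ∀ a ∈ B.R σ K v i, ∀ b ∈ B.R σ K (v * X.s i * X.s j) i,
      a * b * a⁻¹ * b⁻¹ ∈ B.R σ K (v * X.s i) j) ∧
    (X.m i j = 4 → ∀ a ∈ B.R σ K v i, ∀ b ∈ B.R σ K v j, ∃ x ∈ B.R σ K (v * X.s i) j,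
      ∃ y ∈ B.R σ K (v * X.s i * X.s j) i, a * b * a⁻¹ * b⁻¹ = x * y)

/-- **RES**: restriction to a smaller residue. -/
def ResStmt : Prop := All1.{u} fun {I W} _ _ {X} {C} _ B =>
  (∀ (J K : Set I) (c : C), J ⊆ K → B.Mou K c → B.Mou J c) ∧
  ∀ (σ : W → C) (J K : Set I), B.Apt σ → J ⊆ K →
    ∃ (S : Subgroup (Perm C)) (r : S →* Perm C),
      (∀ g, g ∈ S ↔ g ∈ B.Aut K (σ 1) ∧ g (σ 1) ∈ B.res J (σ 1)) ∧
      (∀ g : S, r g ∈ B.Aut J (σ 1) ∧ ∀ x ∈ B.res J (σ 1), r g x = g.1 x) ∧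
      ∀ v ∈ X.WJ J, ∀ i ∈ J, B.R σ K v i ≤ S ∧ (∀ g : S, g.1 ∈ B.R σ K v i → r g ∈ B.R σ J v i) ∧
        (B.Mou K (σ 1) → (∃ j ∈ J, 3 ≤ X.m i j) →
          (∀ g : S, g.1 ∈ B.R σ K v i → r g = 1 → g = 1) ∧
          ∀ h ∈ B.R σ J v i, ∃ g : S, g.1 ∈ B.R σ K v i ∧ r g = h)

/-! ### Planes -/

/-- **PCE**: existence of plane charts. -/
def PceStmt : Prop := All1.{u} fun {_ W} _ _ {X} {C} _ B =>
  ∀ (σ : W → C) i j, B.Apt σ → X.m i j = 3 → B.Mou {i, j} (σ 1) →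
    ∃ (F : Type) (_ : Field F) (_ : Finite F) (κ κ' : C → F), B.PC σ i j F κ κ'

/-- **PC1**: formal properties of plane charts. -/
def Pc1Stmt : Prop := All1.{u} fun {_ W} _ _ {X} {C} _ B =>
  ∀ (σ : W → C) i j (F : Type) [Field F] (κ κ' : C → F), B.Apt σ → B.PC σ i j F κ κ' →
    B.PC σ j i F κ' κ ∧
    (Set.BijOn κ (B.pan (σ 1) i) Set.univ ∧ κ (σ (X.s i)) = 0) ∧
    ∀ (E : Type) [Field E] (θ : F ≃+* E) (a b : E) (μ μ' : C → E), a ≠ 0 → b ≠ 0 →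
      (∀ x ∈ B.pan (σ 1) i, μ x = a * θ (κ x)) → (∀ x ∈ B.pan (σ 1) j, μ' x = b * θ (κ' x)) →
      B.PC σ i j E μ μ'

/-- **PC2**: planes over the same field are isomorphic. -/
def Pc2Stmt : Prop := All2.{u} fun {_ W} _ _ {_} {C C'} _ _ B B' =>
  ∀ (σ : W → C) (σ' : W → C') i j (F : Type) [Field F] (κ κ' : C → F) (μ μ' : C' → F)
    (f : C → C'), B.Apt σ → B'.Apt σ' → B.PC σ i j F κ κ' → B'.PC σ' i j F μ μ' →
    (∀ x ∈ B.pan (σ 1) i, f x ∈ B'.pan (σ' 1) i ∧ μ (f x) = κ x) →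
    (∀ x ∈ B.pan (σ 1) j, f x ∈ B'.pan (σ' 1) j ∧ μ' (f x) = κ' x) → B.Ext B' σ σ' {i, j} f

/-- The root `e_a - e_b` of the plane `{i, j}` as a pair (chamber, type). -/
def prt {I W : Type} [Group W] (X : Cox I W) (i j : I) : Fin 3 → Fin 3 → W × I :=
  ![![(1, i), (1, i), (X.s i, j)], ![(X.s i, i), (1, i), (1, j)],
    ![(X.s i * X.s j, j), (X.s j, j), (1, i)]]

/-- The element `n_{ab}(t)`. -/
def nn {F Γ : Type*} [Field F] [Group Γ] (x : Fin 3 → Fin 3 → F → Γ) (a b : Fin 3) (t : F) : Γ :=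
  x a b t * x b a (-t⁻¹) * x a b t

/-- The element `h_{ab}(t)`. -/
def hh {F Γ : Type*} [Field F] [Group Γ] (x : Fin 3 → Fin 3 → F → Γ) (a b : Fin 3) (t : F) : Γ :=
  nn x a b t * (nn x a b 1)⁻¹

/-- Steinberg's relations of type `A₂`. -/
structure StRel {F Γ : Type*} [Field F] [Group Γ] (x : Fin 3 → Fin 3 → F → Γ) : Prop where
  add : ∀ a b, a ≠ b → ∀ s t, x a b (s + t) = x a b s * x a b t
  inj : ∀ a b, a ≠ b → ∀ s, x a b s = 1 → s = 0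
  com : ∀ a b c, a ≠ b → b ≠ c → a ≠ c → ∀ s t,
    x a b s * x b c t * (x a b s)⁻¹ * (x b c t)⁻¹ = x a c (s * t)
  cm1 : ∀ a b c, a ≠ b → b ≠ c → a ≠ c → ∀ s t, x a b s * x a c t = x a c t * x a b s
  cm2 : ∀ a b c, a ≠ b → b ≠ c → a ≠ c → ∀ s t, x a c s * x b c t = x b c t * x a c s

/-- A Steinberg parametrisation of the root groups of the plane `{i, j}` inside the `K`-residue. -/
structure StP {I W : Type} [Group W] {X : Cox I W} {C : Type u} (B : Bld X C) (σ : W → C)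
    (K : Set I) (i j : I) {F : Type} [Field F] (κ κ' : C → F)
    (x : Fin 3 → Fin 3 → F → Perm C) : Prop where
  rel : StRel x
  mem : ∀ a b, a ≠ b → ∀ g, g ∈ B.R σ K (prt X i j a b).1 (prt X i j a b).2 ↔ ∃ t, x a b t = g
  ki : ∀ s, κ (x 0 1 s (σ (X.s i))) = s
  kj : ∀ t, κ' (x 1 2 t (σ (X.s j))) = t
  nσ : ∀ a b, a ≠ b → ∀ t, t ≠ 0 → ∀ w ∈ X.WJ K,
    nn x a b t (σ w) = σ (X.rf (prt X i j a b).1 (prt X i j a b).2 * w)

/-- **STP0**: the parametrisation inside the plane itself. -/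
def Stp0Stmt : Prop := All1.{u} fun {_ W} _ _ {_} {C} _ B =>
  ∀ (σ : W → C) i j (F : Type) [Field F] (κ κ' : C → F), B.Apt σ → B.PC σ i j F κ κ' →
    ∃ x, StP B σ {i, j} i j κ κ' x

/-- **STP**: the parametrisation inside a Moufang residue. -/
def StpStmt : Prop := All1.{u} fun {I W} _ _ {_} {C} _ B =>
  ∀ (σ : W → C) (K : Set I) i j (F : Type) [Field F] (κ κ' : C → F), B.Apt σ → i ∈ K → j ∈ K →
    B.Mou K (σ 1) → B.PC σ i j F κ κ' → ∃ x, StP B σ K i j κ κ' x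

/-- **STH**: the torus elements. -/
def SthStmt : Prop :=
  ∀ {F : Type} {Γ : Type u} [Field F] [Group Γ] (x : Fin 3 → Fin 3 → F → Γ), StRel x →
    ∀ a b c, a ≠ b → b ≠ c → a ≠ c → ∀ t, t ≠ 0 → ∀ s,
      hh x a b t * x a c s * (hh x a b t)⁻¹ = x a c (t * s) ∧
      hh x a b t * x c a s * (hh x a b t)⁻¹ = x c a (t⁻¹ * s) ∧
      hh x a b t * x b c s * (hh x a b t)⁻¹ = x b c (t⁻¹ * s) ∧
      hh x a b t * x c b s * (hh x a b t)⁻¹ = x c b (t * s) ∧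
      ∀ r, r ≠ 0 → hh x a b t * hh x a c r * (hh x a b t)⁻¹ = hh x a c (t * r) * (hh x a c t)⁻¹ ∧
        hh x a b t * hh x c b r * (hh x a b t)⁻¹ = hh x c b (t * r) * (hh x c b t)⁻¹

/-- **CA**: the two planes of a residue of type `A₃` induce the same structure on the middle
panel. -/
def CaStmt : Prop := All1.{u} fun {_ W} _ _ {X} {C} _ B =>
  ∀ (σ : W → C) i j k (F E : Type) [Field F] [Field E] (κ κ' : C → F) (μ μ' : C → E), B.Apt σ →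
    X.Tri 3 i j k → B.PC σ i j F κ κ' → B.PC σ j k E μ μ' →
    ∃ (θ : F ≃+* E) (a : E), a ≠ 0 ∧ ∀ x ∈ B.pan (σ 1) j, μ x = a * θ (κ' x)

/-! ### Quadrangles -/

/-- The window of four root groups with two tori. -/
structure Win {F : Type} {Γ : Type u} [Field F] [Group Γ] (U1 U2 U3 U4 : Subgroup Γ)
    (x1 x3 x3' h h' : F → Γ) : Prop where
  add1 : ∀ s t, x1 (s + t) = x1 s * x1 t
  inj1 : Function.Injective x1
  mem1 : ∀ g, g ∈ U1 ↔ ∃ t, x1 t = g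
  add3 : ∀ s t, x3 (s + t) = x3 s * x3 t
  inj3 : Function.Injective x3
  mem3 : ∀ g, g ∈ U3 ↔ ∃ t, x3 t = g
  add3' : ∀ s t, x3' (s + t) = x3' s * x3' t
  inj3' : Function.Injective x3'
  mem3' : ∀ g, g ∈ U3 ↔ ∃ t, x3' t = g
  c12 : ∀ a ∈ U1, ∀ b ∈ U2, a * b = b * a
  c23 : ∀ a ∈ U2, ∀ b ∈ U3, a * b = b * a
  c34 : ∀ a ∈ U3, ∀ b ∈ U4, a * b = b * a
  c13 : ∀ a ∈ U1, ∀ b ∈ U3, a * b * a⁻¹ * b⁻¹ ∈ U2
  c24 : ∀ a ∈ U2, ∀ b ∈ U4, a * b * a⁻¹ * b⁻¹ ∈ U3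
  c14 : ∀ a ∈ U1, ∀ b ∈ U4, ∃ x ∈ U2, ∃ y ∈ U3, a * b * a⁻¹ * b⁻¹ = x * y
  i23 : U2 ⊓ U3 = ⊥
  bij : ∀ x ∈ U2, ∃! b, b ∈ U4 ∧ ∃ y ∈ U3, x1 1 * b * (x1 1)⁻¹ * b⁻¹ = x * y
  ne3 : ∀ b ∈ U4, x1 1 * b * (x1 1)⁻¹ * b⁻¹ ∈ U2 → b = 1
  h1 : ∀ t, t ≠ 0 → ∀ s, h t * x1 s * (h t)⁻¹ = x1 (t * s)
  h2 : ∀ t, t ≠ 0 → ∀ g ∈ U2, h t * g * (h t)⁻¹ ∈ U2
  h3 : ∀ t, t ≠ 0 → ∀ s, h t * x3 s * (h t)⁻¹ = x3 (t * s)
  h4 : ∀ t, t ≠ 0 → ∀ g ∈ U4, h t * g * (h t)⁻¹ = g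
  k1 : ∀ t, t ≠ 0 → ∀ s, h' t * x1 s * (h' t)⁻¹ = x1 (t⁻¹ * s)
  k2 : ∀ t, t ≠ 0 → ∀ g ∈ U2, h' t * g * (h' t)⁻¹ = g
  k3 : ∀ t, t ≠ 0 → ∀ s, h' t * x3' s * (h' t)⁻¹ = x3' (t * s)
  k4 : ∀ t, t ≠ 0 → ∀ g ∈ U4, h' t * g * (h' t)⁻¹ ∈ U4
  hk : ∀ t r, t ≠ 0 → r ≠ 0 → ∀ g ∈ U3,
    h t * (h' r * g * (h' r)⁻¹) * (h t)⁻¹ = h' r * (h t * g * (h t)⁻¹) * (h' r)⁻¹

/-- **WIN** -/
def WinStmt : Prop := All1.{u} fun {_ W} _ _ {X} {C} _ B =>
  ∀ (σ : W → C) i j k (F : Type) [Field F] (κ κ' : C → F) (x : Fin 3 → Fin 3 → F → Perm C),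
    B.Apt σ → X.Tri 4 i j k → B.Mou {i, j, k} (σ 1) → StP B σ {i, j, k} i j κ κ' x →
    ∃ x3 x3', Win (B.R σ {i, j, k} 1 j) (B.R σ {i, j, k} (X.s j) k)
      (B.R σ {i, j, k} (X.s j * X.s k) j) (B.R σ {i, j, k} 1 k) (x 1 2) x3 x3' (hh x 1 0) (hh x 2 0)

/-- A finite pseudo-quadratic space in disguise. -/
structure QD (F : Type) [Field F] (Y : Type u) [Group Y] where
  σ : F ≃+* F
  sm : F → Y → Y
  Q : Y → F
  Bf : Y → Y → F
  z : F → Y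
  sm_mul : ∀ t y y', sm t (y * y') = sm t y * sm t y'
  sm_one : ∀ y, sm 1 y = y
  sm_zero : ∀ y, sm 0 y = 1
  sm_sm : ∀ s t y, sm s (sm t y) = sm (s * t) y
  sm_add : ∀ s t y, sm (s + t) y = sm t y * z (σ s * t * Q y) * sm s y
  Q_sm : ∀ t y, Q (sm t y) = t * σ t * Q y
  Q_mul : ∀ y y', Q (y * y') = Q y + Q y' + Bf y y'
  Q_ne : ∀ y, Q y = 0 → y = 1
  B_left : ∀ a b y, Bf (a * b) y = Bf a y + Bf b y
  B_right : ∀ y a b, Bf y (a * b) = Bf y a + Bf y b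
  B_sml : ∀ t y y', Bf (sm t y) y' = σ t * Bf y y'
  B_smr : ∀ t y y', Bf y (sm t y') = t * Bf y y'
  B_z : ∀ y t, Bf y (z t) = 0
  z_add : ∀ s t, z (s + t) = z s * z t
  z_comm : ∀ t y, z t * y = y * z t
  sm_z : ∀ s t, sm s (z t) = z (s * σ s * t)

/-- The commutator relations of a window in terms of `QD`. -/
structure QRel {F : Type} {Γ : Type u} [Field F] [Group Γ] (U1 U2 U3 U4 : Subgroup Γ) (d : QD F U4)
    (x1 x3 : F → Γ) (a : U4 →* Γ) : Prop where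
  add1 : ∀ s t, x1 (s + t) = x1 s * x1 t
  inj1 : Function.Injective x1
  mem1 : ∀ g, g ∈ U1 ↔ ∃ t, x1 t = g
  add3 : ∀ s t, x3 (s + t) = x3 s * x3 t
  inj3 : Function.Injective x3
  mem3 : ∀ g, g ∈ U3 ↔ ∃ t, x3 t = g
  inj2 : Function.Injective a
  mem2 : a.range = U2
  c12 : ∀ s y, x1 s * a y = a y * x1 s
  c23 : ∀ y t, a y * x3 t = x3 t * a y
  c34 : ∀ t (y : U4), x3 t * y = y * x3 t
  r13 : ∀ s t, x1 s * x3 t * (x1 s)⁻¹ = a (d.z (d.σ s * t)) * x3 t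
  r24 : ∀ (y y' : U4), y * a y' * (y : Γ)⁻¹ = a y' * x3 (d.Bf y y')
  r14 : ∀ s (y : U4), x1 s * y * (x1 s)⁻¹ = a (d.sm s y) * x3 (s * d.Q y) * y

/-- **QA** -/
def QaStmt : Prop :=
  ∀ {F : Type} {Γ : Type u} [Field F] [Finite F] [Group Γ] (U1 U2 U3 U4 : Subgroup Γ)
    (x1 x3 x3' h h' : F → Γ), Win U1 U2 U3 U4 x1 x3 x3' h h' →
    ∃ (d : QD F U4) (a : U4 →* Γ), QRel U1 U2 U3 U4 d x1 x3 a

/-- The possible parameters. -/
def QPar (q t : ℕ) (kind : Prop) : Prop :=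
  (kind ∧ (t = q ∨ t = q ^ 2)) ∨ (¬ kind ∧ ((t = q ∧ Odd q) ∨ ∃ r, q = r ^ 2 ∧ (t = r ∨ t = r ^ 3)))

/-- **QB1**: parameters. -/
def Qb1Stmt : Prop :=
  ∀ {F : Type} {Y : Type u} [Field F] [Finite F] [Group Y] [Finite Y] [Nontrivial Y] (d : QD F Y),
    QPar (Nat.card F) (Nat.card Y) (∀ t, d.z t = 1) ∧
    (Nat.card Y ≤ Nat.card F → (∀ y y' : Y, y ≠ 1 →
        y' ∈ Subgroup.closure (Set.range fun t => d.sm t y)) ∧
      ((∀ t, d.z t = 1) ∨ ∀ y y', d.Bf y y' = 0))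

/-- **QB2**: uniqueness. -/
def Qb2Stmt : Prop :=
  ∀ {F : Type} {Y Y' : Type u} [Field F] [Finite F] [Group Y] [Finite Y] [Nontrivial Y] [Group Y']
    [Finite Y'] (d : QD F Y) (d' : QD F Y'), Nat.card Y = Nat.card Y' →
    ((∀ t, d.z t = 1) ↔ ∀ t, d'.z t = 1) →
    ∃ (f : Y ≃* Y') (c : F), c ≠ 0 ∧ d'.σ = d.σ ∧ (∀ y, d'.Q (f y) = c * d.Q y) ∧
      (∀ t y, f (d.sm t y) = d'.sm t (f y)) ∧ (∀ y y', d'.Bf (f y) (f y') = c * d.Bf y y') ∧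
      ∀ t, d'.z (c * t) = f (d.z t)

/-- Quadrangle charts. -/
def QC {I W : Type} [Group W] {X : Cox I W} {C : Type u} (B : Bld X C) (σ : W → C) (j k : I)
    {F : Type} [Field F] (κ : C → F) (d : QD F (B.R σ {j, k} 1 k)) : Prop :=
  X.m j k = 4 ∧ B.Mou {j, k} (σ 1) ∧ ∃ x1 x3 a,
    QRel (B.R σ {j, k} 1 j) (B.R σ {j, k} (X.s j) k) (B.R σ {j, k} (X.s j * X.s k) j)
      (B.R σ {j, k} 1 k) d x1 x3 a ∧ ∀ s, κ (x1 s (σ (X.s j))) = s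

/-- **QCE**: existence of quadrangle charts. -/
def QceStmt : Prop := All1.{u} fun {_ W} _ _ {X} {C} _ B =>
  ∀ (σ : W → C) i j k (F : Type) [Field F] [Finite F] (κ κ' : C → F), B.Apt σ → X.Tri 4 i j k →
    B.PC σ i j F κ κ' → ∃ d, QC B σ j k κ' d

/-- **QC1**: what a quadrangle chart says about the parameters. -/
def Qc1Stmt : Prop := All1.{u} fun {_ W} _ _ {X} {C} _ B =>
  ∀ (σ : W → C) j k (F : Type) [Field F] (κ : C → F) (d : QD F (B.R σ {j, k} 1 k)), B.Apt σ →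
    QC B σ j k κ d → Nat.card (B.R σ {j, k} 1 k) = B.q (σ 1) k ∧ Nontrivial (B.R σ {j, k} 1 k) ∧
      (B.Kind σ j k ↔ ∀ t, d.z t = 1) ∧ ((∀ y y', d.Bf y y' = 0) → B.Kind σ k j) ∧
      Set.BijOn (fun y : B.R σ {j, k} 1 k => y.1 (σ (X.s k))) Set.univ (B.pan (σ 1) k)

/-- **QCX**: isomorphic data give isomorphic quadrangles. -/
def QcxStmt : Prop := All2.{u} fun {_ W} _ _ {X} {C C'} _ _ B B' =>
  ∀ (σ : W → C) (σ' : W → C') j k (F : Type) [Field F] (κ : C → F) (μ : C' → F)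
    (d : QD F (B.R σ {j, k} 1 k)) (d' : QD F (B'.R σ' {j, k} 1 k))
    (f : B.R σ {j, k} 1 k ≃* B'.R σ' {j, k} 1 k) (c : F) (g : C → C'),
    B.Apt σ → B'.Apt σ' → QC B σ j k κ d → QC B' σ' j k μ d' → c ≠ 0 → d'.σ = d.σ →
    (∀ y, d'.Q (f y) = c * d.Q y) → (∀ t y, f (d.sm t y) = d'.sm t (f y)) →
    (∀ y y', d'.Bf (f y) (f y') = c * d.Bf y y') → (∀ t, d'.z (c * t) = f (d.z t)) →
    (∀ x ∈ B.pan (σ 1) j, g x ∈ B'.pan (σ' 1) j ∧ μ (g x) = κ x) →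
    (∀ y, g (y.1 (σ (X.s k))) = (f y).1 (σ' (X.s k))) → B.Ext B' σ σ' {j, k} g

/-- **QC4**: the second plane in type `F₄`. -/
def Qc4Stmt : Prop := All1.{u} fun {_ W} _ _ {X} {C} _ B =>
  ∀ (σ : W → C) j k l (F E : Type) [Field F] [Field E] (κ : C → F) (μ μ' : C → E)
    (d : QD F (B.R σ {j, k} 1 k)), B.Apt σ → QC B σ j k κ d → X.Tri 4 l k j → B.PC σ l k E μ μ' →
    (∀ y y' : B.R σ {j, k} 1 k, μ' ((y * y').1 (σ (X.s k))) =
      μ' (y.1 (σ (X.s k))) + μ' (y'.1 (σ (X.s k)))) ∧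
    ∀ t, ∃ e : E, ∀ y, μ' ((d.sm t y).1 (σ (X.s k))) = e * μ' (y.1 (σ (X.s k)))

/-! ### Types -/

/-- The Coxeter matrix of a tree given by a parent function, the bond at `sp` having order four. -/
def tm (n : ℕ) (par : ℕ → ℕ) (sp : ℕ) (a b : Fin n) : ℕ :=
  if a = b then 1 else
    if (b.1 ≠ 0 ∧ par b = a) ∨ (a.1 ≠ 0 ∧ par a = b) then (if max a.1 b.1 = sp then 4 else 3) else 2

/-- The path. -/
def parA (k : ℕ) : ℕ := k - 1

/-- The tree `D_n`. -/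
def parD (n k : ℕ) : ℕ := if k = n - 1 then n - 3 else k - 1

/-- The tree `E_n`. -/
def parE (n k : ℕ) : ℕ := if k = n - 1 then 2 else k - 1

/-- The simply laced types of rank at least three. -/
def SLType (n : ℕ) (par : ℕ → ℕ) : Prop :=
  (3 ≤ n ∧ par = parA) ∨ (4 ≤ n ∧ par = parD n) ∨ ((n = 6 ∨ n = 7 ∨ n = 8) ∧ par = parE n)

/-- All types. -/
def Typ (n : ℕ) (par : ℕ → ℕ) (sp : ℕ) : Prop :=
  (SLType n par ∧ sp = 0) ∨ (3 ≤ n ∧ par = parA ∧ sp = n - 1) ∨ (n = 4 ∧ par = parA ∧ sp = 2)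

/-- **CLS**: the classification of the finite irreducible Coxeter systems that can occur. -/
def ClsStmt : Prop := All0 fun {I _} _ _ X =>
  3 ≤ Nat.card I → (∀ J : Set I, J.Nonempty → Jᶜ.Nonempty → ∃ i ∈ J, ∃ j ∉ J, X.m i j ≠ 2) →
    (∀ i j, i ≠ j → X.m i j ∈ ({2, 3, 4, 6, 8} : Set ℕ)) →
    ∃ n par sp, Typ n par sp ∧ ∃ e : Fin n ≃ I, ∀ a b, X.m (e a) (e b) = tm n par sp a b

/-- **LINES**: one field for the simply laced part. -/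
def LinesStmt : Prop := All1.{u} fun {I W} _ _ {X} {C} _ B =>
  ∀ (σ : W → C) (n : ℕ) (e : ℕ → I) (par : ℕ → ℕ), B.Apt σ → 2 ≤ n →
    (∀ k, 0 < k → k < n → par k < k ∧ X.m (e (par k)) (e k) = 3) →
    (∀ a b, a < b → b < n → par b ≠ a → X.m (e a) (e b) = 2) →
    (∃ (F : Type) (_ : Field F) (_ : Finite F) (κ κ' : C → F), B.PC σ (e 0) (e 1) F κ κ') →
    ∃ (F : Type) (_ : Field F) (_ : Finite F) (κ : ℕ → C → F),
      ∀ k, 0 < k → k < n → B.PC σ (e (par k)) (e k) F (κ (par k)) (κ k)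

/-- Statements about buildings with a numbered diagram. -/
def Num1 (P : ∀ {n : ℕ} {W : Type} [Group W] [Finite W] {X : Cox (Fin n) W} {C : Type u} [Finite C]
    (_ : Bld X C) (_ : W → C), Prop) : Prop :=
  ∀ {n : ℕ} {W : Type} [Group W] [Finite W] {X : Cox (Fin n) W} {C : Type u} [Finite C]
    (B : Bld X C) (σ : W → C), B.Apt σ → P B σ

/-- Statements about pairs of buildings with a numbered diagram. -/
def Num2 (P : ∀ {n : ℕ} {W : Type} [Group W] [Finite W] {X : Cox (Fin n) W} {C C' : Type u}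
    [Finite C] [Finite C'] (_ : Bld X C) (_ : Bld X C') (_ : W → C) (_ : W → C'), Prop) : Prop :=
  ∀ {n : ℕ} {W : Type} [Group W] [Finite W] {X : Cox (Fin n) W} {C C' : Type u} [Finite C]
    [Finite C'] (B : Bld X C) (B' : Bld X C') (σ : W → C) (σ' : W → C'), B.Apt σ → B'.Apt σ' →
    (∀ i, B.q (σ 1) i = B'.q (σ' 1) i) → P B B' σ σ'

/-- **USL**: parameters and uniqueness, simply laced types. -/
def UslStmt : Prop :=
  (Num1.{u} fun {n _} _ _ {X} {_} _ B σ => ∀ par, SLType n par → (∀ a b, X.m a b = tm n par 0 a b) →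
    ∃ (F : Type) (_ : Field F) (_ : Finite F), ∀ i, B.q (σ 1) i = Nat.card F) ∧
  Num2.{u} fun {n _} _ _ {X} {_ _} _ _ B B' _ _ => ∀ par, SLType n par →
    (∀ a b, X.m a b = tm n par 0 a b) → B.Isom B'

/-- **UC**: parameters and uniqueness, type `C_n`. -/
def UcStmt : Prop :=
  (Num1.{u} fun {n _} _ _ {X} {_} _ B σ => ∀ j k : Fin n, 3 ≤ n → j.1 + 2 = n → k.1 + 1 = n →
    (∀ a b, X.m a b = tm n parA (n - 1) a b) →
    ∃ (F : Type) (_ : Field F) (_ : Finite F), (∀ i, i ≠ k → B.q (σ 1) i = Nat.card F) ∧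
      QPar (Nat.card F) (B.q (σ 1) k) (B.Kind σ j k)) ∧
  Num2.{u} fun {n _} _ _ {X} {_ _} _ _ B B' σ σ' => ∀ j k : Fin n, 3 ≤ n → j.1 + 2 = n →
    k.1 + 1 = n → (∀ a b, X.m a b = tm n parA (n - 1) a b) → (B.Kind σ j k ↔ B'.Kind σ' j k) →
    B.Isom B'

/-- **UF1**: parameters, type `F₄`, for a path `i j k l` with `q_k ≤ q_j`. -/
def Uf1Stmt : Prop := All1.{u} fun {_ W} _ _ {X} {C} _ B =>
  ∀ (σ : W → C) i j k l, B.Apt σ → X.Tri 4 i j k → X.Tri 4 l k j → B.q (σ 1) k ≤ B.q (σ 1) j →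
    ∃ (F : Type) (_ : Field F) (_ : Finite F), B.q (σ 1) i = Nat.card F ∧ B.q (σ 1) j = Nat.card F ∧
      B.q (σ 1) l = B.q (σ 1) k ∧
      ((B.q (σ 1) k = Nat.card F ∧ (B.Kind σ j k ∨ B.Kind σ k j)) ∨
        (B.q (σ 1) k ^ 2 = Nat.card F ∧ ¬ B.Kind σ j k))

/-- **UF2**: uniqueness, type `F₄`. -/
def Uf2Stmt : Prop := All2.{u} fun {_ W} _ _ {X} {C C'} _ _ B B' =>
  ∀ (σ : W → C) (σ' : W → C') i j k l, B.Apt σ → B'.Apt σ' → X.Tri 4 i j k → X.Tri 4 l k j →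
    X.m i l = 2 → (∀ a, a = i ∨ a = j ∨ a = k ∨ a = l) → (∀ a, B.q (σ 1) a = B'.q (σ' 1) a) →
    B.q (σ 1) k ≤ B.q (σ 1) j → (B.Kind σ j k ↔ B'.Kind σ' j k) → B.Isom B'

/-- **TRANS**: renumbering by a diagram automorphism. -/
def TransStmt : Prop := All1.{u} fun {I W} _ _ {X} {C} _ B =>
  ∀ (B₂ : Bld X C) (π : I ≃ I) (ω : W ≃* W), (∀ i, ω (X.s i) = X.s (π i)) →
    (∀ w, X.len (ω w) = X.len w) → (∀ x y, ω (B₂.δ x y) = B.δ x y) → ∀ σ : W → C, B.Apt σ →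
    B₂.Apt (σ ∘ ω) ∧ (∀ i, B₂.q (σ 1) i = B.q (σ 1) (π i)) ∧
      ∀ j k, B₂.Kind (σ ∘ ω) j k ↔ B.Kind σ (π j) (π k)

/-! ### Groups -/

/-- A numbering of a `BN`-pair by the Coxeter system `X`. -/
structure Typed {G : Type u} [Group G] (P : BNPair G) {I W : Type} [Group W] (X : Cox I W) where
  e : I ≃ P.S
  φ : BN.W P ≃* W
  φ_s : ∀ i, φ ((BN.gens P).s (e i)) = X.s i
  len : ∀ w, X.len (φ w) = (BN.gens P).len w

/-- The building of a `BN`-pair. -/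
noncomputable def Typed.bld {G : Type u} [Group G] {P : BNPair G} {I W : Type} [Group W]
    {X : Cox I W} (T : Typed P X) : Bld X (G ⧸ P.B) where
  δ x y := T.φ (BN.wdist P x y)
  eq_one x y := by rw [T.φ.map_eq_one_iff, BN.wdist_eq_one_iff]
  symm x y := by rw [BN.wdist_symm, map_inv]
  step i x y z h := by
    rw [← T.φ_s, T.φ.apply_eq_iff_eq] at h
    rw [← T.φ_s, ← map_mul]
    exact (BN.wdist_s_trans h z).imp (congrArg _) (congrArg _)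
  step_up i x y z h h' := by
    rw [← T.φ_s, T.φ.apply_eq_iff_eq] at h
    rw [← T.φ_s, ← map_mul, T.len, T.len] at h'
    rw [← T.φ_s, ← map_mul, BN.wdist_s_trans_of_le h h']
  ex i y z := by
    obtain ⟨x, h1, h2⟩ := BN.exists_wdist_between (P := P) (x := y) (z := z)
      (w := (BN.gens P).s (T.e i)) (w' := (BN.gens P).s (T.e i) * BN.wdist P y z)
      (by rw [← mul_assoc, (BN.gens P).s_mul_s, one_mul])
    exact ⟨x, by rw [BN.wdist_symm, h1, InvGen.inv_s, T.φ_s], by rw [h2, map_mul, T.φ_s]⟩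
  thick i x := by
    obtain ⟨y, z, h, h1, h2⟩ := BN.exists_two_wdist_s (P := P) (T.e i) x
    exact ⟨y, z, h, by rw [h1, T.φ_s], by rw [h2, T.φ_s]⟩

/-- **FH**: Feit-Higman in every rank two residue, and a small copy of the Weyl group. -/
def FhStmt : Prop :=
  ∀ {G : Type u} [Group G] [Finite G] (P : BNPair G),
    (∀ i j : P.S, i ≠ j →
      orderOf ((BN.gens P).s i * (BN.gens P).s j) ∈ ({2, 3, 4, 6, 8} : Set ℕ)) ∧
    ∀ (I : Type) (e : I ≃ P.S), ∃ (W : Type) (_ : Group W) (_ : Finite W) (X : Cox I W)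
      (T : Typed P X), T.e = e

/-- The conclusion of the theorem. -/
def Concl (G : Type u) [Group G] : Prop :=
  IsPSL G ∨ IsPSp G ∨ IsPSU G ∨ IsPOmegaOdd G ∨ IsPOmegaPlus G ∨ IsPOmegaMinus G ∨
    IsExceptionalLieType G

/-- The properties of the `BN`-pair of a model. -/
structure Good {Γ : Type} [Group Γ] (P : BNPair Γ) : Prop where
  root : ∀ i : P.S, ∃ Y : Subgroup Γ, Y ≤ P.B ∧
    (∀ g ∈ BN.cell P ((BN.gens P).s i), ∃ y ∈ Y, g⁻¹ * (y * i) ∈ P.B) ∧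
    ∀ n (hn : n ∈ P.N), (BN.gens P).len (BN.mkW P n hn) <
        (BN.gens P).len ((BN.gens P).s i * BN.mkW P n hn) →
      (∀ y ∈ Y, n⁻¹ * y * n ∈ P.B) ∧ ∀ j : P.S,
        (BN.gens P).len (BN.mkW P n hn * (BN.gens P).s j) <
          (BN.gens P).len ((BN.gens P).s i * (BN.mkW P n hn * (BN.gens P).s j)) →
        ∀ y ∈ Y, ∀ g ∈ P.parabolic {(j : Γ)}, g⁻¹ * (n⁻¹ * y * n) * g ∈ P.B
  syl : ∃ (p : ℕ) (U : Subgroup Γ), p.Prime ∧ IsPGroup p U ∧ U ⊔ (P.B ⊓ P.N) = P.B ∧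
    (∀ b ∈ P.B, ∀ u ∈ U, b * u * b⁻¹ ∈ U) ∧ ∀ n (hn : n ∈ P.N),
      (BN.gens P).IsLongest Set.univ (BN.mkW P n hn) →
      ¬ p ∣ Nat.card ↥(P.B ⊓ P.B.map (MulAut.conj n).toMonoidHom)

/-- `Γ` is a model with Coxeter matrix `M` and panel sizes `q`. -/
def IsMod (Γ : Type) [Group Γ] {n : ℕ} (M : Fin n → Fin n → ℕ) (q : Fin n → ℕ) : Prop :=
  Finite Γ ∧ IsSimpleGroup Γ ∧ Concl Γ ∧ ∃ (P : BNPair Γ) (e : Fin n ≃ P.S), Good P ∧
    (∀ a b, orderOf ((BN.gens P).s (e a) * (BN.gens P).s (e b)) = M a b) ∧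
    ∀ a, BN.ind P ((BN.gens P).s (e a)) = q a

/-- There is a model. -/
def HasMod {n : ℕ} (M : Fin n → Fin n → ℕ) (q : Fin n → ℕ) : Prop :=
  ∃ (Γ : Type) (_ : Group Γ), IsMod Γ M q

/-- Panel sizes in type `C_n`. -/
def qC (n q t : ℕ) (a : Fin n) : ℕ := if a.1 + 1 = n then t else q

/-- A statement about all finite fields. -/
def AllF (P : ∀ (F : Type) [Field F] [Fintype F], Prop) : Prop :=
  ∀ (F : Type) [Field F] [Fintype F], P F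

/-- **MA** -/
def MaStmt : Prop := AllF fun F _ _ => ∀ n, 3 ≤ n → HasMod (tm n parA 0) fun _ => Fintype.card F

/-- **MD** -/
def MdStmt : Prop := AllF fun F _ _ => ∀ n, 4 ≤ n → HasMod (tm n (parD n) 0) fun _ => Fintype.card F

/-- **ME** -/
def MeStmt : Prop := AllF fun F _ _ => ∀ n, (n = 6 ∨ n = 7 ∨ n = 8) →
  HasMod (tm n (parE n) 0) fun _ => Fintype.card F

/-- **MF** -/
def MfStmt : Prop := AllF fun F _ _ => HasMod (tm 4 parA 2) fun _ => Fintype.card F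

/-- **MT** -/
def MtStmt : Prop := AllF fun F _ _ => ∀ r, Fintype.card F = r ^ 2 →
  HasMod (tm 4 parA 2) ![r ^ 2, r ^ 2, r, r]

/-- **MS** -/
def MsStmt : Prop := AllF fun F _ _ => ∀ n, 3 ≤ n →
  IsMod (PSp n F) (tm n parA (n - 1)) fun _ => Fintype.card F

/-- **MO** -/
def MoStmt : Prop := AllF fun F _ _ => ∀ n, 3 ≤ n →
  (Odd (Fintype.card F) →
    IsMod (POmega F (quadFormOdd n F)) (tm n parA (n - 1)) fun _ => Fintype.card F) ∧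
  HasMod (tm n parA (n - 1)) (qC n (Fintype.card F) (Fintype.card F ^ 2))

/-- **MU** -/
def MuStmt : Prop := AllF fun F _ _ => ∀ n r, 3 ≤ n → Fintype.card F = r ^ 2 →
  HasMod (tm n parA (n - 1)) (qC n (r ^ 2) r) ∧ HasMod (tm n parA (n - 1)) (qC n (r ^ 2) (r ^ 3))

/-- **FIN** -/
def FinStmt : Prop :=
  ∀ {G : Type u} [Group G] [Finite G] [IsSimpleGroup G] (P : BNPair G) {Γ : Type} [Group Γ]
    [Finite Γ] [IsSimpleGroup Γ] (Q : BNPair Γ) {I W : Type} [Group W] [Finite W] {X : Cox I W}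
    (T : Typed P X) (T' : Typed Q X), Nonempty I → (∀ i, ∃ j, 3 ≤ X.m i j) → Concl Γ → Good Q →
    (∃ f : (G ⧸ P.B) ≃ (Γ ⧸ Q.B), ∀ x y, T'.bld.δ (f x) (f y) = T.bld.δ x y) → Nonempty (G ≃* Γ)

end Cfsg.Agent.Lead.T3
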