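import Mathlib

/-! Project PL (row S3916): definitions, pieces and assembly. Conjugation is `g * a * g⁻¹`. -/

set_option autoImplicit false

namespace Cfsg.Agent.Lead.Pc

open Subgroup
open scoped commutatorElement

universe u

section Defs
variable {G : Type u} [Group G]

/-- a 2-element -/
def Tw (x : G) : Prop := ∃ k : ℕ, x ^ 2 ^ k = 1
/-- cyclic 2-subgroups of equal order are conjugate -/
def CP (G : Type u) [Group G] : Prop :=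
  ∀ x y : G, Tw x → orderOf y = orderOf x → ∃ g : G, g * y * g⁻¹ ∈ zpowers x
/-- the subgroup generated by the squares -/
def Sq (T : Subgroup G) : Subgroup G := closure {s | ∃ t ∈ T, s = t * t}
/-- the third term of the lower exponent 2 central series -/
def P3 (T : Subgroup G) : Subgroup G := ⁅Sq T, T⁆ ⊔ Sq (Sq T)
abbrev Nm (T : Subgroup G) : Subgroup G := normalizer (T : Set G)

/-- the setting: `S` simple normal with trivial centraliser, `T` Sylow in `S` -/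
structure St (S T : Subgroup G) : Prop where
  cp : CP G
  nm : S.Normal
  sim : IsSimpleGroup S
  na : ¬ IsMulCommutative S
  cen : centralizer (S : Set G) = ⊥
  le : T ≤ S
  two : IsPGroup 2 T
  odd : Odd (T.relIndex S)

/-- a lift of an involution of `G / S` -/
def Li (S T : Subgroup G) (y : G) : Prop := y ∈ Nm T ∧ y ∉ S ∧ y * y ∈ T
def NC (S T : Subgroup G) : Prop := ∀ y y' : G, Tw y → Tw y' → y ∉ S → y ∈ Nm T → y' ∈ Nm T →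
  orderOf y = orderOf y' → ∃ n ∈ Nm T, n * y * n⁻¹ ∈ zpowers y'
def AL (S T : Subgroup G) : Prop := ∀ W : Subgroup G, Nm T ≤ Nm W → ∀ y y', Li S T y → Li S T y' →
  y * y ∈ W → y' * y' ∈ W
def CV (S T : Subgroup G) : Prop := ∀ y, Li S T y → y * y ∈ Sq T ∧ ∀ t ∈ T, ⁅y, t⁆ ∈ Sq T
def OO (T : Subgroup G) : Prop := ∃ O : Subgroup G, Odd (Nat.card O) ∧ Nm T ≤ Nm O ∧
  ∀ n ∈ Nm T, (∀ t ∈ T, ⁅n, t⁆ ∈ Sq T) → ∃ k : ℕ, n ^ 2 ^ k ∈ O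

/-- the layers `S ≤ S1 ≤ S2` and a Sylow 2-subgroup `R` of `S2` over `T` -/
structure Lay (S T S1 S2 R : Subgroup G) : Prop where
  n1 : S1.Normal
  n2 : S2.Normal
  le1 : S ≤ S1
  odd1 : Odd (S.relIndex S1)
  mem : ∀ g, g ∈ S2 ↔ g * g ∈ S1
  ne : ¬ S2 ≤ S1
  tr : T ≤ R
  rs : R ≤ S2
  two : IsPGroup 2 R
  oddR : Odd (R.relIndex S2)

/-- elementary facts on the layers -/
structure B1 (S T S1 S2 R : Subgroup G) : Prop where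
  inf : ∀ y ∈ R, y ∈ S1 → y ∈ T
  nm : Nm R ≤ Nm T
  out : ¬ R ≤ T
  li : ∀ y ∈ R, y ∉ T → Li S T y
  sq : ∀ y ∈ R, y * y ∈ Sq T
  cm : ∀ a ∈ R, ∀ b ∈ R, ⁅a, b⁆ ∈ Sq T
  dec : ∀ m ∈ S2, ∃ a ∈ R, ∃ s ∈ S1, m = a * s
  fr : ∀ g : G, ∃ m ∈ S2, ∃ n ∈ Nm R, g = m * n
def B3 (T S2 R : Subgroup G) : Prop := ∀ m ∈ S2, m ∈ Nm R → ∀ y ∈ R, ⁅m, y⁆ ∈ Sq T
def B4 (T R : Subgroup G) : Prop := ∀ y ∈ R, ∀ y' ∈ R, y ∉ T → y' ∉ T →
  ∃ g ∈ Nm R, g * y * g⁻¹ * y'⁻¹ ∈ Sq T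
def E1 (T R : Subgroup G) : Prop := ∃ t ∈ Nm R, t * t ∈ R ∧ t * t ∉ T ∧ (∀ v ∈ T, ⁅t, v⁆ ∈ Sq T) ∧
  ((∀ v ∈ T, ∃ w ∈ R, ⁅t, w⁆ * v⁻¹ ∈ Sq T) ∨ ∃ w ∈ R, ⁅t, w⁆ ∉ T)
def E2 (T R : Subgroup G) : Prop := ∃ y ∈ R, y ∉ T ∧ (∀ a ∈ T, ∀ b ∈ T, ⁅a, b⁆ ∈ P3 T) ∧
  ∀ a ∈ T, ⁅y, a⁆ ∈ P3 T

/-- the abstract end game: `W` elementary abelian and central in `M` -/
structure Ab (V W M : Subgroup G) : Prop where
  nV : V.Normal
  nW : W.Normal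
  nM : M.Normal
  vw : V ≤ W
  wm : W ≤ M
  ne : ¬ W ≤ V
  el : ∀ w ∈ W, w * w = 1
  cen : ∀ m ∈ M, ∀ w ∈ W, m * w = w * m
  odd : Odd (W.relIndex M)
  tr : ∀ y ∈ W, ∀ y' ∈ W, y ∉ V → y' ∉ V → ∃ g : G, g * y * g⁻¹ = y'
  ev : Even M.index
  cj : ∀ t t' : G, t ∉ M → t' ∉ M → t * t ∈ M → t' * t' ∈ M → ∃ g : G, g * t * g⁻¹ * t'⁻¹ ∈ M
  sq : ∀ t : G, t ∉ M → t * t ∈ W → t * t ∉ V
def AbC (V W : Subgroup G) : Prop := ∃ t : G, t * t ∈ W ∧ t * t ∉ V ∧ (∀ v ∈ V, t * v = v * t) ∧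
  ((∀ v ∈ V, ∃ w ∈ W, ⁅t, w⁆ = v) ∨ ∃ w ∈ W, ⁅t, w⁆ ∉ V)
def Cnt (V W : Subgroup G) : Prop := ∀ t : G, t ∉ W → t * t ∈ W →
  Nat.card V ∣ Set.ncard {x : G | ∃ w ∈ W, x = ⁅t, w⁆}
def Fxp (V W : Subgroup G) : Prop := ∃ t : G, t ∉ W ∧ t * t ∈ W ∧
  ((∃ w ∈ W, ⁅t, w⁆ ∉ V) → ∀ v ∈ V, t * v = v * t)

end Defs

def All (X : ∀ (G : Type u) [Group G], Subgroup G → Subgroup G → Prop) : Prop :=
  ∀ (G : Type u) [Group G] [Finite G] (S T : Subgroup G), St S T → X G S T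
def AllL (X : ∀ (G : Type u) [Group G], Subgroup G → Subgroup G → Subgroup G → Subgroup G →
    Subgroup G → Prop) : Prop :=
  ∀ (G : Type u) [Group G] [Finite G] (S T S1 S2 R : Subgroup G), St S T → Lay S T S1 S2 R →
    X G S T S1 S2 R

def QStmt : Prop := ∀ (G H : Type u) [Group G] [Finite G] [Group H] (f : G →* H),
  Function.Surjective f → CP G → CP H
def OrdStmt : Prop := ∀ (G : Type u) [Group G] [Finite G] (N : Subgroup G), N.Normal → CP G →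
  ∀ x y : G, Tw x → Tw y → x ∉ N → (∀ n : ℕ, x ^ n ∈ N ↔ y ^ n ∈ N) → orderOf x = orderOf y
def NfStmt : Prop := ∀ (G : Type u) [Group G] [Finite G] (S T : Subgroup G), S.Normal → CP G →
  T ≤ S → IsPGroup 2 T → Odd (T.relIndex S) → ∀ y : G, Tw y → y ∉ S → y ∈ Nm T →
    ∀ t ∈ T, ∀ s ∈ S, s * y * s⁻¹ = y * t → ∃ r ∈ T, r * y * r⁻¹ = y * t
def TrStmt : Prop := ∀ (G : Type u) [Group G] [Finite G] (S T : Subgroup G), S.Normal →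
  ⁅S, S⁆ = S → T ≤ S → IsPGroup 2 T → Odd (T.relIndex S) → ∀ y, Li S T y → ∀ W : Subgroup G,
    T ≤ Nm W → y ∈ Nm W → (∀ a ∈ T, ∀ b ∈ T, ⁅a, b⁆ ∈ W) → (∀ a ∈ T, ⁅y, a⁆ ∈ W) →
      ∃ t ∈ T, (y * t) * (y * t) ∈ W
def NcStmt : Prop := NfStmt.{u} → All.{u} fun _ _ S T => NC S T
def AlStmt : Prop := OrdStmt.{u} → All.{u} fun _ _ S T => NC S T → AL S T
def CvStmt : Prop := TrStmt.{u} → All.{u} fun _ _ S T => AL S T → CV S T
def OoStmt : Prop := All.{u} fun _ _ _ T => OO T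
def A2Stmt : Prop := ∀ (X : Type u) [Group X] [Finite X] (P : Subgroup X), CP X → P.Normal →
  IsPGroup 2 P → (∀ x : X, x * x = 1 → x ∈ P) → ∃ A : Subgroup X, A.Normal ∧ ∀ x, x ∈ A ↔ x * x = 1
def A3Stmt : Prop := QStmt.{u} → A2Stmt.{u} → All.{u} fun G _ S T => Even S.index → CV S T → OO T →
  ∃ S1 S2 R : Subgroup G, Lay S T S1 S2 R
def B1Stmt : Prop := AllL.{u} fun _ _ S T S1 S2 R => CV S T → B1 S T S1 S2 R
def B3Stmt : Prop := NfStmt.{u} → AllL.{u} fun _ _ S T S1 S2 R => B1 S T S1 S2 R → B3 T S2 R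
def B4Stmt : Prop := OrdStmt.{u} → AllL.{u} fun _ _ S T S1 S2 R => NC S T → B1 S T S1 S2 R → B4 T R
def CntStmt : Prop := ∀ (G : Type u) [Group G] [Finite G] (V W : Subgroup G), Ab V W W → Cnt V W
def FxpStmt : Prop := ∀ (G : Type u) [Group G] [Finite G] (V W : Subgroup G), Ab V W W → Fxp V W
def Ab0Stmt : Prop := ∀ (G : Type u) [Group G] [Finite G] (V W : Subgroup G), Ab V W W → Cnt V W →
  Fxp V W → AbC V W
def AbStmt : Prop := ∀ (G : Type u) [Group G] [Finite G] (V W M : Subgroup G), Ab V W M → AbC V W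
def AbmStmt : Prop :=
  (∀ (G : Type u) [Group G] [Finite G] (V W : Subgroup G), Ab V W W → AbC V W) → AbStmt.{u}
def E1Stmt : Prop := QStmt.{u} → AbStmt.{u} → AllL.{u} fun _ _ S T S1 S2 R => Even S2.index →
  B1 S T S1 S2 R → B3 T S2 R → B4 T R → E1 T R
def E2Stmt : Prop := AllL.{u} fun _ _ S T S1 S2 R => B1 S T S1 S2 R → B4 T R → E1 T R → E2 T R
def NilStmt : Prop := ∀ (G : Type u) [Group G] [Finite G] (T : Subgroup G), IsPGroup 2 T →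
  Sq T ≤ P3 T → Sq T = ⊥
def E3Stmt : Prop := TrStmt.{u} → AllL.{u} fun _ _ S T S1 S2 R => AL S T → B1 S T S1 S2 R →
  E2 T R → Sq T ≤ P3 T
def E4Stmt : Prop := AllL.{u} fun _ _ S T S1 S2 R => B1 S T S1 S2 R → Sq T ≠ ⊥
def Sol1Stmt : Prop := ∀ (G : Type u) [Group G] [Finite G] (S : Subgroup G) [S.Normal],
  Odd S.index → Group.IsSolvable (G ⧸ S)
def Sol2Stmt : Prop := ∀ (G : Type u) [Group G] [Finite G] (S T S1 S2 R : Subgroup G) [S.Normal],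
  Lay S T S1 S2 R → Odd S2.index → Group.IsSolvable (G ⧸ S)
def CoreStmt : Prop := ∀ (G : Type u) [Group G] [Finite G] (S T : Subgroup G) [S.Normal],
  St S T → Group.IsSolvable (G ⧸ S)
def SocStmt : Prop := ∀ (G : Type u) [Group G] [Finite G], CP G → Nontrivial G →
  (∀ N : Subgroup G, N.Normal → Group.IsSolvable N → N = ⊥) → ∃ S T : Subgroup G, St S T
def RowStmt : Prop := ∀ (G : Type u) [Group G] [Finite G], CP G → ¬ Group.IsSolvable G →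
  ∃ (K L : Subgroup G) (_ : K.Normal) (_ : L.Normal), K ≤ L ∧ Group.IsSolvable ↥K ∧
    Group.IsSolvable (G ⧸ L) ∧ IsSimpleGroup (↥L ⧸ K.subgroupOf L) ∧
      ¬ IsMulCommutative (↥L ⧸ K.subgroupOf L)
def TopStmt : Prop := QStmt.{u} → SocStmt.{u} → CoreStmt.{u} → RowStmt.{u}

theorem core (q : QStmt.{u}) (ord : OrdStmt.{u}) (nf : NfStmt.{u}) (tr : TrStmt.{u})
    (nc : NcStmt.{u}) (al : AlStmt.{u}) (cv : CvStmt.{u}) (oo : OoStmt.{u}) (a2 : A2Stmt.{u})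
    (a3 : A3Stmt.{u}) (b1 : B1Stmt.{u}) (b3 : B3Stmt.{u}) (b4 : B4Stmt.{u}) (cnt : CntStmt.{u})
    (fxp : FxpStmt.{u}) (ab0 : Ab0Stmt.{u}) (abm : AbmStmt.{u}) (e1 : E1Stmt.{u})
    (e2 : E2Stmt.{u}) (nil : NilStmt.{u}) (e3 : E3Stmt.{u}) (e4 : E4Stmt.{u})
    (s1 : Sol1Stmt.{u}) (s2 : Sol2Stmt.{u}) : CoreStmt.{u} := by
  intro G _ _ S T _ h
  rcases Nat.even_or_odd S.index with he | ho
  swap
  · exact s1 G S ho
  have hnc := nc nf G S T h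
  have hal := al ord G S T h hnc
  have hcv := cv tr G S T h hal
  obtain ⟨S1, S2, R, l⟩ := a3 q a2 G S T h he hcv (oo G S T h)
  rcases Nat.even_or_odd S2.index with he2 | ho
  swap
  · exact s2 G S T S1 S2 R l ho
  have hb := b1 G S T S1 S2 R h l hcv
  have h4 := b4 ord G S T S1 S2 R h l hnc hb
  have ab : AbStmt.{u} := abm fun G _ _ V W a => ab0 G V W a (cnt G V W a) (fxp G V W a)
  have h1 := e1 q ab G S T S1 S2 R h l he2 hb (b3 nf G S T S1 S2 R h l hb) h4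
  have h2 := e2 G S T S1 S2 R h l hb h4 h1
  exact absurd (nil G T h.two (e3 tr G S T S1 S2 R h l hal hb h2)) (e4 G S T S1 S2 R h l hb)

end Cfsg.Agent.Lead.Pc
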