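import Mathlib
import Cfsg.Agent.Lead.A9Defs

/-!
# A standard subgroup of type `A₈`: normalizing the mover (pieces C2B and C3)
-/

set_option autoImplicit false

namespace Cfsg.Agent.Lead.P9H14A8C

open Cfsg Cfsg.Agent.H63 Cfsg.Agent.H63.SL Cfsg.Agent.Lead.A9 Subgroup
open Equiv (swap)
open Equiv.Perm (sign)

universe u

/-- The component in `V × V` of a code. -/
def vn (n : Fin 32) : Alt :=
  w ^ (n.1 % 2) * v ^ (n.1 / 2 % 2) * w2 ^ (n.1 / 4 % 2) * c ^ (n.1 / 8 % 2)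

/-- `σ` is the action of `h` on the codes. -/
abbrev OkH (h : Alt) (σ : Fin 32 → Fin 32) : Prop :=
  ∀ n, (σ n).1 / 16 = n.1 / 16 ∧ h * vn n * h⁻¹ = vn (σ n)

/-- `σ` is the action of a mover on the codes. -/
abbrev OkG (a b d : Alt) (σ : Fin 32 → Fin 32) : Prop :=
  ∀ n, (σ n).1 / 16 = n.1 / 16 ∧ z ^ (n.1 / 16) * ((z * a) ^ (n.1 % 2) * (b * d) ^ (n.1 / 2 % 2) *
    a ^ (n.1 / 4 % 2) * d ^ (n.1 / 8 % 2)) = vn (σ n)

def h1 : Alt := ev 0 3 4 6
def h2 : Alt := ev 0 4 1 6 * ev 2 7 3 5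
def h3 : Alt := ev 0 2 4 5
def h4 : Alt := ev 2 3 5 6
def h5 : Alt := ev 0 4 1 6 * ev 2 5 3 7
def h6 : Alt := ev 0 1 1 2 * ev 4 7 7 5

def s1 : Fin 32 → Fin 32 :=
  ![0, 2, 1, 3, 12, 14, 13, 15, 8, 10, 9, 11, 4, 6, 5, 7, 16, 18, 17, 19, 28, 30, 29, 31, 24,
    26, 25, 27, 20, 22, 21, 23]

theorem o1 : OkH h1 s1 := by decide +kernel

def s2 : Fin 32 → Fin 32 :=
  ![0, 8, 12, 4, 3, 11, 15, 7, 1, 9, 13, 5, 2, 10, 14, 6, 16, 24, 28, 20, 19, 27, 31, 23, 17,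
    25, 29, 21, 18, 26, 30, 22]

theorem o2 : OkH h2 s2 := by decide +kernel

def s3 : Fin 32 → Fin 32 :=
  ![0, 3, 2, 1, 4, 7, 6, 5, 12, 15, 14, 13, 8, 11, 10, 9, 16, 19, 18, 17, 20, 23, 22, 21, 28,
    31, 30, 29, 24, 27, 26, 25]

theorem o3 : OkH h3 s3 := by decide +kernel

def s4 : Fin 32 → Fin 32 :=
  ![0, 1, 3, 2, 8, 9, 11, 10, 4, 5, 7, 6, 12, 13, 15, 14, 16, 17, 19, 18, 24, 25, 27, 26, 20,
    21, 23, 22, 28, 29, 31, 30]

theorem o4 : OkH h4 s4 := by decide +kernel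

def s5 : Fin 32 → Fin 32 :=
  ![0, 8, 4, 12, 2, 10, 6, 14, 1, 9, 5, 13, 3, 11, 7, 15, 16, 24, 20, 28, 18, 26, 22, 30, 17,
    25, 21, 29, 19, 27, 23, 31]

theorem o5 : OkH h5 s5 := by decide +kernel

def s6 : Fin 32 → Fin 32 :=
  ![0, 3, 1, 2, 12, 15, 13, 14, 4, 7, 5, 6, 8, 11, 9, 10, 16, 19, 17, 18, 28, 31, 29, 30, 20,
    23, 21, 22, 24, 27, 25, 26]

theorem o6 : OkH h6 s6 := by decide +kernel

def gx2x30 : Fin 32 → Fin 32 :=
  ![0, 15, 3, 12, 10, 5, 9, 6, 8, 7, 11, 4, 2, 13, 1, 14, 21, 26, 22, 25, 31, 16, 28, 19, 29,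
    18, 30, 17, 23, 24, 20, 27]

theorem ox2x30 : OkG x2 x3 c gx2x30 := by decide +kernel

def gx2x31 : Fin 32 → Fin 32 :=
  ![0, 15, 6, 9, 10, 5, 12, 3, 13, 2, 11, 4, 7, 8, 1, 14, 21, 26, 19, 28, 31, 16, 25, 22, 24,
    23, 30, 17, 18, 29, 20, 27]

theorem ox2x31 : OkG x2 x3 (c * z) gx2x31 := by decide +kernel

def gx3w20 : Fin 32 → Fin 32 :=
  ![0, 14, 12, 2, 11, 5, 7, 9, 8, 6, 4, 10, 3, 13, 15, 1, 21, 27, 25, 23, 30, 16, 18, 28, 29,
    19, 17, 31, 22, 24, 26, 20]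

theorem ox3w20 : OkG x3 w2 c gx3w20 := by decide +kernel

def gx3w21 : Fin 32 → Fin 32 :=
  ![0, 14, 9, 7, 11, 5, 2, 12, 13, 3, 4, 10, 6, 8, 15, 1, 21, 27, 28, 18, 30, 16, 23, 25, 24,
    22, 17, 31, 19, 29, 26, 20]

theorem ox3w21 : OkG x3 w2 (c * z) gx3w21 := by decide +kernel

def gx2w20 : Fin 32 → Fin 32 :=
  ![0, 15, 12, 3, 10, 5, 6, 9, 8, 7, 4, 11, 2, 13, 14, 1, 21, 26, 25, 22, 31, 16, 19, 28, 29,
    18, 17, 30, 23, 24, 27, 20]

theorem ox2w20 : OkG x2 w2 c gx2w20 := by decide +kernel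

def gx2w21 : Fin 32 → Fin 32 :=
  ![0, 15, 9, 6, 10, 5, 3, 12, 13, 2, 4, 11, 7, 8, 14, 1, 21, 26, 28, 19, 31, 16, 22, 25, 24,
    23, 17, 30, 18, 29, 27, 20]

theorem ox2w21 : OkG x2 w2 (c * z) gx2w21 := by decide +kernel

def gx3x20 : Fin 32 → Fin 32 :=
  ![0, 14, 2, 12, 11, 5, 9, 7, 8, 6, 10, 4, 3, 13, 1, 15, 21, 27, 23, 25, 30, 16, 28, 18, 29,
    19, 31, 17, 22, 24, 20, 26]

theorem ox3x20 : OkG x3 x2 c gx3x20 := by decide +kernel

def gx3x21 : Fin 32 → Fin 32 :=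
  ![0, 14, 7, 9, 11, 5, 12, 2, 13, 3, 10, 4, 6, 8, 1, 15, 21, 27, 18, 28, 30, 16, 25, 23, 24,
    22, 31, 17, 19, 29, 20, 26]

theorem ox3x21 : OkG x3 x2 (c * z) gx3x21 := by decide +kernel

def gw2x30 : Fin 32 → Fin 32 :=
  ![0, 1, 3, 2, 4, 5, 7, 6, 8, 9, 11, 10, 12, 13, 15, 14, 21, 20, 22, 23, 17, 16, 18, 19, 29,
    28, 30, 31, 25, 24, 26, 27]

theorem ow2x30 : OkG w2 x3 c gw2x30 := by decide +kernel

def gw2x31 : Fin 32 → Fin 32 :=
  ![0, 1, 6, 7, 4, 5, 2, 3, 13, 12, 11, 10, 9, 8, 15, 14, 21, 20, 19, 18, 17, 16, 23, 22, 24,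
    25, 30, 31, 28, 29, 26, 27]

theorem ow2x31 : OkG w2 x3 (c * z) gw2x31 := by decide +kernel

variable {G : Type u} [Group G] {ι : Alt →* G} {π : G → S8} {t : G}

variable (ι t) in
/-- The element with a given code. -/
def em (n : Fin 32) : G := t ^ (n.1 / 16) * ι (vn n)

variable (ι t) in
/-- `g` acts on the codes as `σ`. -/
def Ac (g : G) (σ : Fin 32 → Fin 32) : Prop := ∀ n, g * em ι t n * g⁻¹ = em ι t (σ n)

theorem Ac.mul {g g' : G} {σ σ' : Fin 32 → Fin 32} (h : Ac ι t g σ) (h' : Ac ι t g' σ') :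
    Ac ι t (g * g') (fun n => σ (σ' n)) := fun n => by
  rw [← h, ← h']; group

theorem acH (h : Hb ι π t) {a : Alt} {σ : Fin 32 → Fin 32} (o : OkH a σ) : Ac ι t (ι a) σ :=
  fun n => by
    rw [em, em, (o n).1, ← (o n).2, map_mul, map_mul, map_inv, ← mul_assoc,
      ((h.tc a).pow_right _).eq]
    group

theorem acG (h : Hb ι π t) {g : G} {a b d : Alt} {σ : Fin 32 → Fin 32} (o : OkG a b d σ)
    (i : G1 ι t g a b) (hd : g * ι c * g⁻¹ = ι d) : Ac ι t g σ := fun n => by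
  have e : ∀ x y, g * (x * y) * g⁻¹ = g * x * g⁻¹ * (g * y * g⁻¹) := fun x y => by group
  have hz : g * ι z * g⁻¹ = ι z := mul_inv_eq_iff_eq_mul.2 i.cz
  have hw : g * ι w * g⁻¹ = ι (z * a) := by
    rw [show w = z * w2 by decide +kernel, map_mul, e, hz, i.aw, map_mul]
  have hv : g * ι v * g⁻¹ = ι (b * d) := by
    rw [show v = x2 * c by decide +kernel, map_mul, e, i.ax, hd, map_mul]
  rw [em, em, (o n).1, ← (o n).2, vn]
  simp only [map_mul ι, map_pow ι, e, ← conj_pow, i.tz, hw, hv, i.aw, hd]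
  rw [(h.tc z).symm.mul_pow, mul_assoc]

theorem Ac.act (h : Hb ι π t) {f : G} {σ : Fin 32 → Fin 32} (a : Ac ι t f σ) (h16 : σ 16 = 16) :
    Commute f t ∧ ∀ n : Fin 32, n.1 / 16 = 0 → (σ n).1 / 16 = 0 → cA (π f) (vn n) = vn (σ n) := by
  have h1 := a 16
  rw [h16, em, show vn 16 = 1 by decide +kernel, map_one, mul_one] at h1
  have h2 : Commute f t := mul_inv_eq_iff_eq_mul.1 (by simpa using h1)
  refine ⟨h2, fun n e1 e2 => h.inj ?_⟩
  have h3 := a n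
  rwa [em, em, e1, e2, pow_zero, one_mul, one_mul, h.act f h2] at h3

theorem Ac.bad (h : Hb ι π t) {f : G} {σ : Fin 32 → Fin 32} (a : Ac ι t f σ) (n : Fin 32)
    (H : σ 16 = 16 ∧ n.1 / 16 = 0 ∧ (σ n).1 / 16 = 0 ∧
      (vn (σ n)).1.support.card ≠ (vn n).1.support.card) : False := by
  refine H.2.2.2 ?_
  rw [← (a.act h H.1).2 n H.2.1 H.2.2.1]
  exact Equiv.Perm.card_support_conj

theorem fix (F : F8) (h : Hb ι π t) {g f : G} {σ : Fin 32 → Fin 32} (a : Ac ι t f σ) (q : S8)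
    (H : σ 16 = 16 ∧ sign q = -1 ∧ ∀ n ∈ ([1, 2, 4, 8] : List (Fin 32)),
      n.1 / 16 = 0 ∧ (σ n).1 / 16 = 0 ∧ vn (σ n) = cA q (vn n))
    (i : G1 ι t g w2 x3) : ∃ g', G1 ι t g' w2 x2 := by
  obtain ⟨h1, h2⟩ := a.act h H.1
  have h3 : ∀ n ∈ ([1, 2, 4, 8] : List (Fin 32)), Commute (q⁻¹ * π f) (vn n).1 := fun n hn => by
    obtain ⟨e1, e2, e3⟩ := H.2.2 n hn
    have e4 : π f * (vn n).1 * (π f)⁻¹ = q * (vn n).1 * q⁻¹ :=
      congrArg Subtype.val ((h2 n e1 e2).trans e3)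
    refine mul_inv_eq_iff_eq_mul.1 ?_
    calc _ = q⁻¹ * (π f * (vn n).1 * (π f)⁻¹) * q := by group
      _ = _ := by rw [e4]; group
  obtain ⟨k, hk⟩ := F.cVV _ ((show vn 1 = w by decide +kernel) ▸ h3 1 (by decide))
    ((show vn 2 = v by decide +kernel) ▸ h3 2 (by decide))
    ((show vn 4 = w2 by decide +kernel) ▸ h3 4 (by decide))
    ((show vn 8 = c by decide +kernel) ▸ h3 8 (by decide))
  have h4 : sign (π f) = -1 := by
    rw [inv_mul_eq_iff_eq_mul.1 hk, map_mul, H.2.1, Equiv.Perm.mem_alternatingGroup.1 (vv k).2,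
      mul_one]
  let b : Alt := ⟨swap 0 1 * (π f)⁻¹, by simp [h4]⟩
  have h5 := (h.tc b).mul_left h1
  have h6 : π (ι b * f) = swap 0 1 := by rw [h.mul _ _ (h.tc b) h1, h.sec, inv_mul_cancel_right]
  have h7 : ∀ x y, g * x * g⁻¹ = ι y → ι b * f * g * x * (ι b * f * g)⁻¹ = ι (cA (swap 0 1) y) :=
    fun x y e => by rw [← h6, ← h.act _ h5, ← e]; group
  have h8 := h7 _ _ (mul_inv_eq_iff_eq_mul.2 i.cz)
  rw [show cA (swap 0 1) z = z by decide +kernel] at h8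
  refine ⟨ι b * f * g, ?_, mul_inv_eq_iff_eq_mul.1 h8, mul_inv_eq_iff_eq_mul.1 ?_, ?_, ?_, ?_⟩
  · calc _ = ι b * f * (g * t * g⁻¹) * (ι b * f)⁻¹ := by group
      _ = ι b * f * t * (ι b * f)⁻¹ * (ι b * f * ι z * (ι b * f)⁻¹) := by rw [i.tz]; group
      _ = _ := by
        rw [h.act _ h5, h6, mul_inv_eq_iff_eq_mul.2 h5, show cA (swap 0 1) z = z by decide +kernel]
  · rw [h7 _ _ (mul_inv_eq_iff_eq_mul.2 i.cr), show cA (swap 0 1) rho = rho by decide +kernel]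
  · rw [h7 _ _ i.aw, show cA (swap 0 1) w2 = w2 by decide +kernel]
  · rw [h7 _ _ i.ax, show cA (swap 0 1) x3 = x2 by decide +kernel]
  · exact i.ac.imp (fun e => by rw [h7 _ _ e, show cA (swap 0 1) c = c by decide +kernel])
      fun e => by rw [h7 _ _ e, show cA (swap 0 1) (c * z) = c * z by decide +kernel]

theorem c2b : C2bStmt.{u} := by
  intro F G _ _ ι π t H _ g a b i hab ha hb
  have h := H.toHb
  rcases ha with rfl | rfl | rfl <;> rcases hb with rfl | rfl | rfl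
  · exact (hab rfl).elim
  · exact ⟨g, i⟩
  · rcases i.ac with e | e
    · have a := acG h ow2x30 i e
      exact fix F h (a.mul ((acH h o5).mul (a.mul ((acH h o1).mul a))))
        (swap 0 4 * (swap 1 7 * swap 7 3 * swap 3 6) * swap 2 5) (by decide +kernel) i
    · have a := acG h ow2x31 i e
      exact fix F h (a.mul ((acH h o5).mul (a.mul ((acH h o1).mul a))))
        (swap 1 2 * (swap 5 7 * swap 7 6)) (by decide +kernel) i
  · rcases i.ac with e | e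
    · have a := acG h ox2w20 i e
      exact ((a.mul ((acH h o1).mul (a.mul ((acH h o2).mul a)))).bad h 4 (by decide +kernel)).elim
    · have a := acG h ox2w21 i e
      exact ((a.mul ((acH h o3).mul (a.mul ((acH h o4).mul a)))).bad h 4 (by decide +kernel)).elim
  · exact (hab rfl).elim
  · rcases i.ac with e | e
    · have a := acG h ox2x30 i e
      exact ((a.mul a).bad h 1 (by decide +kernel)).elim
    · have a := acG h ox2x31 i e
      exact ((a.mul a).bad h 1 (by decide +kernel)).elim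
  · rcases i.ac with e | e
    · have a := acG h ox3w20 i e
      exact ((a.mul a).bad h 1 (by decide +kernel)).elim
    · have a := acG h ox3w21 i e
      exact ((a.mul a).bad h 1 (by decide +kernel)).elim
  · rcases i.ac with e | e
    · have a := acG h ox3x20 i e
      exact ((a.mul ((acH h o5).mul (a.mul ((acH h o6).mul a)))).bad h 1 (by decide +kernel)).elim
    · have a := acG h ox3x21 i e
      exact ((a.mul ((acH h o5).mul (a.mul ((acH h o6).mul a)))).bad h 1 (by decide +kernel)).elim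
  · exact (hab rfl).elim

theorem conj_odd {g x y : G} (e : g * x * g⁻¹ = x * y) (hy : Commute g y) (h2 : y * y = 1) :
    Commute (g * g) x ∧ ∀ m, Odd m → g ^ m * x * (g ^ m)⁻¹ = x * y := by
  have h1 : Commute (g * g) x := mul_inv_eq_iff_eq_mul.1 (by
    calc _ = g * (g * x * g⁻¹) * g⁻¹ := by group
      _ = g * (x * y) * g⁻¹ := by rw [e]
      _ = g * x * g⁻¹ * (g * y * g⁻¹) := by group
      _ = x := by rw [e, mul_inv_eq_iff_eq_mul.2 hy, mul_assoc, h2, mul_one])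
  refine ⟨h1, ?_⟩
  rintro _ ⟨j, rfl⟩
  rw [pow_succ', pow_mul, sq, ← e]
  calc _ = g * ((g * g) ^ j * x * ((g * g) ^ j)⁻¹) * g⁻¹ := by group
    _ = _ := by rw [mul_inv_eq_iff_eq_mul.2 (h1.pow_left j)]

theorem c3 : C3Stmt.{u} := by
  intro F G _ _ ι π t h k g i
  have hw : Commute g (ι w2) := mul_inv_eq_iff_eq_mul.1 i.aw
  have hx : Commute g (ι x2) := mul_inv_eq_iff_eq_mul.1 i.ax
  have key : ∀ p : G, Commute p (ι w2) → Commute p (ι x2) → Commute p (ι rho) → Commute p (ι c) →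
      ∀ a, Commute a z → Commute p (ι a) := fun p h1 h2 h3 h4 a ha => by
    refine (mem_centralizer_singleton_iff.1 ((closure_le (C1[p].comap ι)).2 ?_ (F.cz a ha)) :
      Commute (ι a) p).symm
    rintro _ (rfl | rfl | rfl | rfl)
    exacts [mem_centralizer_singleton_iff.2 h1.symm, mem_centralizer_singleton_iff.2 h2.symm,
      mem_centralizer_singleton_iff.2 h3.symm, mem_centralizer_singleton_iff.2 h4.symm]
  rcases i.ac with e | e
  · exact .inl ⟨g, i.tz, key g hw hx i.cr (mul_inv_eq_iff_eq_mul.1 e)⟩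
  right
  have hz : ι z * ι z = 1 := by rw [← map_mul, show z * z = 1 by decide +kernel, map_one]
  have hcc : ι c * ι c = 1 := by rw [← map_mul, show c * c = 1 by decide +kernel, map_one]
  rw [map_mul] at e
  obtain ⟨n, m, hm, e1⟩ := Nat.exists_eq_two_pow_mul_odd (orderOf_pos g).ne'
  obtain ⟨β, b1, b2, b3, b4, b5, b6, b7⟩ : ∃ β : G, β * t * β⁻¹ = t * ι z ∧
      β * ι c * β⁻¹ = ι c * ι z ∧ Commute β (ι z) ∧ Commute β (ι w2) ∧ Commute β (ι x2) ∧
      Commute β (ι rho) ∧ β ^ 2 ^ n = 1 :=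
    ⟨g ^ m, (conj_odd i.tz i.cz hz).2 m hm, (conj_odd e i.cz hz).2 m hm, i.cz.pow_left m,
      hw.pow_left m, hx.pow_left m, i.cr.pow_left m,
      by rw [← pow_mul, mul_comm, ← e1, pow_orderOf_eq_one]⟩
  have c1 := (conj_odd b1 b3 hz).1
  have c2 : ∀ a, Commute a z → Commute (π (β * β)) a.1 := fun a ha =>
    mul_inv_eq_iff_eq_mul.1 (congrArg Subtype.val (h.inj ((h.act _ c1 a).symm.trans
      (mul_inv_eq_iff_eq_mul.2 (key _ (b4.mul_left b4) (b5.mul_left b5) (b6.mul_left b6)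
        (conj_odd b2 b3 hz).1 a ha)))))
  obtain ⟨l, hl⟩ := F.cR _ (c2 z (Commute.refl z)) (c2 x2 (show _ * _ = _ * _ by decide +kernel))
    (c2 y (show _ * _ = _ * _ by decide +kernel))
  have c3 : rr l = 1 ∨ rr l = z := by
    have c4 : (rr l).1 * rho.1 = rho.1 * (rr l).1 :=
      hl ▸ c2 rho (show _ * _ = _ * _ by decide +kernel)
    revert c4
    exact (by decide +kernel : ∀ l, (rr l).1 * rho.1 = rho.1 * (rr l).1 → rr l = 1 ∨ rr l = z) l
  have c4 : ¬ Commute β t := fun H => by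
    rw [mul_inv_eq_iff_eq_mul.2 H, left_eq_mul, map_eq_one_iff _ h.inj] at b1
    exact absurd b1 (by decide +kernel)
  have c5 : β * β = ι (rr l) := by
    refine (k.ev _ c1 ⟨n, by rw [(Commute.refl β).mul_pow, b7, one_mul]⟩ _ hl).resolve_right
      fun e2 => c4 ?_
    have c6 : Commute β (ι (rr l)) := by
      rcases c3 with e3 | e3 <;> rw [e3]
      exacts [by rw [map_one]; exact Commute.one_right _, b3]
    have c7 : Commute β (t * ι (rr l)) := e2 ▸ (Commute.refl β).mul_right (Commute.refl β)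
    simpa using c7.mul_right c6.inv_right
  have ht := inv_eq_of_mul_eq_one_right h.t2
  have hc := inv_eq_of_mul_eq_one_right hcc
  have d1 : t * β * t = ι z * β := by
    calc _ = t * (β * t * β⁻¹) * β := by group
      _ = _ := by rw [b1, ← mul_assoc, h.t2, one_mul]
  have d2 : ι c * β * ι c = ι z * β := by
    calc _ = ι c * (β * ι c * β⁻¹) * β := by group
      _ = _ := by rw [b2, ← mul_assoc, hcc, one_mul]
  rcases c3 with e3 | e3 <;> rw [e3] at c5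
  · rw [map_one] at c5
    have hβ := inv_eq_of_mul_eq_one_right c5
    refine ⟨β * t, ?_, ?_, b4.mul_left (h.tc _).symm, b5.mul_left (h.tc _).symm,
      b6.mul_left (h.tc _).symm, ?_⟩
    · rw [hβ] at b1
      rw [← mul_assoc, b1, (h.tc z).symm.eq, mul_assoc, h.t2, mul_one]
    · rw [mul_inv_rev, ht, hβ, ← mul_assoc, mul_assoc _ t, h.t2, mul_one]
    · rw [mul_inv_rev, ht, hβ, hc, ← mul_assoc, mul_assoc _ t, (h.tc c).symm.eq, ← mul_assoc, d2,
        ← d1, mul_assoc, h.t2, mul_one]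
  · have hβ : β⁻¹ = ι z * β := inv_eq_of_mul_eq_one_right (by
      rw [← mul_assoc, b3.eq, mul_assoc, c5, hz])
    exact ⟨β, c5, by rw [ht, d1, hβ], b4, b5, b6, by rw [hc, d2, hβ]⟩

end Cfsg.Agent.Lead.P9H14A8C
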