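import Cfsg.Agent.Lead.A9Defs
import Cfsg.Agent.H37.KitB
import Cfsg.Agent.H80.SLRoot

/-!
Project A8S, pieces C1 and ST.
-/

set_option autoImplicit false
set_option linter.unusedSectionVars false
set_option maxRecDepth 10000
set_option linter.style.haveILetI false

namespace Cfsg.Agent.Lead.P9H23A8C

open Cfsg Cfsg.Agent.H63 Cfsg.Agent.H63.SL Cfsg.Agent.Lead.A9 Subgroup
open Cfsg.Agent.H8 (IsSylowIn)
open Equiv (swap)
open Equiv.Perm (sign)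
open scoped Pointwise

universe u

theorem rr_mul : ∀ k l : Fin 8, ∃ m, rr k * rr l = rr m := by decide +kernel

theorem rr_sq : ∀ k : Fin 8, rr k * rr k = 1 := by decide +kernel

theorem dd_mul : ∀ k l : Fin 8, ∃ m, dd k * dd l = dd m := by decide +kernel

theorem dd_inv : ∀ k : Fin 8, ∃ m, dd k * dd m = 1 := by decide +kernel

theorem dd_four : ∀ k : Fin 8, dd k * dd k * (dd k * dd k) = 1 := by decide +kernel

theorem dd_rr : ∀ k l : Fin 8, ∃ m, dd k * rr l = rr m * dd k := by decide +kernel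

theorem rr_z : ∀ k : Fin 8, rr k * z = z * rr k := by decide +kernel

theorem dd_z : ∀ k : Fin 8, dd k * z = z * dd k := by decide +kernel

theorem rr_cent : ∀ k : Fin 8, rr k * dd 4 = dd 4 * rr k → rr k * dd 2 = dd 2 * rr k →
    rr k = 1 ∨ rr k = z := by decide +kernel

theorem rr_val : rr 0 = 1 ∧ rr 1 = z ∧ rr 2 = x2 ∧ rr 4 = y ∧ dd 0 = 1 ∧ z ≠ 1 ∧ z * z = 1 ∧
    swap 0 1 * z.1 = z.1 * swap 0 1 := by decide +kernel

/-- The regular elementary abelian group. -/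
def RG : Subgroup Alt where
  carrier := Set.range rr
  one_mem' := ⟨0, rr_val.1⟩
  mul_mem' := by
    rintro _ _ ⟨k, rfl⟩ ⟨l, rfl⟩
    obtain ⟨m, hm⟩ := rr_mul k l
    exact ⟨m, hm.symm⟩
  inv_mem' := by
    rintro _ ⟨k, rfl⟩
    exact ⟨k, (inv_eq_of_mul_eq_one_right (rr_sq k)).symm⟩

/-- The dihedral group. -/
def DG : Subgroup Alt where
  carrier := Set.range dd
  one_mem' := ⟨0, rr_val.2.2.2.2.1⟩
  mul_mem' := by
    rintro _ _ ⟨k, rfl⟩ ⟨l, rfl⟩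
    obtain ⟨m, hm⟩ := dd_mul k l
    exact ⟨m, hm.symm⟩
  inv_mem' := by
    rintro _ ⟨k, rfl⟩
    obtain ⟨m, hm⟩ := dd_inv k
    exact ⟨m, (inv_eq_of_mul_eq_one_right hm).symm⟩

theorem two_U : IsPGroup 2 ↥(DG ⊔ RG) := by
  refine IsPGroup.to_sup_of_normal_right' ?_ ?_ ?_
  · rintro ⟨_, k, rfl⟩
    refine ⟨2, Subtype.ext ?_⟩
    change dd k ^ 4 = 1
    rw [show 4 = 2 + 2 from rfl, pow_add, pow_two, dd_four]
  · rintro ⟨_, k, rfl⟩
    refine ⟨1, Subtype.ext ?_⟩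
    change rr k ^ 2 = 1
    rw [pow_two, rr_sq]
  · rintro _ ⟨k, rfl⟩
    refine H8.mem_normalizer_of_conj_smul_le ?_
    rintro _ ⟨_, ⟨l, rfl⟩, rfl⟩
    obtain ⟨m, hm⟩ := dd_rr k l
    exact ⟨m, (mul_inv_eq_iff_eq_mul.2 hm).symm⟩

theorem U_z : DG ⊔ RG ≤ C1[z] := sup_le
  (by rintro _ ⟨k, rfl⟩; exact mem_centralizer_singleton_iff.2 (dd_z k))
  (by rintro _ ⟨k, rfl⟩; exact mem_centralizer_singleton_iff.2 (rr_z k))

section Main

variable {G : Type u} [Group G] [Finite G] {ι : Alt →* G} {π : G → S8} {t : G}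

theorem c1 {H : Type*} [Group H] {a b : H} : a ∈ C1[b] ↔ Commute a b :=
  mem_centralizer_singleton_iff

theorem comm_iff (h : Hy ι π t) {g : G} (hg : Commute g t) (a : Alt) :
    Commute g (ι a) ↔ Commute (π g) a.1 := by
  rw [Commute, SemiconjBy, ← mul_inv_eq_iff_eq_mul, h.act g hg, h.inj.eq_iff, Subtype.ext_iff,
    Commute, SemiconjBy, ← mul_inv_eq_iff_eq_mul]
  rfl

theorem syl_of_le {S H K : Subgroup G} (h : IsSylowIn 2 S K) (h1 : S ≤ H) (h2 : H ≤ K) :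
    IsSylowIn 2 S H :=
  haveI : Fact (Nat.Prime 2) := ⟨Nat.prime_two⟩
  H8.isSylowIn_of_maximal h1 h.isPGroup fun _ hQ hQH hSQ => (h.eq_of_le hQ (hQH.trans h2) hSQ).le

theorem conj_le_C1 {S : Subgroup G} {g x : G} (hg : Commute g x) (h : S ≤ C1[x]) :
    MulAut.conj g • S ≤ C1[x] := by
  rintro _ ⟨s, hs, rfl⟩
  exact mul_mem (mul_mem (c1.2 hg) (h hs)) (inv_mem (c1.2 hg))

/-- A Sylow subgroup of `C(t)` which centralizes `z`. -/
theorem exists_syl (f : F8) (h : Hy ι π t) (k : Kit ι π t) :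
    ∃ S : Subgroup G, IsSylowIn 2 S C1[t] ∧ S ≤ C1[ι z] := by
  haveI : Fact (Nat.Prime 2) := ⟨Nat.prime_two⟩
  obtain ⟨S, hS⟩ := H8.exists_isSylowIn 2 (C1[t] : Subgroup G)
  obtain ⟨φ, hφ⟩ := k.hom
  obtain ⟨P, hP⟩ := H8.exists_isSylowIn 2 (C1[z.1] : Subgroup S8)
  have hP' : IsSylowIn 2 P ⊤ := ⟨le_top, hP.isPGroup, by
    rw [relIndex_top_right, ← relIndex_mul_index hP.le, Nat.prime_two.dvd_mul, not_or]
    exact ⟨hP.not_dvd, f.cls.1.not_two_dvd_nat⟩⟩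
  obtain ⟨p, -, hp⟩ := hP'.exists_conj_le
    ((hS.isPGroup.comap_subtype (K := C1[t])).map φ) le_top
  have hp1 : ∀ s ∈ S, Commute (p * π s * p⁻¹) z.1 := fun s hs =>
    c1.1 (hP.le (hp ⟨_, ⟨⟨s, hS.le hs⟩, hs, rfl⟩, by rw [hφ]; rfl⟩))
  obtain ⟨a, ha⟩ : ∃ a : Alt, ∀ s ∈ S, Commute (a.1 * π s * a.1⁻¹) z.1 := by
    rcases Int.units_eq_one_or (sign p) with e | e
    · exact ⟨⟨p, e⟩, hp1⟩
    · refine ⟨⟨swap 0 1 * p, by simp [e]⟩, fun s hs => ?_⟩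
      have cz : Commute (swap (0 : Fin 9) 1) z.1 := rr_val.2.2.2.2.2.2.2
      have := (cz.mul_left (hp1 s hs)).mul_left cz.inv_left
      change Commute (swap 0 1 * p * π s * (swap 0 1 * p)⁻¹) z.1
      rwa [show swap 0 1 * p * π s * (swap 0 1 * p)⁻¹ =
        swap 0 1 * (p * π s * p⁻¹) * (swap 0 1)⁻¹ by group]
  refine ⟨MulAut.conj (ι a) • S,
    hS.conj_smul_of_mem_normalizer (le_normalizer (c1.2 (h.tc a))), ?_⟩
  rintro _ ⟨s, hs, rfl⟩
  have cs : Commute s t := c1.1 (hS.le hs)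
  have ca : Commute (ι a) t := h.tc a
  refine c1.2 ((comm_iff h ((ca.mul_left cs).mul_left ca.inv_left) z).2 ?_)
  rw [h.mul _ _ (ca.mul_left cs) ca.inv_left, h.mul _ _ ca cs, k.inv _ ca, h.sec]
  exact ha s hs

theorem exists_syl' (f : F8) (h : Hy ι π t) (k : Kit ι π t) :
    ∃ S : Subgroup G, IsSylowIn 2 S C1[t] ∧ S ≤ C1[ι z] ∧ (DG ⊔ RG).map ι ≤ S ∧ t ∈ S := by
  haveI : Fact (Nat.Prime 2) := ⟨Nat.prime_two⟩
  obtain ⟨S, hS, hz⟩ := exists_syl f h k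
  have h1 : IsSylowIn 2 S (C1[t] ⊓ C1[ι z]) := syl_of_le hS (le_inf hS.le hz) inf_le_left
  obtain ⟨g, hg, hle⟩ := h1.exists_conj_le (two_U.map ι) (by
    rintro _ ⟨a, ha, rfl⟩
    exact ⟨c1.2 (h.tc a), c1.2 ((c1.1 (U_z ha)).map ι)⟩)
  have h2 : IsSylowIn 2 (MulAut.conj g⁻¹ • S) C1[t] :=
    hS.conj_smul_of_mem_normalizer (le_normalizer (inv_mem hg.1))
  refine ⟨_, h2, conj_le_C1 (c1.1 hg.2).inv_left hz, fun x hx => ?_, ?_⟩
  · rw [H8.mem_conj_smul, inv_inv]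
    exact hle (H8.conj_mem_conj_smul.2 hx)
  · have ht : IsPGroup 2 (zpowers t) := by
      rintro ⟨_, n, rfl⟩
      refine ⟨1, Subtype.ext ?_⟩
      change (t ^ n) ^ 2 = 1
      rw [← zpow_natCast, ← zpow_mul, mul_comm, zpow_mul, zpow_natCast, pow_two, h.t2, one_zpow]
    have h3 := h2.eq_of_le (IsPGroup.to_sup_of_normal_right' h2.isPGroup ht (fun s hs =>
      centralizer_le_normalizer _ (by
        rintro _ ⟨n, rfl⟩
        exact ((c1.1 (h2.le hs)).symm.zpow_left n).eq)))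
      (sup_le h2.le (zpowers_le.2 (c1.2 (Commute.refl t)))) le_sup_left
    rw [← h3]
    exact mem_sup_right (mem_zpowers t)

end Main

theorem c1Stmt : C1Stmt.{u} := by
  intro f G _ _ ι π t h k hc
  haveI : Fact (Nat.Prime 2) := ⟨Nat.prime_two⟩
  obtain ⟨S, hS, hz, hU, ht⟩ := exists_syl' f h k
  obtain ⟨g0, hg0⟩ := isConj_iff.1 hc
  have h1 : IsSylowIn 2 (MulAut.conj g0 • S) C1[t * ι z] := by
    have := hS.conj_smul g0
    have e : MulAut.conj g0 • (C1[t] : Subgroup G) = C1[t * ι z] := by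
      ext x
      rw [H8.mem_conj_smul, c1, c1, ← hg0]
      constructor
      · intro e
        have := e.conj g0
        rwa [show g0 * (g0⁻¹ * x * g0) * g0⁻¹ = x by group] at this
      · intro e
        have := e.conj g0⁻¹
        rwa [show g0⁻¹ * (g0 * t * g0⁻¹) * g0⁻¹⁻¹ = t by group, inv_inv] at this
    rwa [e] at this
  obtain ⟨m, hm, hle⟩ := h1.exists_conj_le hS.isPGroup fun s hs =>
    c1.2 ((c1.1 (hS.le hs)).mul_right (c1.1 (hz hs)))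
  have heq : MulAut.conj m • S = MulAut.conj g0 • S :=
    eq_of_le_of_card_ge hle (by rw [H8.card_conj_smul, H8.card_conj_smul])
  have hN : m⁻¹ * g0 ∈ N[S] := by
    rw [H8.mem_normalizer_iff_conj_smul_eq, ← H8.conj_smul_conj_smul, ← heq,
      H8.conj_inv_smul_conj_smul]
  have hgt : m⁻¹ * g0 * t * (m⁻¹ * g0)⁻¹ = t * ι z := by
    rw [show m⁻¹ * g0 * t * (m⁻¹ * g0)⁻¹ = m⁻¹ * (g0 * t * g0⁻¹) * m by group, hg0,
      mul_assoc, ← (c1.1 hm).eq, inv_mul_cancel_left]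
  generalize m⁻¹ * g0 = g at hN hgt
  refine ⟨g, hgt, ?_⟩
  have hcom : ∀ s ∈ S, Commute (g * ι z * g⁻¹) s := fun s hs => by
    have h2 : g⁻¹ * s * g ∈ S := by simpa using (mem_normalizer_iff.1 (inv_mem hN) s).1 hs
    have := (c1.1 (hz h2)).symm.conj g
    rwa [show g * (g⁻¹ * s * g) * g⁻¹ = s by group] at this
  have hct := hcom t ht
  have hr : ∀ l, Commute (π (g * ι z * g⁻¹)) (rr l).1 := fun l =>
    (comm_iff h hct _).1 (hcom _ (hU ⟨_, mem_sup_right ⟨l, rfl⟩, rfl⟩))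
  have hd : ∀ l, Commute (π (g * ι z * g⁻¹)) (dd l).1 := fun l =>
    (comm_iff h hct _).1 (hcom _ (hU ⟨_, mem_sup_left ⟨l, rfl⟩, rfl⟩))
  obtain ⟨-, e1, e2, e4, -, z1, zz, -⟩ := rr_val
  obtain ⟨l, hl⟩ := f.cR _ (e1 ▸ hr 1) (e2 ▸ hr 2) (e4 ▸ hr 4)
  have h2 : Is2 (g * ι z * g⁻¹) := ⟨1, by
    rw [pow_one, conj_pow, pow_two, ← map_mul, zz, map_one, mul_one, mul_inv_cancel]⟩
  have hev := k.ev _ hct h2 _ hl
  rw [hl] at hd
  rcases rr_cent l (Subtype.ext (hd 4).eq) (Subtype.ext (hd 2).eq) with e | e <;> rw [e] at hev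
  · exfalso
    rw [map_one, mul_one] at hev
    rcases hev with e' | e'
    · rw [conj_eq_one_iff, ← map_one ι] at e'
      exact z1 (h.inj e')
    · exact k.nl z (isConj_iff.2 ⟨g, e'⟩).symm
  · rcases hev with e' | e'
    · exact mul_inv_eq_iff_eq_mul.1 e'
    · rw [← hgt, mul_left_inj, mul_right_inj] at e'
      exact absurd e' (k.tn z)

end Cfsg.Agent.Lead.P9H23A8C
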