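import Cfsg.Agent.Lead.A9Defs

/-! The conjugates of the square root of `z` generate a group `ℤ₄³`. -/

set_option autoImplicit false
set_option maxRecDepth 10000

namespace Cfsg.Agent.Lead.P9H62A8H

open Cfsg Cfsg.Agent.H63 Cfsg.Agent.Lead.A9 Subgroup
open scoped commutatorElement

universe u

variable {G : Type u} [Group G] {ι : Alt →* G} {π : G → S8} {t s a : G}

/-- `m` fixes `s` -/
def Fx (ι : Alt →* G) (s : G) (m : Alt) : Prop := ι m * s * (ι m)⁻¹ = s

/-- `m` inverts `s` -/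
def Iv (ι : Alt →* G) (s : G) (m : Alt) : Prop := ι m * s * (ι m)⁻¹ = s⁻¹

theorem eqns : True := by have := @Fx.eq_1.{0}; have := @Iv.eq_1.{0}; trivial

theorem cj_mul (m m' : Alt) : ι (m * m') * s * (ι (m * m'))⁻¹ =
    ι m * (ι m' * s * (ι m')⁻¹) * (ι m)⁻¹ := by rw [map_mul]; group

theorem Fx.ff {m m' : Alt} (h : Fx ι s m) (h' : Fx ι s m') : Fx ι s (m * m') := by
  unfold Fx at *; rw [cj_mul, h', h]

theorem Iv.vf {m m' : Alt} (h : Iv ι s m) (h' : Fx ι s m') : Iv ι s (m * m') := by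
  unfold Fx Iv at *; rw [cj_mul, h', h]

theorem Fx.fv {m m' : Alt} (h : Fx ι s m) (h' : Iv ι s m') : Iv ι s (m * m') := by
  unfold Fx Iv at *; rw [cj_mul, h', ← conj_inv, h]

theorem mv {l m : Alt} {i j : ℕ} (h : l * sg ^ i = sg ^ j * m) :
    ι l * sI ι a i * (ι l)⁻¹ = sI ι (ι m * a * (ι m)⁻¹) j := by
  have := congrArg ι h
  rw [map_mul, map_mul, map_pow, map_pow] at this
  unfold sI
  calc _ = ι l * ι sg ^ i * a * (ι l * ι sg ^ i)⁻¹ := by group
    _ = _ := by rw [this]; group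

theorem sI_zero : sI ι a 0 = a := by simp [sI]

theorem sI_add (i j : ℕ) : sI ι a (i + j) = sI ι (sI ι a j) i := by unfold sI; group

theorem sI_mul (a b : G) (i : ℕ) : sI ι (a * b) i = sI ι a i * sI ι b i := by unfold sI; group

theorem sI_inv (a : G) (i : ℕ) : sI ι a⁻¹ i = (sI ι a i)⁻¹ := by unfold sI; group

theorem sI_ι (r : Alt) (i : ℕ) : sI ι (ι r) i = ι (sg ^ i * r * (sg ^ i)⁻¹) := by simp [sI]

theorem sI_seven (i : ℕ) : sI ι a (7 * i) = a := by
  rw [sI, pow_mul, ← map_pow, show sg ^ 7 = 1 by decide]; simp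

theorem sI_t (tc : ∀ a, Commute (ι a) t) (i : ℕ) : sI ι t i = t := by
  rw [sI, ((tc sg).pow_left i).eq, mul_inv_cancel_right]

theorem com_all (c1 : Commute a (sI ι a 1)) (c2 : Commute a (sI ι a 2)) (c3 : Commute a (sI ι a 3))
    (i j : ℕ) : Commute (sI ι a i) (sI ι a j) := by
  have sh : ∀ i d, Commute a (sI ι a d) → Commute (sI ι a i) (sI ι a (i + d)) := fun i d h => by
    rw [sI_add]; exact h.conj _
  have e7 : sI ι a 7 = a := sI_seven 1
  have c0 : ∀ d < 7, Commute a (sI ι a d) := fun d hd => by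
    interval_cases d
    · rw [sI_zero]
    · exact c1
    · exact c2
    · exact c3
    · exact (e7 ▸ sh 4 3 c3).symm
    · exact (e7 ▸ sh 5 2 c2).symm
    · exact (e7 ▸ sh 6 1 c1).symm
  have := sh i ((j + 6 * i) % 7) (c0 _ (Nat.mod_lt _ (by norm_num)))
  rwa [← sI_seven (a := sI ι a (i + _)) ((j + 6 * i) / 7), ← sI_add,
    show 7 * ((j + 6 * i) / 7) + (i + (j + 6 * i) % 7) = 7 * i + j by omega, sI_add,
    sI_seven] at this

theorem com_R (hR : ∀ k, Commute a (ι (rr k))) (i : ℕ) (k : Fin 8) :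
    Commute (sI ι a i) (ι (rr k)) := by
  induction i generalizing k with
  | zero => rw [sI_zero]; exact hR k
  | succ i ih =>
    obtain ⟨l, hl⟩ : ∃ l, rr k = sg ^ 1 * rr l * (sg ^ 1)⁻¹ := by revert k; decide
    rw [add_comm, sI_add, hl, ← sI_ι]
    exact (ih l).conj _

theorem cm_left {a b r : G} (h1 : Commute r a) (h2 : Commute r b) : ⁅a * r, b⁆ = ⁅a, b⁆ := by
  simp only [commutatorElement_def]
  calc _ = a * (r * b * r⁻¹) * a⁻¹ * b⁻¹ := by group
    _ = _ := by rw [h2.eq, mul_inv_cancel_right]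

theorem cm_right {a b r : G} (h1 : Commute r a) : ⁅a, b * r⁆ = ⁅a, b⁆ := by
  simp only [commutatorElement_def]
  calc _ = a * b * (r * a⁻¹ * r⁻¹) * b⁻¹ := by group
    _ = _ := by rw [h1.inv_right.eq, mul_inv_cancel_right]

/-- The structure of `C(t) ∩ C(R₁)`. -/
structure Dec (ι : Alt →* G) (t : G) (O : Subgroup G) (m : ℕ) : Prop where
  pw : ∀ o ∈ O, o ^ (2 * m + 1) = 1
  oi : ∀ o ∈ O, ∀ a, Commute o (ι a)
  ot : ∀ o ∈ O, Commute o t
  dec : ∀ g, Commute g t → (∀ j, Commute g (ι (rr j))) →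
    ∃ o ∈ O, ∃ j, g = o * ι (rr j) ∨ g = o * (t * ι (rr j))

theorem exists_dec [Finite G] (f : F8) (h : Hy ι π t) (k : Kit ι π t) : ∃ O m, Dec ι t O m := by
  obtain ⟨O, ⟨m, hm⟩, OC, -, mem⟩ := k.odd
  have ot : ∀ o ∈ O, Commute o t := fun o ho => mem_centralizer_singleton_iff.1 (OC ho)
  refine ⟨O, m, fun o ho => ?_, fun o ho => (k.ker o (ot o ho)).1 ((mem o (ot o ho)).2 (.inl ho)),
    ot, fun g gt gR => ?_⟩
  · rw [← hm]; exact congrArg Subtype.val (pow_card_eq_one' (x := (⟨o, ho⟩ : O)))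
  · have c : ∀ j, Commute (π g) (rr j).1 := fun j => by
      have := h.act g gt (rr j)
      rw [(gR j).eq, mul_inv_cancel_right] at this
      exact mul_inv_eq_iff_eq_mul.1 (congrArg Subtype.val (h.inj this)).symm
    obtain ⟨j, hj⟩ := f.cR (π g) (c 1) (c 2) (c 4)
    have := (mem (g * ι (rr j)⁻¹) (gt.mul_left (h.tc _))).1 (by
      rw [h.mul _ _ gt (h.tc _), h.sec, hj]; simp)
    rcases this with e | e
    · exact ⟨_, e, j, .inl (by simp)⟩
    · exact ⟨_, e, j, .inr (by rw [mul_assoc, ← mul_assoc t, h.t2]; simp)⟩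

theorem rr_sq (j : Fin 8) : ι (rr j) * ι (rr j) = 1 := by
  rw [← map_mul, show rr j * rr j = 1 by revert j; decide, map_one]

theorem rr_com (j l : Fin 8) : Commute (ι (rr j)) (ι (rr l)) :=
  Commute.map (show rr j * rr l = rr l * rr j by revert j l; decide) ι

theorem trr_sq (h : Hb ι π t) (j : Fin 8) : t * ι (rr j) * (t * ι (rr j)) = 1 := by
  rw [mul_assoc, (h.tc _).left_comm, rr_sq, mul_one, h.t2]

theorem rr_three : ∀ j, sg ^ 1 * rr j * (sg ^ 1)⁻¹ * (sg ^ 2 * rr j * (sg ^ 2)⁻¹) *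
    (sg ^ 4 * rr j * (sg ^ 4)⁻¹) = 1 := by decide +kernel

variable {O : Subgroup G} {m : ℕ}

theorem Dec.sq (d : Dec ι t O m) {o : G} (ho : o ∈ O) (h : o * o = 1) : o = 1 := by
  have := d.pw o ho
  rwa [pow_succ, pow_mul, pow_two, h, one_pow, one_mul] at this

theorem Dec.dec' (h : Hb ι π t) (d : Dec ι t O m) {g : G} (gt : Commute g t)
    (gR : ∀ j, Commute g (ι (rr j))) : ∃ o ∈ O, ∃ x, g = o * x ∧ x * x = 1 ∧
      (∀ o ∈ O, Commute o x) ∧ ∃ j, x = ι (rr j) ∨ x = t * ι (rr j) := by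
  obtain ⟨o, ho, j, e | e⟩ := d.dec g gt gR
  · exact ⟨o, ho, _, e, rr_sq j, fun o ho => d.oi o ho _, j, .inl rfl⟩
  · exact ⟨o, ho, _, e, trr_sq h j, fun o ho => (d.ot o ho).mul_right (d.oi o ho _), j, .inr rfl⟩

theorem com3 (h : Hb ι π t) (hR : ∀ k, Commute a (ι (rr k))) (ht : t * a * t⁻¹ = a * ι z) :
    Commute (a * sI ι a 1 * sI ι a 3) t := by
  have e : ∀ i, t * sI ι a i * t⁻¹ = sI ι a i * ι (sg ^ i * z * (sg ^ i)⁻¹) := fun i => by
    rw [← sI_ι, ← sI_mul, ← ht, sI_mul, sI_mul, sI_inv, sI_t h.tc]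
  refine (mul_inv_eq_iff_eq_mul.1 ?_ : Commute t _).symm
  have e1 := e 1
  have e3 := e 3
  rw [show sg ^ 1 * z * (sg ^ 1)⁻¹ = rr 2 by decide] at e1
  rw [show sg ^ 3 * z * (sg ^ 3)⁻¹ = rr 3 by decide] at e3
  calc _ = t * a * t⁻¹ * (t * sI ι a 1 * t⁻¹) * (t * sI ι a 3 * t⁻¹) := by group
    _ = a * sI ι a 1 * sI ι a 3 * (ι (rr 1) * ι (rr 2) * ι (rr 3)) := by
      rw [ht, e1, e3, show z = rr 1 by decide]
      simp only [mul_assoc, (com_R hR 1 _).symm.left_comm, (com_R hR 3 _).symm.left_comm]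
    _ = _ := by rw [← map_mul, ← map_mul, show rr 1 * rr 2 * rr 3 = 1 by decide, map_one, mul_one]

theorem trip (h : Hb ι π t) (d : Dec ι t O m) (hR : ∀ k, Commute a (ι (rr k)))
    (ht : t * a * t⁻¹ = a * ι z) (c : ∀ i j, Commute (sI ι a i) (sI ι a j)) {b : Alt}
    (hb : a * a = ι b) (hb' : b * (sg ^ 1 * b * (sg ^ 1)⁻¹) * (sg ^ 3 * b * (sg ^ 3)⁻¹) = 1) :
    a * sI ι a 1 * sI ι a 3 * ι (sg ^ 2 * b * (sg ^ 2)⁻¹ * (sg ^ 4 * b * (sg ^ 4)⁻¹) *
      (sg ^ 5 * b * (sg ^ 5)⁻¹)) = 1 := by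
  have sq : ∀ i, sI ι a i * sI ι a i = ι (sg ^ i * b * (sg ^ i)⁻¹) := fun i => by
    rw [← sI_mul, hb, sI_ι]
  have c0 : ∀ i, Commute a (sI ι a i) := fun i => by simpa only [sI_zero] using c 0 i
  obtain ⟨o, ho, x, e, xx, ox, j, hj⟩ := d.dec' h (com3 h hR ht)
    fun j => ((hR j).mul_left (com_R hR 1 j)).mul_left (com_R hR 3 j)
  have u2 : a * sI ι a 1 * sI ι a 3 * (a * sI ι a 1 * sI ι a 3) = 1 := by
    rw [← map_one ι, ← hb', map_mul, map_mul, ← hb, ← sq, ← sq]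
    simp only [mul_assoc, (c0 1).symm.left_comm, (c0 3).symm.left_comm, (c 3 1).left_comm]
  obtain rfl : o = 1 := d.sq ho (by
    rwa [e, mul_assoc, (ox o ho).symm.left_comm, xx, mul_one] at u2)
  rw [one_mul] at e
  rcases hj with rfl | rfl
  · have k : ∀ i, sI ι a i * sI ι a (i + 1) * sI ι a (i + 3) = ι (sg ^ i * rr j * (sg ^ i)⁻¹) :=
      fun i => by rw [← sI_ι, ← e, sI_mul, sI_mul, sI_add, sI_add]
    have k0 : ι (sg ^ 1 * rr j * (sg ^ 1)⁻¹) * ι (sg ^ 2 * rr j * (sg ^ 2)⁻¹) *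
        ι (sg ^ 4 * rr j * (sg ^ 4)⁻¹) = 1 := by
      rw [← map_mul, ← map_mul, rr_three, map_one]
    rw [← k, ← k, ← k, show sI ι a (4 + 3) = a from sI_seven 1] at k0
    rw [← k0, map_mul, map_mul, ← sq, ← sq, ← sq]
    simp only [mul_assoc, (c0 _).symm.left_comm, (c0 _).symm.eq, (c 2 1).left_comm,
      (c 3 1).left_comm, (c 3 2).left_comm, (c 4 2).left_comm, (c 4 3).left_comm, (c 5 2).left_comm,
      (c 5 3).left_comm, (c 5 4).left_comm, Nat.reduceAdd]
  · have h1 : Commute a (t * ι (rr j)) := e ▸ ((Commute.refl a).mul_right (c0 1)).mul_right (c0 3)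
    have h2 : Commute a t := by simpa using h1.mul_right (hR j).inv_right
    rw [← h2.eq, mul_inv_cancel_right, left_eq_mul, ← map_one ι] at ht
    exact absurd (h.inj ht) (by decide)

theorem cent_O (h : Hb ι π t) (d : Dec ι t O m) (hs : HS0 ι t s)
    (hR : ∀ k, Commute s (ι (rr k))) (ht : t * s * t⁻¹ = s * ι z) : ∀ o ∈ O, Commute s o := by
  have st : s⁻¹ * t * s = t * ι z := by
    rw [← hs.sq, ← hs.ts, mul_assoc (t * s), mul_assoc (t * s), inv_mul_cancel, one_mul, mul_assoc]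
  have θ : ∀ o ∈ O, s * o * s⁻¹ ∈ O := fun o ho => by
    obtain ⟨o', ho', x, e, xx, ox, -⟩ := d.dec' h (g := s * o * s⁻¹) (by
        have := (st ▸ (d.ot o ho).mul_right (d.oi o ho z)).conj s
        simpa [mul_assoc] using this)
      fun j => ((hR j).mul_left (d.oi o ho _)).mul_left (hR j).inv_left
    have : (o' * x) ^ (2 * m + 1) = 1 := by rw [← e, conj_pow, d.pw o ho]; simp
    rw [(ox o' ho').mul_pow, d.pw o' ho', one_mul, pow_succ, pow_mul, pow_two, xx, one_pow,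
      one_mul] at this
    rwa [e, this, mul_one]
  have θi : ∀ i, ∀ o ∈ O, sI ι s i * o * (sI ι s i)⁻¹ = s * o * s⁻¹ := fun i o ho => by
    have h1 := (d.oi o ho sg).pow_right i
    have h2 := (d.oi _ (θ o ho) sg).pow_right i
    calc _ = ι sg ^ i * (s * ((ι sg ^ i)⁻¹ * (o * ι sg ^ i)) * s⁻¹) * (ι sg ^ i)⁻¹ := by
          unfold sI; group
      _ = _ := by rw [h1.eq, inv_mul_cancel_left, ← h2.eq, mul_inv_cancel_right]
  have θ2 : ∀ o ∈ O, s * (s * o * s⁻¹) * s⁻¹ = o := fun o ho => by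
    calc _ = s * s * o * (s * s)⁻¹ := by group
      _ = _ := by rw [hs.sq, ← (d.oi o ho z).eq, mul_inv_cancel_right]
  obtain ⟨o1, h1, x, e, -, ox, -⟩ := d.dec' h (com3 h hR ht)
    fun j => ((hR j).mul_left (com_R hR 1 j)).mul_left (com_R hR 3 j)
  have k : ∀ o ∈ O, o1 * o * o1⁻¹ = s * o * s⁻¹ := fun o ho => by
    calc _ = o1 * x * o * (o1 * x)⁻¹ := by rw [mul_assoc o1 x, ← (ox o ho).eq]; group
      _ = s * (sI ι s 1 * (sI ι s 3 * o * (sI ι s 3)⁻¹) * (sI ι s 1)⁻¹) * s⁻¹ := by rw [← e]; group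
      _ = _ := by rw [θi 3 o ho, θi 1 _ (θ o ho), θ2 o ho]
  intro o ho
  have k2 : Commute (o1 * o1) o := mul_inv_eq_iff_eq_mul.1 (by
    calc _ = o1 * (o1 * o * o1⁻¹) * o1⁻¹ := by group
      _ = _ := by rw [k o ho, k _ (θ o ho), θ2 o ho])
  have k3 := k2.pow_left (m + 1)
  rw [← pow_two, ← pow_mul, show 2 * (m + 1) = 2 * m + 1 + 1 by ring, pow_succ, d.pw o1 h1,
    one_mul] at k3
  exact mul_inv_eq_iff_eq_mul.1 (by rw [← k o ho, k3.eq, mul_inv_cancel_right])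

theorem h1 : H1Stmt.{u} := by
  intro f G _ _ ι π t h k s hs
  obtain ⟨O, m, d⟩ := exists_dec f h k
  have fw : Fx ι s w2 := mul_inv_eq_iff_eq_mul.2 hs.cw.symm
  have fx : Fx ι s x2 := mul_inv_eq_iff_eq_mul.2 hs.cx.symm
  have fr : Fx ι s rho := mul_inv_eq_iff_eq_mul.2 hs.cr.symm
  have vc : Iv ι s c := hs.cs
  have hR : ∀ k, Commute s (ι (rr k)) := fun k => by
    have h1 : Commute s (ι z) := hs.sq ▸ (Commute.refl s).mul_right (Commute.refl s)
    have h2 : Commute s (ι y) := by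
      have := ((fr.ff fx).ff fr).ff fr
      rw [show rho * x2 * rho * rho = y by decide] at this
      exact (mul_inv_eq_iff_eq_mul.1 this : Commute _ _).symm
    simp only [rr, map_mul, map_pow]
    exact ((h1.pow_right _).mul_right (hs.cx.pow_right _)).mul_right (h2.pow_right _)
  have zr : z = rr 1 := by decide
  have si : s⁻¹ = s * ι (rr 1) := by
    rw [inv_eq_iff_mul_eq_one, ← mul_assoc, hs.sq, zr, rr_sq]
  have si1 : (sI ι s 1)⁻¹ = sI ι s 1 * ι (rr 2) := by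
    rw [← sI_inv, si, sI_mul, sI_ι, show sg ^ 1 * rr 1 * (sg ^ 1)⁻¹ = rr 2 by decide]
  have ht : t * s * t⁻¹ = s * ι z := hs.ts.trans si
  have ht1 : t * sI ι s 1 * t⁻¹ = (sI ι s 1)⁻¹ := by
    rw [← sI_inv, ← hs.ts, sI_mul, sI_mul, sI_inv, sI_t h.tc]
  have R1 := com_R hR 1
  have sO := cent_O h.toHb d hs hR ht
  have i0 : ⁅s⁻¹, sI ι s 1⁆ = ⁅s, sI ι s 1⁆ := by rw [si, cm_left (hR _).symm (R1 _).symm]
  have i1 : ∀ a, (∀ k, Commute a (ι (rr k))) → ⁅a, (sI ι s 1)⁻¹⁆ = ⁅a, sI ι s 1⁆ := fun a ha => by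
    rw [si1, cm_right (ha _).symm]
  obtain ⟨j, hj⟩ : ∃ j, ⁅s, sI ι s 1⁆ = ι (rr j) := by
    obtain ⟨o, ho, x, e, xx, ox, j, hj⟩ := d.dec' h.toHb (g := ⁅s, sI ι s 1⁆)
      (mul_inv_eq_iff_eq_mul.1 (by
        rw [conjugate_commutatorElement, hs.ts, ht1, i1 _ fun k => (hR k).inv_left, i0]) :
          Commute t _).symm
      fun j => (((hR j).mul_left (R1 j)).mul_left (hR j).inv_left).mul_left (R1 j).inv_left
    have iv : s * ⁅s, sI ι s 1⁆ * s⁻¹ * ⁅s, sI ι s 1⁆ = 1 := by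
      have c2 : Commute (s * s) (sI ι s 1) := by rw [hs.sq, zr]; exact (R1 1).symm
      calc _ = s * s * sI ι s 1 * s⁻¹ * (sI ι s 1)⁻¹ * sI ι s 1 * s⁻¹ * (sI ι s 1)⁻¹ := by
            rw [commutatorElement_def]; group
        _ = _ := by rw [c2.eq]; group
    rw [e, ← mul_assoc s, (sO o ho).eq] at iv
    rcases hj with rfl | rfl
    · rw [mul_assoc o, (hR j).eq, mul_assoc o, mul_inv_cancel_right, mul_assoc,
        (ox o ho).symm.left_comm, xx, mul_one] at iv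
      exact ⟨j, by rw [e, d.sq ho iv, one_mul]⟩
    · have e1 : s * (t * ι (rr j)) * s⁻¹ = ι z * (t * ι (rr j)) := by
        calc _ = s * (t * s⁻¹ * t⁻¹) * (t * (s * ι (rr j) * s⁻¹)) := by group
          _ = _ := by rw [← conj_inv, hs.ts, inv_inv, hs.sq, (hR j).eq, mul_inv_cancel_right]
      rw [mul_assoc o, mul_assoc o, e1, mul_assoc, mul_assoc, (ox o ho).symm.left_comm, xx, mul_one,
        ← (d.oi o ho z).eq, ← mul_assoc, mul_eq_one_iff_eq_inv] at iv
      rw [d.sq (mul_mem ho ho) (by rw [iv, ← mul_inv_rev, zr, rr_sq, inv_one]), eq_comm, inv_eq_one,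
        ← map_one ι] at iv
      exact absurd (h.inj iv) (by decide)
  have cj : ∀ l : Alt, ι l * ⁅s, sI ι s 1⁆ * (ι l)⁻¹ = ⁅s, sI ι s 1⁆ → l * rr j * l⁻¹ = rr j :=
    fun l H => h.inj (by rwa [map_mul, map_mul, map_inv, ← hj])
  have j1 := cj w2 (by
    rw [conjugate_commutatorElement, fw, mv (j := 1) (m := w2 * c * rho * w2) (by decide),
      ((fw.fv vc).vf fr).vf fw, sI_inv, i1 _ hR])
  have j2 := cj c (by
    rw [conjugate_commutatorElement, vc, mv (j := 1) (m := rho * w2 * rho * rho) (by decide),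
      ((fr.ff fw).ff fr).ff fr, i0])
  have j3 := cj (ev 1 2 5 6) (by
    have := mv (ι := ι) (a := s) (l := ev 1 2 5 6) (i := 0) (j := 1) (m := w2 * rho * c) (by decide)
    rw [sI_zero, (fw.ff fr).fv vc] at this
    rw [conjugate_commutatorElement, this, mv (j := 0) (m := rho * w2 * c) (by decide),
      (fr.ff fw).fv vc, sI_zero, sI_inv, ← commutatorElement_inv, i1 _ fun k => (hR k).inv_left, i0,
      hj, inv_eq_of_mul_eq_one_left (rr_sq j)])
  have fb : Fx ι s b13 := by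
    have := ((fr.ff fw).ff fr).ff fr
    rwa [show rho * w2 * rho * rho = b13 by decide] at this
  have all : ∀ a, Fx ι a w2 → Fx ι a rho → Fx ι a b13 → Commute a (sI ι a 1) →
      ∀ i j, Commute (sI ι a i) (sI ι a j) := fun a f1 f2 f3 c1 => by
    refine com_all c1 ?_ ?_
    · have := c1.conj (ι rho)
      rwa [f2, mv (j := 2) (m := rho) (by decide), f2] at this
    · have := c1.conj (ι b13)
      rwa [f3, mv (j := 3) (m := w2 * rho) (by decide), f1.ff f2] at this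
  have jj : j = 0 ∨ j = 3 := by revert j1 j2 j3; clear hj cj; revert j; decide
  rcases jj with rfl | rfl
  · have c := all s fw fr fb (commutatorElement_eq_one_iff_commute.1 (hj.trans (map_one ι)))
    have c0 : ∀ i, Commute s (sI ι s i) := fun i => by simpa only [sI_zero] using c 0 i
    have := trip h.toHb d hR ht c hs.sq (by decide)
    refine ⟨hs, c0 1, c0 2, ?_⟩
    rw [show sg ^ 2 * z * (sg ^ 2)⁻¹ * (sg ^ 4 * z * (sg ^ 4)⁻¹) * (sg ^ 5 * z * (sg ^ 5)⁻¹) =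
      z * (sg ^ 2 * z * (sg ^ 2)⁻¹) by decide, map_mul, ← sI_ι, ← hs.sq, sI_mul] at this
    have q0 : s * (s * (s * s)) = 1 := by rw [← mul_assoc, hs.sq, zr, rr_sq]
    have q : ∀ i x, sI ι s i * (sI ι s i * (sI ι s i * (sI ι s i * x))) = x := fun i x => by
      have := congrArg (sI ι · i * x) q0
      simpa only [sI_mul, mul_assoc, show sI ι (1 : G) i = 1 by simp [sI], one_mul] using this
    have q1 := q 0
    have q2 := q 2 1
    rw [sI_zero] at q1
    rw [mul_one] at q2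
    refine mul_left_cancel (a := s * sI ι s 1) (mul_right_cancel (this.trans (Eq.symm ?_)))
    simp only [pow_succ, pow_zero, one_mul, mul_assoc, (c0 1).symm.left_comm, (c0 2).symm.left_comm,
      q, q1, q2]
  · have tt : t⁻¹ = t := inv_eq_of_mul_eq_one_left h.t2
    have fp : ∀ l, Fx ι s l → Fx ι (s * t) l := fun l H => by
      unfold Fx at *
      rw [← conj_mul, H, (h.tc l).eq, mul_inv_cancel_right]
    have pR : ∀ k, Commute (s * t) (ι (rr k)) := fun k => (hR k).mul_left (h.tc _).symm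
    have c := all (s * t) (fp _ fw) (fp _ fr) (fp _ fb) (by
      rw [sI_mul, sI_t h.tc]
      have e : s * sI ι s 1 = sI ι s 1 * s * ι (rr 3) := by
        rw [((R1 3).mul_left (hR 3)).eq, ← hj, commutatorElement_def]; group
      calc _ = s * (t * sI ι s 1 * t⁻¹) := by rw [tt]; group
        _ = sI ι s 1 * (t * s * t⁻¹) := by
          rw [ht1, hs.ts, si, si1, ← mul_assoc, e, mul_assoc, ← map_mul,
            show rr 3 * rr 2 = rr 1 by decide, mul_assoc]
        _ = _ := by rw [tt]; group)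
    have := trip h.toHb d pR (b := 1)
      (by rw [← mul_assoc, mul_inv_cancel_right, mul_assoc, ← (h.tc z).eq, ← mul_assoc, ← ht]; group)
      c (by rw [map_one, mul_assoc, ← mul_assoc t, ← tt, tt, ← mul_inv_cancel s, ← hs.ts, tt])
      (by simp)
    simp only [mul_one, mul_inv_cancel, map_one] at this
    have vp : ι A9.c * (s * t) * (ι A9.c)⁻¹ = s * t * ι (rr 1) := by
      rw [← conj_mul, vc, (h.tc _).eq, mul_inv_cancel_right, si, mul_assoc, (h.tc _).eq, mul_assoc]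
    have e := congrArg (fun x => ι A9.c * x * (ι A9.c)⁻¹) this
    simp only [← conj_mul, mul_one, mul_inv_cancel] at e
    rw [conj_mul, vp, mv (j := 1) (m := rho * w2 * rho * rho) (by decide),
      fp _ (((fr.ff fw).ff fr).ff fr), mv (j := 3) (m := w2 * rho * w2 * A9.c) (by decide), cj_mul,
      vp, ← conj_mul, fp _ ((fw.ff fr).ff fw), sI_mul (s * t), ← map_inv, ← map_mul, ← map_mul, sI_ι,
      mul_assoc _ (ι (rr 1)), (com_R pR 1 1).symm.eq, mul_assoc (s * t), mul_assoc (sI _ _ _),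
      (com_R pR 3 1).symm.left_comm, ← map_mul, ← mul_assoc, ← mul_assoc, this, one_mul,
      ← map_one ι] at e
    exact absurd (h.inj e) (by decide)

end Cfsg.Agent.Lead.P9H62A8H
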