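import Cfsg.Agent.Lead.A9Defs

/-! The group `4³ : D₈` is the model of a Sylow subgroup of `HS` (project A8S, piece H2). -/

set_option autoImplicit false
set_option maxRecDepth 100000

namespace Cfsg.Agent.Lead.P9H16A8H2

open Cfsg Cfsg.Agent.H63 Cfsg.Agent.Lead.A9 Cfsg.Agent.H96 Subgroup

universe u

/-- the action of `dd k` -/
def M (k : Fin 8) (a : V4) : V4 := Mc^[k.1 % 2] (Mb^[k.1 / 2 % 2] (Mw^[k.1 / 4] a))

def mD (k l : Fin 8) : Fin 8 :=
  ⟨((k.1 + l.1) % 2 + (k.1 / 2 + l.1 / 2) % 2 * 2 +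
    (k.1 / 4 + l.1 / 4 + k.1 / 2 * l.1) % 2 * 4) % 8, Nat.mod_lt _ (by decide)⟩

theorem dd_mul : ∀ k l, dd k * dd l = dd (mD k l) := by decide +kernel

def mu (x y : V4 × Fin 8) : V4 × Fin 8 := (x.1 + M x.2 y.1, mD x.2 y.2)

variable {G : Type u} [Group G] {ι : Alt →* G} {t : G} {φ : V4 → G}

theorem pw {g : G} {N : V4 → V4} (h : ∀ a, g * φ a * g⁻¹ = φ (N a)) :
    ∀ (n : ℕ) (a : V4), g ^ n * φ a = φ (N^[n] a) * g ^ n
  | 0, a => by simp
  | n + 1, a => by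
    rw [pow_succ, mul_assoc, mul_inv_eq_iff_eq_mul.1 (h a), ← mul_assoc, pw h n,
      Function.iterate_succ_apply, mul_assoc]

theorem act (h : NF ι t φ) (k : Fin 8) (a : V4) : ι (dd k) * φ a = φ (M k a) * ι (dd k) := by
  simp only [dd, map_mul, map_pow, M]
  rw [mul_assoc, pw h.mw, mul_assoc, ← mul_assoc (ι b13 ^ _), pw h.mb, ← mul_assoc, ← mul_assoc,
    pw h.mc]
  simp only [mul_assoc]

/-- the normal forms -/
def E (ι : Alt →* G) (φ : V4 → G) (x : V4 × Fin 8) : G := φ x.1 * ι (dd x.2)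

theorem E_mul (h : NF ι t φ) (x y : V4 × Fin 8) : E ι φ x * E ι φ y = E ι φ (mu x y) := by
  simp only [E, mu]
  rw [h.add, ← dd_mul, map_mul, mul_assoc, ← mul_assoc (ι _), act h]
  simp only [mul_assoc]

theorem E_one (h : NF ι t φ) : 1 = E ι φ (0, 0) := by
  have h1 := h.add 0 0
  rw [add_zero, left_eq_mul] at h1
  simp [E, h1, dd]

theorem rel (h : NF ι t φ) : H4.SHS.T.Rel [E ι φ (0, 1), E ι φ ((0, 2, 1), 0), E ι φ ((1, 1, 0), 0),
    E ι φ (0, 2), E ι φ ((2, 0, 0), 4), E ι φ ((0, 0, 2), 0), E ι φ ((2, 2, 0), 0),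
    E ι φ ((3, 0, 0), 0), E ι φ ((2, 0, 0), 0)] := by
  apply H4.SHS.rel_of <;> simp only [E_mul h, E_one h] <;> exact congrArg _ (by decide +kernel)

theorem h2 : H2Stmt.{u} := by
  intro _ G _ _ ι π t _ _ φ h
  have hi : Function.Injective (Pc.lift _ (rel h)) := by
    refine Pc.lift_injective _ _ fun y y1 y2 hy => ?_
    rw [(H4.HS.inv_Zc y (H4.HS.cent_Q y fun b _ => (hy b).symm) y2).resolve_left y1,
      show H4.HS.z.val = 2 ^ 8 by decide +kernel, word_two_pow _ _ (by simp)]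
    intro d
    have e : φ (2, 0, 0) = 1 := by simpa [E, dd] using d
    exact absurd (h.inj _ e) (by decide)
  refine ⟨_, hi, eq_of_le_of_card_ge ?_ ?_⟩
  · rw [Pc.range_lift, closure_le]
    intro x hx
    simp only [List.mem_cons, List.not_mem_nil, or_false, Set.mem_ofPred_eq] at hx
    rcases hx with rfl | rfl | rfl | rfl | rfl | rfl | rfl | rfl | rfl <;>
      exact (h.memS _).2 ⟨_, _, rfl⟩
  · rw [MonoidHom.range_eq_map, card_map_of_injective hi, card_top, H4.HS.card_Mo, h.cardS]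

end Cfsg.Agent.Lead.P9H16A8H2
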