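import Cfsg.Agent.Lead.A9Defs
import Cfsg.Agent.H82.Extremal
import Cfsg.Agent.H8.Residual
import Cfsg.Agent.S1777

/-!
# A standard subgroup of type `A₈`: the recognition of the Higman–Sims group
-/

set_option autoImplicit false

namespace Cfsg.Agent.Lead.P9H76A8H3b

open Cfsg Cfsg.Agent.H63 Cfsg.Agent.H63.SL Cfsg.Agent.H63.WR Cfsg.Agent.Lead.A9 Subgroup
open Cfsg.Agent.H8 (IsSylowIn)
open Equiv.Perm (sign)

universe u

variable {G : Type u} [Group G] {ι : Alt →* G} {π : G → S8} {t : G} {φ : V4 → G}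

theorem dvd_cent [Finite G] (h : Hy ι π t) (k : Kit ι π t) {g : G} (hg : Commute g t)
    (hs : sign (π g) = -1) : 2 ^ 8 ∣ Nat.card C1[t] := by
  obtain ⟨f, hf⟩ := k.hom
  have m : ∀ {x : G}, Commute x t → x ∈ C1[t] := fun hx => mem_centralizer_singleton_iff.2 hx
  have sj : f.range = ⊤ := eq_top_iff.2 fun p _ => by
    rcases Int.units_eq_one_or (sign p) with e | e
    · exact ⟨⟨ι ⟨p, e⟩, m (h.tc _)⟩, by rw [hf]; exact h.sec _⟩
    · have e' : p * (π g)⁻¹ ∈ alternatingGroup (Fin 9) := by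
        simp [Equiv.Perm.mem_alternatingGroup, e, hs]
      refine ⟨⟨ι ⟨_, e'⟩ * g, m ((h.tc _).mul_left hg)⟩, ?_⟩
      rw [hf]
      simp only
      rw [h.mul _ _ (h.tc _) hg, h.sec]
      simp
  have h1 : 2 ∣ Nat.card f.ker := by
    have := orderOf_dvd_natCard (⟨⟨t, m (Commute.refl t)⟩, by
      rw [MonoidHom.mem_ker, hf]; exact k.pt⟩ : f.ker)
    rwa [orderOf_eq_prime (p := 2) (Subtype.ext (Subtype.ext (by simp [pow_two, h.t2])))
      fun e => h.t1 (congrArg (fun x : f.ker => ((x : C1[t]) : G)) e)] at this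
  have h2 := f.ker.card_mul_index
  rw [index_ker, sj, card_top, Nat.card_eq_fintype_card (α := S8), Fintype.card_perm,
    Fintype.card_fin] at h2
  rw [← h2, pow_succ']
  exact mul_dvd_mul h1 (by decide : 2 ^ 7 ∣ Nat.factorial 9)

/-- The action of `dd k`. -/
def Md (k : Fin 8) (a : V4) : V4 := Mc^[k.1 % 2] (Mb^[k.1 / 2 % 2] (Mw^[k.1 / 4] a))

theorem fix_Md : ∀ k : Fin 8, k ≠ 0 → (Finset.univ.filter fun a => Md k a = a).card ≤ 8 := by
  decide +kernel

theorem conj_pow {g : G} {M : V4 → V4} (H : ∀ a, g * φ a * g⁻¹ = φ (M a)) (n : ℕ) (a : V4) :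
    g ^ n * φ a * (g ^ n)⁻¹ = φ (M^[n] a) := by
  induction n with
  | zero => simp
  | succ n ih => rw [Function.iterate_succ_apply', ← H, ← ih, pow_succ']; group

variable (N : NF ι t φ)
include N

theorem md (k : Fin 8) (a : V4) : ι (dd k) * φ a * (ι (dd k))⁻¹ = φ (Md k a) := by
  rw [Md, ← conj_pow N.mc, ← conj_pow N.mb, ← conj_pow N.mw, dd, map_mul, map_mul, map_pow, map_pow,
    map_pow]
  group

/-- `φ` as a homomorphism. -/
def ψ : Multiplicative V4 →* G := MonoidHom.mk' (fun a => φ a.toAdd) fun _ _ => N.add _ _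

theorem φ0 : φ 0 = 1 := (ψ N).map_one

theorem φinj : Function.Injective φ :=
  ((injective_iff_map_eq_one (ψ N)).2 fun a e => N.inj _ e :)

theorem card_ψ : Nat.card (ψ N).range = 64 := by
  rw [MonoidHom.range_eq_map, card_map_of_injective (f := ψ N) (φinj N), card_top]
  simp [Nat.card_eq_fintype_card]

theorem small [Finite G] {a : V4} {k : Fin 8} (hk : k ≠ 0) :
    Nat.card ↥((SS ι φ ⊔ zpowers t) ⊓ C1[φ a * ι (dd k)]) ≤ 128 := by
  set C := (SS ι φ ⊔ zpowers t) ⊓ C1[φ a * ι (dd k)]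
  have le : (ψ N).range ≤ SS ι φ ⊔ zpowers t := by
    rintro _ ⟨b, rfl⟩
    exact mem_sup_left (subset_closure (.inl ⟨_, rfl⟩))
  have h1 : (ψ N).range.relIndex (SS ι φ ⊔ zpowers t) = 16 := by
    have := ((ψ N).range.subgroupOf (SS ι φ ⊔ zpowers t)).card_mul_index
    rw [Nat.card_congr (subgroupOfEquivOfLe le).toEquiv, card_ψ, N.cardT] at this
    unfold relIndex
    omega
  have h2 : (ψ N).range.relIndex C ≤ 16 :=
    h1 ▸ relIndex_le_of_le_right inf_le_left (by omega)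
  have h3 : Nat.card ((ψ N).range.subgroupOf C) ≤ 8 := by
    refine le_trans ?_ (fix_Md k hk)
    rw [← Nat.card_eq_finsetCard]
    have ex : ∀ x : (ψ N).range.subgroupOf C, ∃ b : (Finset.univ.filter fun a => Md k a = a),
        φ b = ((x : C) : G) := fun x => by
      obtain ⟨b, hb⟩ := x.2
      refine ⟨⟨b.toAdd, Finset.mem_filter.2 ⟨Finset.mem_univ _, φinj N ?_⟩⟩, hb⟩
      have c : φ b.toAdd * (φ a * ι (dd k)) = φ a * ι (dd k) * φ b.toAdd := by
        have := mem_centralizer_singleton_iff.1 x.1.2.2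
        rwa [show ((x : C) : G) = φ b.toAdd from hb.symm] at this
      rw [← mul_assoc, ← N.add, add_comm, N.add, mul_assoc, mul_assoc, mul_right_inj] at c
      rw [← md N, ← c, mul_inv_cancel_right]
    choose F hF using ex
    exact Nat.card_le_card_of_injective F fun x y e =>
      Subtype.ext (Subtype.ext (by rw [← hF, ← hF, e]))
  have h4 := ((ψ N).range.subgroupOf C).card_mul_index
  rw [← h4]
  exact Nat.mul_le_mul h3 h2

theorem two_tors {a : V4} (ha : φ a * φ a = 1) : φ a ∈ ι.range := by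
  have : ∀ a : V4, a + a = 0 → ∃ x ∈ [(0 : V4), (2, 0, 0)], ∃ y ∈ [(0 : V4), (0, 2, 0)],
      ∃ z ∈ [(0 : V4), (0, 0, 2)], a = x + y + z := by decide +kernel
  obtain ⟨x, hx, y, hy, z, hz, rfl⟩ := this a (N.inj _ (by rw [N.add, ha]))
  have o : φ 0 ∈ ι.range := by rw [φ0 N]; exact one_mem _
  simp only [List.mem_cons, List.not_mem_nil, or_false] at hx hy hz
  rw [N.add, N.add]
  refine mul_mem (mul_mem ?_ ?_) ?_
  · rcases hx with rfl | rfl
    exacts [o, ⟨_, N.r0.symm⟩]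
  · rcases hy with rfl | rfl
    exacts [o, ⟨_, N.r1.symm⟩]
  · rcases hz with rfl | rfl
    exacts [o, ⟨_, N.r2.symm⟩]

theorem SS_le {X : Subgroup G} [X.Normal] (hL : ι.range ≤ X) : SS ι φ ≤ X := by
  let q : Multiplicative V4 →* G ⧸ X := (QuotientGroup.mk' X).comp (ψ N)
  have qa : ∀ a b : V4, q (.ofAdd (a + b)) = q (.ofAdd a) * q (.ofAdd b) := fun a b => map_mul q _ _
  have one : ∀ a, ((ι a : G) : G ⧸ X) = 1 := fun a => (QuotientGroup.eq_one_iff _).2 (hL ⟨a, rfl⟩)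
  have ms : ∀ a : V4, q (.ofAdd (Ms a)) = q (.ofAdd a) := fun a => by
    change ((φ (Ms a) : G) : G ⧸ X) = (φ a : G)
    rw [← N.ms, QuotientGroup.mk_mul, QuotientGroup.mk_mul, QuotientGroup.mk_inv, one]
    simp
  have e1 : q (.ofAdd (0, 1, 0)) = q (.ofAdd (1, 0, 0)) := ms (1, 0, 0)
  have e2 : q (.ofAdd (0, 0, 1)) = q (.ofAdd (0, 1, 0)) := ms (0, 1, 0)
  have e3 : q (.ofAdd (1, 3, 2)) = q (.ofAdd (0, 0, 1)) := ms (0, 0, 1)
  have r0 : q (.ofAdd (2, 0, 0)) = 1 := (congrArg _ N.r0).trans (one _)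
  have r2 : q (.ofAdd (0, 0, 2)) = 1 := (congrArg _ N.r2).trans (one _)
  have e4 : q (.ofAdd (1, 0, 0)) = 1 := by
    have a1 := qa (1, 0, 0) (0, 1, 0)
    have a2 := qa (1, 1, 0) (1, 3, 2)
    have a3 := qa (2, 0, 0) (0, 0, 2)
    have a4 := qa (1, 0, 0) (1, 0, 0)
    rw [show ((1, 0, 0) + (0, 1, 0) : V4) = (1, 1, 0) by decide, e1, ← a4,
      show ((1, 0, 0) + (1, 0, 0) : V4) = (2, 0, 0) by decide, r0] at a1
    rw [show ((1, 1, 0) + (1, 3, 2) : V4) = (2, 0, 0) + (0, 0, 2) by decide, a3, r0, r2, a1, e3, e2,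
      e1] at a2
    simpa using a2.symm
  refine (closure_le _).2 ?_
  rintro _ (⟨a, rfl⟩ | rfl | rfl)
  · refine (QuotientGroup.eq_one_iff _).1 (show q (.ofAdd a) = 1 from ?_)
    have : ∀ a : V4, a = a.1.val • ((1, 0, 0) : V4) + a.2.1.val • ((0, 1, 0) : V4) +
        a.2.2.val • ((0, 0, 1) : V4) := by decide +kernel
    rw [this a, qa, qa, ofAdd_nsmul, ofAdd_nsmul, ofAdd_nsmul, map_pow, map_pow, map_pow, e2, e1, e4]
    simp
  · exact hL ⟨_, rfl⟩
  · exact hL ⟨_, rfl⟩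

omit N in
theorem le_res [Finite G] (h : Hy ι π t) {X : Subgroup G} (R : Red X ι.range t) :
    X ≤ pResidual 2 G := by
  have := R.simple
  have := H8.pResidual_normal (G := G) 2
  rcases (inferInstance : ((pResidual 2 G).subgroupOf X).Normal).eq_bot_or_eq_top with e | e
  · have h3 : rho ^ 3 = 1 := by decide +kernel
    have h1 : rho ≠ 1 := by decide +kernel
    have m : (⟨ι rho, R.le ⟨_, rfl⟩⟩ : X) ∈ (pResidual 2 G).subgroupOf X := subset_closure (by
      change Nat.Coprime (orderOf (ι rho)) 2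
      rw [orderOf_injective ι h.inj, orderOf_eq_prime h3 h1]
      decide)
    rw [e] at m
    exact absurd (h.inj ((congrArg Subtype.val (mem_bot.1 m)).trans ι.map_one.symm)) h1
  · exact subgroupOf_eq_top.1 e

theorem not_mem [Finite G] (h : Hy ι π t) (k : Kit ι π t) {X : Subgroup G} (R : Red X ι.range t)
    (hT : IsSylowIn 2 (SS ι φ ⊔ zpowers t) ⊤) {g0 : G} (hg : Commute g0 t)
    (hs : sign (π g0) = -1) : t ∉ X := fun ht => by
  have hi : ((SS ι φ).subgroupOf (hT.toSylowTop : Subgroup G)).index = 2 := by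
    have := ((SS ι φ).subgroupOf (SS ι φ ⊔ zpowers t)).card_mul_index
    rw [Nat.card_congr (subgroupOfEquivOfLe le_sup_left).toEquiv, N.cardS, N.cardT] at this
    rw [hT.coe_toSylowTop]
    omega
  have := normal_of_index_eq_two hi
  obtain ⟨g, h1, -, h2, -⟩ := H82.exists_extremal_conj_of_cyclic hT.toSylowTop (SS ι φ)
    (isCyclic_of_prime_card (p := 2) hi) h.t2 (mem_sup_right (mem_zpowers t)) N.tS (le_res h R ht)
  obtain ⟨a, m, e⟩ := (N.memS _).1 h1
  have cj : IsConj t (g * t * g⁻¹) := isConj_iff.2 ⟨g, rfl⟩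
  by_cases hm : m = 0
  · have e0 : dd 0 = 1 := by simp [dd]
    rw [hm, e0, map_one, mul_one] at e
    obtain ⟨b, hb⟩ := two_tors N (a := a) (by rw [← e, conj_mul, h.t2]; simp)
    exact k.nl b (by rwa [hb, ← e])
  · have h3 := small N (a := a) hm
    rw [← e] at h3
    have h4 : 2 ^ 8 ∣ Nat.card C1[g * t * g⁻¹] := by
      refine (dvd_cent h k hg hs).trans (dvd_of_eq (Nat.card_congr
        (Equiv.subtypeEquiv (MulAut.conj g).toEquiv fun x => ?_)))
      simp only [mem_centralizer_singleton_iff, MulEquiv.toEquiv_eq_coe, MulEquiv.coe_toEquiv,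
        MulAut.conj_apply, conj_mul, mul_left_inj, mul_right_inj]
    obtain ⟨U, hU⟩ := Sylow.exists_subgroup_card_pow_prime 2 h4
    have h5 := h2.card_le (map_subtype_le U) ((IsPGroup.of_card hU).map _)
    rw [card_map_of_injective (subtype_injective _), hU, hT.coe_toSylowTop] at h5
    omega

omit N in
theorem h3b : H3bStmt.{u} := by
  intro _ G _ _ ι π t h k X R φ N hT ⟨g0, hg, hs⟩ ⟨e, he, hr⟩
  have ht := not_mem N h k R hT hg hs
  have := R.nrm
  have := R.simple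
  have le := SS_le N R.le
  have h1 := H8.isSylowIn_inf_normal hT.toSylowTop X
  have h2 : SS ι φ = (hT.toSylowTop : Subgroup G) ⊓ X :=
    le_antisymm (le_inf le_sup_left le) fun g hg => ((N.memT g).1 hg.1).resolve_right fun n =>
      ht ((X.mul_mem_cancel_left hg.2).1 (le n))
  rw [← h2] at h1
  obtain ⟨P, hP⟩ := H67.exists_sylow_top H4.HS.fr_emb.syl
  exact ⟨ht, S1777.result h1.toSylow P ⟨(subgroupOfEquivOfLe le).trans
    ((MulEquiv.subgroupCongr hr.symm).trans ((MonoidHom.ofInjective he).symm.trans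
      ((MonoidHom.ofInjective H4.HS.fr_emb.inj).trans (MulEquiv.subgroupCongr hP.symm))))⟩⟩

end Cfsg.Agent.Lead.P9H76A8H3b
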