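import Mathlib
import Cfsg.Agent.H80.SLRoot
import Cfsg.Agent.Lead.A9Defs2

/-!
# Coordinates for the doubled root subgroups
-/

set_option autoImplicit false
set_option linter.unusedSectionVars false

namespace Cfsg.Agent.Lead.S9Ring

open Cfsg.Agent.H80.SL Cfsg.Agent.H63 Cfsg.Agent.H63.SL Cfsg.Agent.H34 Cfsg.Agent.H40 Equiv
open scoped commutatorElement

universe u v

variable {ι Φ : Type} [Fintype ι] [DecidableEq ι] {R : RS ι Φ} {F : Type v} [Field F] {G : Type u} [Group G]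
  {L : Subgroup G} {x : Φ → F → G} {t : G} {Xh : Φ → Subgroup G}

theorem x_mem_UU {S : Set Φ} {r : Φ} (hr : r ∈ S) (a : F) : x r a ∈ UU x S :=
  Subgroup.subset_closure ⟨r, hr, Subgroup.subset_closure ⟨a, rfl⟩⟩

theorem mem_C_UU {S : Set Φ} {p : G} : p ∈ C[UU x S] ↔ ∀ s ∈ S, ∀ a, Commute p (x s a) := by
  refine ⟨fun h s hs a => (h _ (x_mem_UU hs a)).symm, fun h g hg => ?_⟩
  refine Subgroup.mem_centralizer_singleton_iff.1 ((Subgroup.closure_le (K := C1[p])).2 ?_ hg)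
  rintro _ ⟨s, hs, hg⟩
  refine (Subgroup.closure_le (K := C1[p])).2 ?_ hg
  rintro _ ⟨a, rfl⟩
  exact Subgroup.mem_centralizer_singleton_iff.2 (h s hs a).symm

theorem comm_mul_left {p p' q : G} (h : Commute p ⁅p', q⁆) : ⁅p * p', q⁆ = ⁅p', q⁆ * ⁅p, q⁆ := by
  calc _ = p * ⁅p', q⁆ * p⁻¹ * ⁅p, q⁆ := by simp only [commutatorElement_def]; group
    _ = _ := by rw [h.eq, mul_inv_cancel_right]

theorem comm_comm {p q u : G} (h : Commute u p) (h' : Commute ⁅u, q⁆ ⁅p, q⁆) :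
    ⁅u, ⁅p, q⁆⁆ = ⁅p, ⁅u, q⁆⁆ := by
  calc _ = ⁅u * p * u⁻¹, u * q * u⁻¹⁆ * ⁅p, q⁆⁻¹ := by simp only [commutatorElement_def]; group
    _ = ⁅p, ⁅u, q⁆⁆ * (⁅u, q⁆ * ⁅p, q⁆ * ⁅u, q⁆⁻¹) * ⁅p, q⁆⁻¹ := by
      rw [h.eq, mul_inv_cancel_right]; simp only [commutatorElement_def]; group
    _ = _ := by rw [h'.eq]; group

variable (R L x) in
/-- `n` acts on the root elements as `w`. -/
def Act (n : G) (w : Perm Φ) : Prop := n ∈ L ∧ w ∈ R.W ∧ ∀ β a, n * x β a * n⁻¹ = x (w β) a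

theorem Act.mul {n n' : G} {w w' : Perm Φ} (a : Act R L x n w) (b : Act R L x n' w') :
    Act R L x (n * n') (w * w') :=
  ⟨mul_mem a.1 b.1, mul_mem a.2.1 b.2.1, fun β c => by rw [Perm.mul_apply, ← a.2.2, ← b.2.2]; group⟩

theorem Act.inv {n : G} {w : Perm Φ} (a : Act R L x n w) : Act R L x n⁻¹ w⁻¹ :=
  ⟨inv_mem a.1, inv_mem a.2.1, fun β c => by
    have := a.2.2 (w⁻¹ β) c
    rw [perm_app_inv] at this
    rw [← this]; group⟩

variable (R L x t Xh) in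
/-- The hypotheses. -/
structure Hy : Prop where
  h : Lace R
  c : Cfsg.Agent.Lead.A9.Ctx9 R L x t
  H : Hats R L x t Xh
  K : Coms R Xh

variable (R L x t Xh) in
/-- Additive coordinates. -/
structure YS {A : Type u} [AddCommGroup A] (y : Φ → A → G) (j : F → A) (σ : A → A) : Prop where
  add : ∀ r a b, y r (a + b) = y r a * y r b
  inj : ∀ r, Function.Injective (y r)
  mem : ∀ r p, p ∈ Xh r ↔ ∃ a, p = y r a
  res : ∀ r a, y r (j a) = x r a
  act : ∀ n w, Act R L x n w → ∀ r a, n * y r a * n⁻¹ = y (w r) a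
  conj : ∀ r a, t * y r a * t⁻¹ = y r (σ a)

namespace Hy

variable (s : Hy R L x t Xh)
include s

theorem p : Pin R x := s.c.mod.pin

theorem xL (r : Φ) (a : F) : x r a ∈ L := s.c.mod.gen ▸ x_mem_UU (Set.mem_univ r) a

theorem nnL (r : Φ) (c : Fˣ) : nn R x r c ∈ L := mul_mem (mul_mem (s.xL _ _) (s.xL _ _)) (s.xL _ _)

theorem act_nn (r : Φ) : Act R L x (nn R x r 1) (R.τ r) :=
  ⟨s.nnL r 1, R.τ_mem_W r, fun β a => by simpa using (pin R s.h x s.p r β 1 a).1⟩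

theorem exists_act {w : Perm Φ} (hw : w ∈ R.W) : ∃ n, Act R L x n w := by
  induction hw using R.W_induction with
  | one => exact ⟨1, one_mem _, one_mem _, fun β a => by simp⟩
  | step i w _ ih => exact ih.elim fun n hn => ⟨_, (R.τ_simple i ▸ s.act_nn (R.simple i)).mul hn⟩

theorem ct {g : G} (hg : g ∈ L) : Commute g t := s.c.tc g hg

theorem tt : t * t = 1 := by rw [← sq, ← s.c.t2, pow_orderOf_eq_one]

theorem sq {r : Φ} {p : G} (hp : p ∈ Xh r) : p * p = 1 := ((s.H.mem r p).1 hp).2.1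

theorem inv_eq {r : Φ} {p : G} (hp : p ∈ Xh r) : p⁻¹ = p := inv_eq_of_mul_eq_one_right (s.sq hp)

theorem comm {r : Φ} {p q : G} (hp : p ∈ Xh r) (hq : q ∈ Xh r) : Commute p q := by
  rw [Commute, SemiconjBy, ← s.inv_eq (mul_mem hp hq), mul_inv_rev, s.inv_eq hp, s.inv_eq hq]

theorem com {r β : Φ} (e : 0 ≤ R.pair r β) {p q : G} (hp : p ∈ Xh r) (hq : q ∈ Xh β) : Commute p q := by
  rcases vals s.h r β with e1 | e1 | e1 | e1 | e1
  · exact s.comm hp (e1 ▸ hq)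
  · rw [e1, R.pair_neg_right, R.pair_self] at e; omega
  · exact s.H.line r β e1 p hp q hq
  · exact s.K.orth r β e1 p hp q hq
  · omega

theorem conj_t {p g : G} (e : p * t * p⁻¹ = t * g) (hg : g ∈ L) (h2 : g * g = 1) : t * p * t⁻¹ = g * p := by
  calc _ = g * (t * g) * p * t⁻¹ := by rw [← mul_assoc g, (s.ct hg).eq, mul_assoc t g g, h2, mul_one]
    _ = _ := by rw [← e]; group

theorem act_mem {n : G} {w : Perm Φ} (a : Act R L x n w) {β : Φ} {p : G} (hp : p ∈ Xh β) :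
    n * p * n⁻¹ ∈ Xh (w β) := by
  obtain ⟨h1, h2, ⟨b, h3⟩, h4⟩ := (s.H.mem β p).1 hp
  have ht : n * t * n⁻¹ = t := by rw [(s.ct a.1).eq, mul_inv_cancel_right]
  refine (s.H.mem _ _).2 ⟨mem_C_UU.2 fun γ hγ c => ?_, by rw [conj_mul, h2, mul_one, mul_inv_cancel],
    ⟨b, ?_⟩, fun ⟨c, e⟩ => h4 ⟨c, ?_⟩⟩
  · obtain ⟨γ, rfl⟩ := w.surjective γ
    rw [← a.2.2]
    exact (mem_C_UU.1 h1 γ (by rwa [Set.mem_ofPred_eq, R.pair_W a.2.1] at hγ) c).map (MulAut.conj n)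
  · rw [← a.2.2, ← ht, conj_inv, conj_mul, conj_mul, conj_mul, h3]
  · rw [← a.2.2, ← ht, conj_mul] at e
    exact (MulAut.conj n).injective e

theorem exists_YS : ∃ (A : Type u) (_ : AddCommGroup A) (y : Φ → A → G) (j : F → A) (σ : A → A),
    YS R L x t Xh y j σ := by
  obtain ⟨i⟩ : Nonempty ι := Fintype.card_pos_iff.1 (lt_of_lt_of_le (by norm_num) s.h.rank)
  set α := R.simple i
  choose w hw e using trans s.h α
  choose n hn using fun β => s.exists_act (hw β)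
  have ht : ∀ p ∈ Xh α, t * p * t⁻¹ ∈ Xh α := fun p hp => by
    obtain ⟨a, ha⟩ := ((s.H.mem α p).1 hp).2.2.1
    rw [s.conj_t ha (s.xL _ _) (x_mul_self s.p _ _)]
    exact mul_mem (s.H.le _ _) hp
  letI : AddCommGroup (Additive (Xh α)) := { (inferInstance : AddGroup (Additive (Xh α))) with
    add_comm := fun a b => Subtype.ext (s.comm a.toMul.2 b.toMul.2).eq }
  refine ⟨Additive (Xh α), inferInstance,
    fun β a => n β * a.toMul.1 * (n β)⁻¹, fun a => Additive.ofMul ⟨_, s.H.le α a⟩,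
    fun a => Additive.ofMul ⟨_, ht _ a.toMul.2⟩, fun r a b => conj_mul.symm,
    fun r a b e => Subtype.ext ((MulAut.conj (n r)).injective e), fun r p => ⟨fun hp => ?_, ?_⟩,
    fun r a => ((hn r).2.2 α a).trans (by rw [e]), fun m v hm r a => ?_, fun r a => ?_⟩
  · have := s.act_mem (hn r).inv hp
    rw [show (w r)⁻¹ r = α from Perm.inv_eq_iff_eq.2 (e r).symm] at this
    exact ⟨Additive.ofMul ⟨_, this⟩, by simp [mul_assoc]⟩
  · rintro ⟨a, rfl⟩
    simpa only [e] using s.act_mem (hn r) a.toMul.2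
  · have h1 := (hn (v r)).inv.mul (hm.mul (hn r))
    have h2 := s.H.cent α _ h1.1 (fun b => mul_inv_eq_iff_eq_mul.1 ((h1.2.2 α b).trans (by
      rw [Perm.mul_apply, Perm.mul_apply, e, Perm.inv_eq_iff_eq.2 (e (v r)).symm]))) _ a.toMul.2
    calc _ = n (v r) * ((n (v r))⁻¹ * (m * n r) * a.toMul.1) * (m * n r)⁻¹ := by group
      _ = _ := by rw [h2.eq]; group
  · calc _ = (t * n r) * a.toMul.1 * (t * n r)⁻¹ := by group
      _ = n r * (t * a.toMul.1 * t⁻¹) * (n r)⁻¹ := by rw [← (s.ct (hn r).1).eq]; group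

theorem pair_of {r β k : Φ} (e : R.rc k = R.rc r + R.rc β) :
    R.pair r β = -1 ∧ 0 ≤ R.pair r k ∧ 0 ≤ R.pair β k := by
  have h1 := (sum s.h r β).2 ⟨k, e⟩
  rw [pair_add' r e, pair_add' β e, R.pair_self, R.pair_self, symm s.h β r, h1]
  decide

theorem eq_one_of_mem {r β k : Φ} (e : R.rc k = R.rc r + R.rc β) {z : G} (h1 : z ∈ Xh r) (h2 : z ∈ Xh k) :
    z = 1 := by
  have key : ∀ a b, x r a = x k b → x r a = 1 := fun a b h => by
    have := s.p.rel r β k e a 1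
    rw [h, commutatorElement_eq_one_iff_commute.2 (s.p.com β k (s.pair_of e).2.2 _ _).symm, mul_one] at this
    rw [s.p.inj _ _ this.symm, x_zero s.p]
  obtain ⟨a, ha⟩ := ((s.H.mem _ _).1 h1).2.2.1
  obtain ⟨b, hb⟩ := ((s.H.mem _ _).1 h2).2.2.1
  rw [key a b (mul_left_cancel (ha.symm.trans hb)), mul_one, mul_inv_eq_iff_eq_mul] at ha
  obtain ⟨c, hc⟩ := s.H.fix r z h1 ha
  obtain ⟨d, hd⟩ := s.H.fix k z h2 ha
  rw [hc, key c d (hc.symm.trans hd)]

variable {A : Type u} [AddCommGroup A] {y : Φ → A → G} {j : F → A} {σ : A → A} (Y : YS R L x t Xh y j σ)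
include Y

omit s in
theorem ym (r : Φ) (a : A) : y r a ∈ Xh r := (Y.mem _ _).2 ⟨a, rfl⟩

omit s in
theorem y_zero (r : Φ) : y r 0 = 1 := (left_eq_mul (a := y r 0)).1 (by rw [← Y.add, add_zero])

theorem add_self (r : Φ) (a : A) : a + a = 0 := Y.inj r (by rw [Y.add, s.sq (ym Y r a), y_zero Y])

omit s Y in
theorem star_aux {d c p q : G} (h3 : d * c * d * p * (d * c * d)⁻¹ = q) (h5 : Commute d q)
    (h4 : Commute p c) (h6 : Commute p ⁅p, d⁆) (h7 : ⁅p, d⁆⁻¹ = ⁅p, d⁆) :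
    ⁅⁅p, d⁆, c⁆⁻¹ * p = q * ⁅p, d⁆⁻¹ := by
  have e1 : c * (d * p * d⁻¹) * c⁻¹ = q := by
    calc _ = d⁻¹ * (d * c * d * p * (d * c * d)⁻¹ * d) := by group
      _ = q := by rw [h3, ← h5.eq, inv_mul_cancel_left]
  have e2 : d * p * d⁻¹ = ⁅p, d⁆ * p := by rw [← h7, commutatorElement_def]; group
  rw [e2] at e1
  generalize ⁅p, d⁆ = a at *
  calc _ = c * a * c⁻¹ * (a⁻¹ * p) := by rw [commutatorElement_def]; group
    _ = c * a * (c⁻¹ * p) * a⁻¹ := by rw [← h6.inv_right.eq]; group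
    _ = _ := by rw [← h4.inv_right.eq, ← e1]; group

theorem star {r β k : Φ} (e : R.rc k = R.rc r + R.rc β) (a : A) : ⁅y r a, x β 1⁆ = y k a := by
  obtain ⟨e1, e2, e3⟩ := s.pair_of e
  have h1 := s.H.br r β k e _ (ym Y r a) 1
  have h2 := s.H.br k (R.neg β) r (by rw [e, R.rc_neg]; simp) _ h1 1
  have h3 := Y.act _ _ (s.act_nn β) r a
  rw [show R.τ β r = k from R.rc_inj (by rw [R.rc_τ, symm s.h, e1, e]; simp), nn, inv_one, Units.val_one] at h3
  have h4 := star_aux h3 (s.com e3 (s.H.le β 1) (ym Y k a))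
    (s.com (by rw [R.pair_neg_right, e1]; decide) (ym Y r a) (s.H.le (R.neg β) 1))
    (s.com e2 (ym Y r a) h1) (s.inv_eq h1)
  have h5 := s.eq_one_of_mem e (mul_mem (inv_mem h2) (ym Y r a)) (h4 ▸ mul_mem (ym Y k a) (inv_mem h1))
  exact (mul_inv_eq_one.1 (h4.symm.trans h5)).symm

end Hy

/-- The commutator map in coordinates. -/
noncomputable def mu {A : Type u} [AddCommGroup A] (y : Φ → A → G) (r β k : Φ) (a b : A) : A :=
  Function.invFun (y k) ⁅y r a, y β b⁆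

namespace Hy

variable (s : Hy R L x t Xh) {A : Type u} [AddCommGroup A] {y : Φ → A → G} {j : F → A} {σ : A → A}
  (Y : YS R L x t Xh y j σ) {r β k : Φ} (e : R.rc k = R.rc r + R.rc β)
include s Y e

theorem mu_spec (a b : A) : ⁅y r a, y β b⁆ = y k (mu y r β k a b) := by
  obtain ⟨c, hc⟩ := (Y.mem _ _).1 (s.K.sp r β k e _ (ym Y r a) _ (ym Y β b))
  exact (Function.invFun_eq ⟨c, hc.symm⟩).symm

theorem mu_symm (a b : A) : mu y β r k b a = mu y r β k a b := Y.inj k (by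
  rw [← s.mu_spec Y (e.trans (add_comm _ _)), ← commutatorElement_inv, s.mu_spec Y e, s.inv_eq (ym Y _ _)])

theorem mu_one (a : A) : mu y r β k a (j 1) = a := Y.inj k (by rw [← s.mu_spec Y e, Y.res, s.star Y e])

theorem one_mu (a : A) : mu y r β k (j 1) a = a := by
  rw [← s.mu_symm Y e, s.mu_one Y (e.trans (add_comm _ _))]

theorem add_mu (a a' b : A) : mu y r β k (a + a') b = mu y r β k a b + mu y r β k a' b := Y.inj k (by
  rw [← s.mu_spec Y e, Y.add, comm_mul_left (by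
    rw [s.mu_spec Y e]; exact s.com (s.pair_of e).2.1 (ym Y _ _) (ym Y _ _)), s.mu_spec Y e, s.mu_spec Y e,
    ← Y.add, add_comm])

theorem mu_add (a b b' : A) : mu y r β k a (b + b') = mu y r β k a b + mu y r β k a b' := by
  simp only [← s.mu_symm Y e a, s.add_mu Y (e.trans (add_comm _ _))]

theorem mu_W {w : Perm Φ} (hw : w ∈ R.W) : mu y (w r) (w β) (w k) = mu y r β k := by
  obtain ⟨n, hn⟩ := s.exists_act hw
  have e1 := R.W_rel hw (a := 1) (b := 1) (k := k) (r := r) (s := β) (by simpa using e)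
  rw [one_smul, one_smul] at e1
  refine funext₂ fun a b => Y.inj (w k) ?_
  rw [← s.mu_spec Y e1, ← Y.act n w hn, ← Y.act n w hn, ← Y.act n w hn, ← s.mu_spec Y e,
    conjugate_commutatorElement]

theorem mu_j (a b : F) : mu y r β k (j a) (j b) = j (a * b) :=
  Y.inj k (by rw [← s.mu_spec Y e, Y.res, Y.res, Y.res, s.p.rel r β k e])

theorem σ_mu (a b : A) : σ (mu y r β k a b) = mu y r β k (σ a) (σ b) := Y.inj k (by
  rw [← s.mu_spec Y e, ← Y.conj, ← Y.conj, ← Y.conj, ← s.mu_spec Y e, conjugate_commutatorElement])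

theorem chain {ε l : Φ} (e' : R.rc l = R.rc ε + R.rc β) (h0 : R.pair r ε = 0) :
    (∀ a c, mu y ε β l c a = mu y r β k a c) ∧
      ∀ a b c, mu y r β k (mu y r β k a b) c = mu y r β k a (mu y r β k b c) := by
  have p1 := (s.pair_of e).1
  have p2 := (s.pair_of e').1
  obtain ⟨m, hm⟩ := (sum s.h ε k).1 (by rw [pair_add' ε e, symm s.h ε r, h0, p2]; rfl)
  have hm' : R.rc m = R.rc r + R.rc l := by rw [hm, e, e']; abel
  have p3 : R.pair l k = 0 := by
    rw [pair_add' l e, symm s.h l, symm s.h l, pair_add' r e', pair_add' β e', h0, p1, symm s.h β, p2,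
      R.pair_self]; rfl
  have key : ∀ a b c, mu y ε k m c (mu y r β k a b) = mu y r l m a (mu y ε β l c b) := fun a b c =>
    Y.inj m (by
      rw [← s.mu_spec Y hm, ← s.mu_spec Y hm', ← s.mu_spec Y e, ← s.mu_spec Y e']
      refine comm_comm (s.com (symm s.h r ε ▸ h0.ge) (ym Y _ _) (ym Y _ _)) ?_
      rw [s.mu_spec Y e, s.mu_spec Y e']
      exact s.com p3.ge (ym Y _ _) (ym Y _ _))
  have k1 : ∀ a c, mu y ε k m c a = mu y r l m a c := fun a c => by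
    simpa only [s.mu_one Y e, s.mu_one Y e'] using key a (j 1) c
  have k2 : ∀ b c, mu y ε k m c b = mu y ε β l c b := fun b c => by
    simpa only [s.one_mu Y e, s.one_mu Y hm'] using key (j 1) b c
  have k3 : ∀ a b, mu y r β k a b = mu y r l m a b := fun a b => by
    simpa only [s.one_mu Y e', s.one_mu Y hm] using key a b (j 1)
  have k4 : ∀ a c, mu y ε β l c a = mu y r β k a c := fun a c => by rw [← k2, k1, k3]
  exact ⟨k4, fun a b c => by rw [← k4 _ c, ← k2, key, k4, ← k3]⟩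

theorem mu_assoc (a b c : A) : mu y r β k (mu y r β k a b) c = mu y r β k a (mu y r β k b c) := by
  obtain ⟨ε, h0, h1⟩ := rc1 s.h r β (s.pair_of e).1
  obtain ⟨l, hl⟩ := (sum s.h ε β).1 (symm s.h β ε ▸ h1)
  exact (s.chain Y e hl h0).2 a b c

theorem exists_h (c : Fˣ) : ∃ h ∈ L, (∀ b, h * x k b * h⁻¹ = x k (c * b)) ∧
    ∀ a, h * y k a * h⁻¹ = y k (mu y r β k a (j c)) := by
  obtain ⟨ε, h0, h1⟩ := rc1 s.h r β (s.pair_of e).1
  rw [symm s.h] at h0 h1
  have h2 := fun γ b => (pin R s.h x s.p ε γ c⁻¹ b).2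
  have hL : hh R x ε c⁻¹ ∈ L := mul_mem (s.nnL _ _) (s.nnL _ _)
  refine ⟨_, hL, fun b => by rw [h2, pair_add' ε e, h0, h1]; simp, fun a => ?_⟩
  have h3 := s.H.cent r _ hL (fun b => mul_inv_eq_iff_eq_mul.1 (by rw [h2, h0]; simp)) _ (ym Y r a)
  rw [← s.mu_spec Y e, ← s.star Y e, conjugate_commutatorElement, h3.eq, mul_inv_cancel_right, h2, h1, Y.res]
  simp

theorem mu_zero (a : A) : mu y r β k a 0 = 0 :=
  (left_eq_add (a := mu y r β k a 0)).1 (by rw [← s.mu_add Y e, add_zero])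

omit e in
theorem j_add (r : Φ) (a b : F) : j (a + b) = j a + j b :=
  Y.inj r (by rw [Y.add, Y.res, Y.res, Y.res, s.p.add])

omit e in
theorem j_zero (r : Φ) : j 0 = 0 := (left_eq_add (a := j 0)).1 (by rw [← s.j_add Y r, add_zero])

theorem mu_cent (a : A) (c : F) : mu y r β k (j c) a = mu y r β k a (j c) := by
  have e' := e.trans (add_comm _ _)
  by_cases hc : c = 0
  · rw [hc, s.j_zero Y r, s.mu_zero Y e, ← s.mu_symm Y e, s.mu_zero Y e']
  obtain ⟨h, h1, h2, h3⟩ := s.exists_h Y e (Units.mk0 c hc)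
  obtain ⟨g, g1, g2, g3⟩ := s.exists_h Y e' (Units.mk0 c hc)
  have h4 := s.H.cent k _ (mul_mem (inv_mem h1) g1) (fun b => by
    have := (g2 b).trans (h2 b).symm
    calc _ = h⁻¹ * (g * x k b * g⁻¹) * g := by group
      _ = _ := by rw [this]; group) _ (ym Y k a)
  refine Y.inj k ?_
  rw [← s.mu_symm Y e, ← Units.val_mk0 hc, ← g3, ← h3]
  calc _ = h * (h⁻¹ * g * y k a) * g⁻¹ := by group
    _ = _ := by rw [h4.eq]; group

omit e in
theorem σ_add (r : Φ) (a b : A) : σ (a + b) = σ a + σ b :=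
  Y.inj r (by rw [Y.add, ← Y.conj, ← Y.conj, ← Y.conj, Y.add, conj_mul])

omit e in
theorem σ_σ (r : Φ) (a : A) : σ (σ a) = a := Y.inj r (by
  rw [← Y.conj, ← Y.conj]
  calc _ = t * t * y r a * (t * t)⁻¹ := by group
    _ = _ := by rw [s.tt]; simp)

omit e in
theorem σ_fix (r : Φ) (a : A) : σ a = a ↔ ∃ b, a = j b := by
  rw [← (Y.inj r).eq_iff, ← Y.conj, mul_inv_eq_iff_eq_mul]
  refine ⟨fun h => (s.H.fix r _ (ym Y r a) h.symm).imp fun b hb => Y.inj r (hb.trans (Y.res r b).symm), ?_⟩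
  rintro ⟨b, rfl⟩
  rw [Y.res, (s.ct (s.xL r b)).eq]

omit e in
theorem σ_tr (r : Φ) : ∃ ω, σ ω = ω + j 1 := by
  obtain ⟨p, hp, h⟩ := s.H.surj r 1
  obtain ⟨ω, rfl⟩ := (Y.mem _ _).1 hp
  exact ⟨ω, Y.inj r (by rw [← Y.conj, s.conj_t h (s.xL _ _) (x_mul_self s.p _ _), add_comm, Y.add, Y.res])⟩

theorem mu_comm (a b : A) : mu y r β k a b = mu y r β k b a := by
  obtain ⟨ω, hω⟩ := s.σ_tr Y r
  have h1 : ∀ a, ∃ u v, a = j u + mu y r β k (j v) ω := fun a => by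
    obtain ⟨v, hv⟩ := (s.σ_fix Y r (a + σ a)).1 (by rw [s.σ_add Y r, s.σ_σ Y r, add_comm])
    obtain ⟨u, hu⟩ := (s.σ_fix Y r (a + mu y r β k (j v) ω)).1 (by
      rw [s.σ_add Y r, s.σ_mu Y e, hω, (s.σ_fix Y r _).2 ⟨v, rfl⟩, s.mu_add Y e, s.mu_one Y e]
      nth_rw 2 [← hv]
      rw [add_comm a, ← add_assoc, add_comm a, ← add_assoc, add_right_comm (σ a), s.add_self Y r, zero_add,
        add_comm])
    exact ⟨u, v, by rw [← hu, add_assoc, s.add_self Y r, add_zero]⟩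
  have h2 : ∀ {ω' : A} , (∀ b, mu y r β k ω b = mu y r β k b ω) ∨ ω' = ω → ∀ u v,
      mu y r β k (j u + mu y r β k (j v) ω) ω' = mu y r β k ω' (j u + mu y r β k (j v) ω) := fun h u v => by
    rw [s.add_mu Y e, s.mu_add Y e, s.mu_cent Y e, ← s.mu_assoc Y e, ← s.mu_cent Y e _ v, s.mu_assoc Y e,
      s.mu_assoc Y e]
    rcases h with h | rfl
    · rw [h]
    · rfl
  obtain ⟨u, v, rfl⟩ := h1 a
  refine h2 (Or.inl fun b => ?_) u v
  obtain ⟨u, v, rfl⟩ := h1 b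
  exact (h2 (Or.inr rfl) u v).symm

theorem mu_eq {r' β' k' : Φ} (e' : R.rc k' = R.rc r' + R.rc β') : mu y r' β' k' = mu y r β k := by
  obtain ⟨w, hw, rfl⟩ := trans s.h r r'
  obtain ⟨β', rfl⟩ := w.surjective β'
  obtain ⟨k', rfl⟩ := w.surjective k'
  have p1 := (s.pair_of e).1
  have p2 := (s.pair_of e').1
  rw [R.pair_W hw] at p2
  replace e' : R.rc k' = R.rc r + R.rc β' := by
    simpa using R.W_rel (inv_mem hw) (a := 1) (b := 1) (k := w k') (r := w r) (s := w β') (by simpa using e')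
  rw [s.mu_W Y e' hw]
  have hs : mu y β' r k' = mu y r β' k' := funext₂ fun a b => by rw [s.mu_symm Y e', s.mu_comm Y e']
  have hW : ∀ v ∈ R.W, ∀ {r' β'}, R.rc k' = R.rc r' + R.rc β' → v r = r' → v β = β' →
      mu y r' β' k' = mu y r β k := by
    rintro v hv _ _ e1 rfl rfl
    rw [← s.mu_W Y e hv, show k' = v k from R.rc_inj (e1.trans (by
      simpa using (R.W_rel hv (a := 1) (b := 1) (k := k) (r := r) (s := β) (by simpa using e)).symm))]
  rcases vals s.h β β' with h | h | h | h | h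
  · exact hW 1 (one_mem _) e' rfl h.symm
  · rw [h, R.pair_neg_right, p1] at p2; omega
  · refine hW _ (R.τ_mem_W (R.τ β β')) e' (R.rc_inj ?_) (R.rc_inj ?_)
    · rw [R.rc_τ, symm s.h, pair_τ, h, p1, p2]; simp
    · rw [R.rc_τ, symm s.h, R.pair_τ_right, R.rc_τ, h]; simp
  · refine funext₂ fun a b => ?_
    rw [← hs, (s.chain Y (e.trans (add_comm _ _)) (e'.trans (add_comm _ _)) h).1, s.mu_symm Y e]
  · have h1 : R.neg β' = k := eq_of_two_le s.h (by
      rw [R.pair_neg_right, symm s.h, pair_add' β' e, symm s.h β', symm s.h β', p2, h]; decide)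
    rw [← hs]
    refine hW _ (mul_mem (R.τ_mem_W β) (R.τ_mem_W r)) (e'.trans (add_comm _ _)) (R.rc_inj ?_) (R.rc_inj ?_)
    · rw [Perm.mul_apply, R.τ_self, R.rc_τ, R.pair_neg_right, symm s.h, p1, R.neg_eq_iff.1 h1, R.rc_neg,
        R.rc_neg, e]
      simp [sub_eq_add_neg, add_comm]
    · rw [Perm.mul_apply, R.rc_τ, R.rc_τ, pair_τ, R.pair_self, symm s.h β, p1]; simp

end Hy

/-- A commutative ring structure from a multiplication map. -/
abbrev mkRing {A : Type u} [AddCommGroup A] (m : A → A → A) (o : A) (h1 : ∀ a b c, m (m a b) c = m a (m b c))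
    (h2 : ∀ a b, m a b = m b a) (h3 : ∀ a, m o a = a) (h4 : ∀ a b c, m a (b + c) = m a b + m a c) :
    CommRing A :=
  letI : Mul A := ⟨m⟩
  letI : One A := ⟨o⟩
  CommRing.ofMinimalAxioms add_assoc zero_add neg_add_cancel h1 h2 h3 h4

theorem ring {ι Φ : Type} [Fintype ι] [DecidableEq ι]
    (R : RS ι Φ) (h : Lace R) {F : Type v} [Field F] [Finite F] {G : Type u} [Group G] [Finite G]
    (L : Subgroup G) (x : Φ → F → G) (t : G) (Xh : Φ → Subgroup G)
    (c : Cfsg.Agent.Lead.A9.Ctx9 R L x t) (H : Hats R L x t Xh) (K : Coms R Xh) :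
    ∃ (A : Type u) (_ : CommRing A) (i : F →+* A) (σ : A ≃+* A) (y : Φ → A → G),
      Dbl R L x t i σ y := by
  have s : Hy R L x t Xh := ⟨h, c, H, K⟩
  obtain ⟨A, _, y, j, σ, Y⟩ := s.exists_YS
  obtain ⟨i⟩ : Nonempty ι := Fintype.card_pos_iff.1 (lt_of_lt_of_le (by norm_num) h.rank)
  set r := R.simple i
  obtain ⟨γ, hγ⟩ := nbr h r
  obtain ⟨k, e⟩ := (sum h r (R.neg γ)).1 (by rw [R.pair_neg_right, hγ])
  letI := mkRing (mu y r (R.neg γ) k) (j 1) (s.mu_assoc Y e) (s.mu_comm Y e) (s.one_mu Y e) (s.mu_add Y e)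
  refine ⟨A, this, ⟨⟨⟨j, rfl⟩, fun a b => (s.mu_j Y e a b).symm⟩, s.j_zero Y r, s.j_add Y r⟩,
    ⟨⟨σ, σ, s.σ_σ Y r, s.σ_σ Y r⟩, s.σ_mu Y e, s.σ_add Y r⟩, y,
    ⟨one_add_one_eq_two.symm.trans (s.add_self Y r _), Y.add,
      fun _ _ p a b => s.com p (Hy.ym Y _ a) (Hy.ym Y _ b),
      fun _ _ _ e' a b => (s.mu_spec Y e' a b).trans (by rw [s.mu_eq Y e e']; rfl),
      fun β a ha => Y.inj β (ha.trans (Hy.y_zero Y β).symm)⟩,
    Y.res, Y.conj, s.σ_σ Y r, s.σ_fix Y r, s.σ_tr Y r, ?_, fun β p => (H.mem β p).symm.trans (Y.mem β p),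
    fun g hg h1 h2 β a => H.odd g hg h1 h2 β _ (Hy.ym Y β a)⟩
  rw [← H.card r]
  exact Nat.card_congr (Equiv.ofBijective (fun a => ⟨y r a, Hy.ym Y r a⟩)
    ⟨fun a b e => Y.inj r (congrArg Subtype.val e), fun p => ((Y.mem r p).1 p.2).imp fun a e => Subtype.ext e.symm⟩)

end Cfsg.Agent.Lead.S9Ring
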