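import Mathlib
import Cfsg.Agent.Lead.A9Hat

/-! The doubled root subgroups (project STD-LIE2, piece HAT), second part. -/

set_option autoImplicit false
set_option linter.style.haveILetI false
set_option linter.unusedSectionVars false

namespace Cfsg.Agent.Lead.S9Hat

open Cfsg Cfsg.Agent.Lead.A9 Cfsg.Agent.H63 Cfsg.Agent.H63.SL Cfsg.Agent.H34 Cfsg.Agent.H40 Subgroup
open scoped commutatorElement

universe u v

variable {ι Φ : Type} [Fintype ι] [DecidableEq ι] {R : RS ι Φ}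
  {F : Type v} [Field F] {G : Type u} [Group G] {L : Subgroup G} {x : Φ → F → G} {t : G}

/-- Membership in the doubled root subgroup, with the value of `θ`. -/
def Hat (R : RS ι Φ) (x : Φ → F → G) (t : G) (r : Φ) (p : G) (a : F) : Prop :=
  D R x t r p a ∧ p * p = 1 ∧ ∀ c, p ≠ t * x r c

theorem mem_hat {r : Φ} {p : G} : p ∈ HatSet R x t r ↔ ∃ a, Hat R x t r p a :=
  ⟨fun ⟨h1, h2, ⟨a, h3⟩, h4⟩ => ⟨a, ⟨mem_CY.1 h1, h3⟩, h2, fun c e => h4 ⟨c, e⟩⟩,
    fun ⟨a, h1, h2, h3⟩ => ⟨mem_CY.2 h1.1, h2, ⟨a, h1.2⟩, fun ⟨c, e⟩ => h3 c e⟩⟩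

theorem eq_one_of_odd {k : G} (hk : Odd (orderOf k)) {n : ℕ} (h : k ^ 2 ^ n = 1) : k = 1 :=
  H83.eq_one_of_ppow (p := 2) h (Nat.coprime_two_right.2 hk)

namespace St

variable (h : St R L x t)
include h

theorem x_ne (r s : Φ) (a b : F) : x r a ≠ t * x s b := fun e =>
  h.t_not (by simpa [e] using L.mul_mem (h.xL r a) (L.inv_mem (h.xL s b)))

theorem hat_x (r : Φ) (a : F) : Hat R x t r (x r a) 0 := ⟨h.D_x r a, x_sq h.pin r a, h.x_ne r r a⟩

theorem hat_mul_x {r : Φ} {p : G} {a : F} (hp : Hat R x t r p a) (c : F) :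
    Hat R x t r (p * x r c) a := by
  refine ⟨by simpa using h.D_mul hp.1 (h.D_x r c), ?_, fun d e => hp.2.2 (d + c) ?_⟩
  · have := (h.cy_self hp.1.1 c).eq
    calc p * x r c * (p * x r c) = p * (x r c * p) * x r c := by group
      _ = (p * p) * (x r c * x r c) := by rw [← this]; group
      _ = 1 := by rw [hp.2.1, x_sq h.pin, mul_one]
  · rw [h.pin.add, ← mul_assoc, ← e, mul_assoc, x_sq h.pin, mul_one]

theorem hat_zero {r : Φ} {p : G} (hp : Hat R x t r p 0) : ∃ c, p = x r c := by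
  obtain ⟨c, k, hk, hkt, rfl⟩ := h.D_ker hp.1
  have h1 : Commute (x r c) k := hk _ (h.xL r c)
  have h2 := hp.2.1
  rw [← pow_two, h1.mul_pow, pow_two, x_sq h.pin, one_mul] at h2
  rcases h.r2 k hk hkt ⟨1, by simpa using h2⟩ with rfl | rfl
  · exact ⟨c, mul_one _⟩
  · exact absurd h1.eq (hp.2.2 c)

variable [Finite G]

theorem K_dec {k : G} (hk : k ∈ C[L]) (hkt : Commute k t) :
    ∃ k0 ∈ C[L], Commute k0 t ∧ Odd (orderOf k0) ∧ (k = k0 ∨ k = t * k0) := by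
  haveI : Fact (Nat.Prime 2) := ⟨Nat.prime_two⟩
  obtain ⟨a, b, ⟨m, rfl⟩, ⟨n, rfl⟩, e, ha, hb⟩ := H83.exists_p_parts (p := 2) k
  refine ⟨_, zpow_mem hk n, hkt.zpow_left n, Nat.coprime_two_right.1 hb, ?_⟩
  rcases h.r2 _ (zpow_mem hk m) (hkt.zpow_left m) ha with e' | e'
  · left; simpa [e'] using e
  · right; simpa [e'] using e

theorem conj_odd {r : Φ} {p : G} {a : F} (hp : D R x t r p a) {k : G} (hk : k ∈ C[L])
    (hkt : Commute k t) (ho : Odd (orderOf k)) : p * k * p⁻¹ ∈ C[L] := by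
  have h1 := h.D_mul (h.D_mul hp (h.D_K hk hkt r)) (h.D_inv hp)
  rw [add_zero, add_self h.pin] at h1
  obtain ⟨c, k', hk', -, e⟩ := h.D_ker h1
  have h2 : Commute (x r c) k' := hk' _ (h.xL r c)
  have h3 : (x r c * k') ^ orderOf k = 1 := by rw [← e, conj_pow, pow_orderOf_eq_one]; group
  obtain ⟨m, hm⟩ := ho
  rw [h2.mul_pow, hm, pow_succ, pow_mul, pow_two, x_sq h.pin, one_pow, one_mul,
    mul_eq_one_iff_eq_inv] at h3
  rw [e, h3]
  exact mul_mem (inv_mem (pow_mem hk' _)) hk'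

section br

variable {γ δ α : Φ} (hα : R.rc α = R.rc γ + R.rc δ) {p : G} {a : F} (hp : D R x t γ p a)
include hp

theorem y_odd (b : F) {k : G} (hk : k ∈ C[L]) (hkt : Commute k t) (ho : Odd (orderOf k)) :
    Commute (p⁻¹ * (x δ b * p * (x δ b)⁻¹)) k := by
  have h1 : Commute (x δ b) (p⁻¹⁻¹ * k * p⁻¹) := by
    rw [inv_inv]; exact h.conj_odd hp hk hkt ho _ (h.xL δ b)
  have h2 : Commute (x δ b) k := hk _ (h.xL δ b)
  simpa [mul_assoc] using (comm_conj h1).mul_left h2.inv_left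

include hα

theorem y_zero (ha : a = 0) (b : F) : ∃ c, p⁻¹ * (x δ b * p * (x δ b)⁻¹) = x α c := by
  obtain ⟨c, k, hk, -, rfl⟩ := h.D_ker (ha ▸ hp)
  have h1 : Commute (x δ b) k := hk _ (h.xL δ b)
  have h2 : Commute (x α (b * c)) k := hk _ (h.xL _ _)
  have h3 := h.pin.com γ α (by rw [(h.pair_sum hα).2.2.1]; norm_num) c (b * c)
  refine ⟨b * c, ?_⟩
  calc _ = k⁻¹ * ((x γ c)⁻¹ * (x δ b * x γ c * (x δ b)⁻¹)) * (x δ b * k * (x δ b)⁻¹) := by group
    _ = k⁻¹ * ((x γ c)⁻¹ * x α (b * c) * (x γ c)⁻¹⁻¹) * k⁻¹⁻¹ := by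
      rw [conj_of_comm h1, x_conj h.pin (hα.trans (add_comm _ _))]; group
    _ = _ := by rw [conj_of_comm h3.inv_left, conj_of_comm h2.symm.inv_left]

variable (ho : ∀ r a, ∃ g, D R x t r g a)
include ho

theorem y_hat (b : F) : Hat R x t α (p⁻¹ * (x δ b * p * (x δ b)⁻¹)) (b * a) := by
  have h1 := h.y_D hα hp ho b
  refine ⟨h1, ?_, fun c e => ?_⟩
  · have h2 := conj_of_comm (h1.1 δ (by rw [(h.pair_sum hα).2.2.2.2.2]; norm_num) b).symm
    nth_rw 1 [← h2]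
    have h3 := x_sq h.pin δ b
    have h4 : (x δ b)⁻¹ * (x δ b)⁻¹ = 1 := by rw [x_inv h.pin, h3]
    calc _ = x δ b * p⁻¹ * x δ b * p * ((x δ b)⁻¹ * (x δ b)⁻¹) * p⁻¹ * x δ b * p * (x δ b)⁻¹ := by
          group
      _ = x δ b * p⁻¹ * (x δ b * x δ b) * p * (x δ b)⁻¹ := by
          rw [h4, mul_one, mul_inv_cancel_right, mul_assoc (x δ b * p⁻¹)]
      _ = 1 := by rw [h3]; group
  · have h2 : D R x t α (t * x α c) (0 + 0) := h.D_mul (h.D_K h.ctx.tc (Commute.refl t) α) (h.D_x α c)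
    rw [add_zero, ← e] at h2
    rcases mul_eq_zero.1 (h.D_uniq h1 h2) with rfl | ha
    · rw [x_zero h.pin, one_mul, inv_one, mul_one, inv_mul_cancel, ← x_zero h.pin α] at e
      exact h.x_ne _ _ _ _ e
    · obtain ⟨d, hd⟩ := h.y_zero hα hp ha b
      exact h.x_ne _ _ _ _ (hd.symm.trans e)

theorem hat_eq {z : G} (hz : Hat R x t α z a) :
    ∃ c, z = p⁻¹ * (x δ 1 * p * (x δ 1)⁻¹) * x α c := by
  have h1 := h.y_hat hα hp ho 1
  have h2 := fun k => h.y_odd (δ := δ) hp 1 (k := k)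
  have h0 := fun ha => h.y_zero hα hp ha 1
  rw [one_mul] at h1
  generalize p⁻¹ * (x δ 1 * p * (x δ 1)⁻¹) = y at h1 h2 h0 ⊢
  have h3 := h.D_mul (h.D_inv h1.1) hz.1
  rw [add_self h.pin] at h3
  obtain ⟨c, k, hk, hkt, e⟩ := h.D_ker h3
  rw [inv_mul_eq_iff_eq_mul] at e
  obtain ⟨k0, hk0, hk0t, hodd, rfl | rfl⟩ := h.K_dec hk hkt
  · have h4 : Commute (y * x α c) k := (h2 k hk hkt hodd).mul_left (hk _ (h.xL α c))
    have h5 := hz.2.1
    rw [e, ← mul_assoc y, ← pow_two, h4.mul_pow, pow_two, (h.hat_mul_x h1 c).2.1, one_mul] at h5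
    refine ⟨c, ?_⟩
    rw [e, eq_one_of_odd hodd (n := 1) (by simpa using h5), mul_one]
  · exfalso
    have h4 : Commute (y * x α c * t) k0 :=
      ((h2 k0 hk0 hk0t hodd).mul_left (hk0 _ (h.xL α c))).mul_left hk0t.symm
    have h6 := h.hat_mul_x h1 c
    have h7 : (y * x α c * t) ^ 2 = x α a := by
      have := h6.1.2
      rw [inv_eq_of_mul_eq_one_right h6.2.1] at this
      rw [pow_two, ← mul_assoc, ← mul_assoc, mul_assoc _ y, this, mul_assoc, (h.tx α a).eq,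
        ← mul_assoc, h.tt, one_mul]
    have h5 := hz.2.1
    have e' : z = y * x α c * t * k0 := by rw [e]; group
    rw [e', ← pow_two, h4.mul_pow, h7, mul_eq_one_iff_inv_eq, x_inv h.pin] at h5
    have h8 : k0 = 1 := eq_one_of_odd hodd (n := 2) (by
      rw [show 2 ^ 2 = 2 * 2 from rfl, pow_mul, ← h5, pow_two, x_sq h.pin])
    rw [h8, one_pow] at h5
    obtain ⟨d, rfl⟩ := h0 (h.pin.inj _ _ h5)
    refine hz.2.2 (d + c) ?_
    rw [e', h8, mul_one, ← h.pin.add, (h.tx _ _).eq]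

end br

omit [Finite G] in
theorem exists_sum (α : Φ) : ∃ γ δ, R.rc α = R.rc γ + R.rc δ := by
  obtain ⟨s, hs⟩ := h.rf.nbr α
  refine ⟨s, R.τ s α, ?_⟩
  rw [R.rc_τ, h.rf.symm, hs, one_smul]; ring

variable (ho : ∀ r a, ∃ g, D R x t r g a)
include ho

theorem hat_onto (α : Φ) (a : F) : ∃ z, Hat R x t α z a := by
  obtain ⟨γ, δ, hα⟩ := h.exists_sum α
  obtain ⟨p, hp⟩ := ho γ a
  exact ⟨_, one_mul a ▸ h.y_hat hα hp ho 1⟩

theorem hat_odd {α : Φ} {z : G} {a : F} (hz : Hat R x t α z a) {k : G} (hk : k ∈ C[L])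
    (hkt : Commute k t) (hodd : Odd (orderOf k)) : Commute k z := by
  obtain ⟨γ, δ, hα⟩ := h.exists_sum α
  obtain ⟨p, hp⟩ := ho γ a
  obtain ⟨c, rfl⟩ := h.hat_eq hα hp ho hz
  exact ((h.y_odd hp 1 hk hkt hodd).mul_left (hk _ (h.xL α c))).symm

theorem hat_uniq {α : Φ} {z z' : G} {a : F} (hz : Hat R x t α z a) (hz' : Hat R x t α z' a) :
    ∃ c, z' = z * x α c := by
  obtain ⟨γ, δ, hα⟩ := h.exists_sum α
  obtain ⟨p, hp⟩ := ho γ a
  obtain ⟨c, rfl⟩ := h.hat_eq hα hp ho hz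
  obtain ⟨c', rfl⟩ := h.hat_eq hα hp ho hz'
  refine ⟨c + c', ?_⟩
  rw [mul_assoc _ (x α c), ← h.pin.add, ← add_assoc, add_self h.pin, zero_add]

theorem hat_mul {α : Φ} {z z' : G} {a a' : F} (hz : Hat R x t α z a) (hz' : Hat R x t α z' a') :
    Hat R x t α (z * z') (a + a') := by
  obtain ⟨γ, δ, hα⟩ := h.exists_sum α
  obtain ⟨p, hp⟩ := ho γ a
  obtain ⟨p', hp'⟩ := ho γ a'
  have p3 := (h.pair_sum hα).2.2.1
  have h1 := h.y_hat hα hp ho 1
  have h2 := h.y_hat hα hp' ho 1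
  have h3 := h.y_hat hα (h.D_mul hp hp') ho 1
  have h0 := fun ha => h.y_zero hα hp ha 1
  obtain ⟨c, rfl⟩ := h.hat_eq hα hp ho hz
  obtain ⟨c', rfl⟩ := h.hat_eq hα hp' ho hz'
  rw [one_mul] at h1 h2 h3
  have e : (p * p')⁻¹ * (x δ 1 * (p * p') * (x δ 1)⁻¹) =
      p'⁻¹ * (p⁻¹ * (x δ 1 * p * (x δ 1)⁻¹)) * p' * (p'⁻¹ * (x δ 1 * p' * (x δ 1)⁻¹)) := by group
  rw [e] at h3
  generalize p⁻¹ * (x δ 1 * p * (x δ 1)⁻¹) = y at *
  generalize p'⁻¹ * (x δ 1 * p' * (x δ 1)⁻¹) = y' at *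
  have h4 := h.D_mul h3.1 (h.D_inv h2.1)
  rw [mul_inv_cancel_right, add_assoc, add_self h.pin, add_zero] at h4
  have h5 : Hat R x t α (p'⁻¹ * y * p') a := by
    refine ⟨h4, ?_, fun d e => ?_⟩
    · calc _ = p'⁻¹ * (y * y) * p' := by group
        _ = 1 := by rw [h1.2.1]; group
    · have h6 : D R x t α (t * x α d) (0 + 0) :=
        h.D_mul (h.D_K h.ctx.tc (Commute.refl t) α) (h.D_x α d)
      rw [add_zero, ← e] at h6
      obtain ⟨d', rfl⟩ := h0 (h.D_uniq h4 h6)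
      have := conj_of_comm (hp'.1 α (by omega) d').inv_left
      rw [inv_inv] at this
      exact h.x_ne _ _ _ _ (this.symm.trans e)
  obtain ⟨d, hd⟩ := h.hat_uniq ho h5 h1
  have h7 := h.hat_mul_x h3 (d + c + c')
  convert h7 using 1
  rw [h.pin.add, h.pin.add, ← h.pin.add α d c]
  nth_rw 1 [hd]
  have := (h.cy_self h2.1.1 (d + c)).eq
  calc _ = p'⁻¹ * y * p' * (x α d * x α c * y') * x α c' := by group
    _ = _ := by rw [← h.pin.add, ← this]; group

/-- The doubled root subgroup. -/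
def Xh (r : Φ) : Subgroup G where
  carrier := HatSet R x t r
  one_mem' := mem_hat.2 ⟨0, x_zero h.pin r ▸ h.hat_x r 0⟩
  mul_mem' := fun ha hb => by
    obtain ⟨a, ha⟩ := mem_hat.1 ha
    obtain ⟨b, hb⟩ := mem_hat.1 hb
    exact mem_hat.2 ⟨_, h.hat_mul ho ha hb⟩
  inv_mem' := fun ha => by rw [inv_eq_of_mul_eq_one_right ha.2.1]; exact ha

theorem hat_comm {α : Φ} {z z' : G} {a a' : F} (hz : Hat R x t α z a) (hz' : Hat R x t α z' a') :
    Commute z z' := by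
  have := inv_eq_of_mul_eq_one_right (h.hat_mul ho hz hz').2.1
  rw [mul_inv_rev, inv_eq_of_mul_eq_one_right hz.2.1, inv_eq_of_mul_eq_one_right hz'.2.1] at this
  exact this.symm

theorem hat_br {γ δ α : Φ} (hα : R.rc α = R.rc γ + R.rc δ) {p : G} {a : F} (hp : Hat R x t γ p a)
    (b : F) : Hat R x t α ⁅p, x δ b⁆ (b * a) := by
  have := h.y_hat hα hp.1 ho b
  have e := inv_eq_of_mul_eq_one_right hp.2.1
  rw [commutatorElement_def, e]
  rw [e] at this
  simpa only [mul_assoc] using this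

theorem line_aux {γ δ α : Φ} (hα : R.rc α = R.rc γ + R.rc δ) {p p' : G} {a a' : F}
    (hp : Hat R x t γ p a) (hp' : Hat R x t α p' a') : Commute ⁅p, p'⁆ (x δ 1) := by
  have h1 := h.hat_comm ho (h.y_hat hα hp.1 ho 1) hp'
  have h2 : Commute p' (x δ 1) := hp'.1.1 δ (by rw [(h.pair_sum hα).2.2.2.2.2]; norm_num) 1
  have : x δ 1 * ⁅p, p'⁆ * (x δ 1)⁻¹ = ⁅p, p'⁆ := by
    calc _ = p * ((p⁻¹ * (x δ 1 * p * (x δ 1)⁻¹)) * (x δ 1 * p' * (x δ 1)⁻¹) *
          (p⁻¹ * (x δ 1 * p * (x δ 1)⁻¹))⁻¹) * p⁻¹ * (x δ 1 * p' * (x δ 1)⁻¹)⁻¹ := by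
          rw [commutatorElement_def]; group
      _ = _ := by rw [conj_of_comm h2.symm, conj_of_comm h1, commutatorElement_def]
  exact (mul_inv_eq_iff_eq_mul.1 this : _ = _).symm

theorem hat_line {r s : Φ} (hrs : R.pair r s = 1) {p p' : G} {a a' : F}
    (hp : Hat R x t r p a) (hp' : Hat R x t s p' a') : Commute p p' := by
  have hsr : R.pair s r = 1 := (h.rf.symm s r).trans hrs
  have e1 : R.rc s = R.rc r + R.rc (R.τ r s) := by rw [R.rc_τ, hrs, one_smul]; ring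
  have e2 : R.rc r = R.rc s + R.rc (R.τ s r) := by rw [R.rc_τ, hsr, one_smul]; ring
  have h1 := h.line_aux ho e1 hp hp'
  have h2 := (h.line_aux ho e2 hp' hp).inv_left
  rw [commutatorElement_inv] at h2
  have c1 : Commute p (x s a') := hp.1.1 s (by omega) _
  have c2 : Commute p' (x r a) := hp'.1.1 r (by omega) _
  have i1 := inv_eq_of_mul_eq_one_right hp.2.1
  have i2 := inv_eq_of_mul_eq_one_right hp'.2.1
  have e3 : (p * p') * t * (p * p')⁻¹ = t * (x r a * x s a') := by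
    calc _ = p * (p' * t * p'⁻¹) * p⁻¹ := by group
      _ = p * t * p⁻¹ * (p * x s a' * p⁻¹) := by rw [hp'.1.2]; group
      _ = _ := by rw [hp.1.2, conj_of_comm c1, mul_assoc]
  have c3 : Commute (p * p') (x r a * x s a') :=
    ((h.cy_self hp.1.1 a).mul_right c1).mul_left (c2.mul_right (h.cy_self hp'.1.1 a'))
  have c4 := h.pin.com r s (by omega) a a'
  have e4 : ⁅p, p'⁆ = p * p' * (p * p') := by rw [commutatorElement_def, i1, i2]; group
  have ht : Commute ⁅p, p'⁆ t := by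
    have : ⁅p, p'⁆ * t * ⁅p, p'⁆⁻¹ = t := by
      calc _ = (p * p') * ((p * p') * t * (p * p')⁻¹) * (p * p')⁻¹ := by rw [e4]; group
        _ = ((p * p') * t * (p * p')⁻¹) * ((p * p') * (x r a * x s a') * (p * p')⁻¹) := by
          nth_rw 1 [e3]; group
        _ = t * (x r a * x s a') ^ 2 := by rw [e3, conj_of_comm c3, pow_two, mul_assoc]
        _ = t := by rw [c4.mul_pow, pow_two, pow_two, x_sq h.pin, x_sq h.pin, mul_one, mul_one]
    exact mul_inv_eq_iff_eq_mul.1 this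
  obtain ⟨f, g, k, hk, e5⟩ := h.f2' hrs ht fun β c h1 h2 => by
    rw [e4]
    exact ((hp.1.1 β h1 c).mul_left (hp'.1.1 β h2 c)).mul_left
      ((hp.1.1 β h1 c).mul_left (hp'.1.1 β h2 c))
  have f0 : f = 0 := by
    refine eq_zero_of_comm h.pin e1 ?_
    have := (e5 ▸ h1).mul_left ((h.pin.com s _ (by rw [(h.pair_sum e1).2.2.2.2.2]; norm_num) g 1).mul_left
      (hk _ (h.xL _ 1)).symm).inv_left
    simpa [mul_assoc] using this
  have g0 : g = 0 := by
    refine eq_zero_of_comm h.pin e2 ?_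
    have := (e5 ▸ h2).mul_left (show Commute k _ from (hk _ (h.xL _ 1)).symm).inv_left
    simpa [f0, x_zero h.pin] using this
  rw [f0, g0, x_zero h.pin, x_zero h.pin, one_mul, one_mul] at e5
  obtain ⟨k0, hk0, hk0t, hodd, e6⟩ := h.K_dec hk (e5 ▸ ht)
  have c5 := h.hat_odd ho hp hk0 hk0t hodd
  have e7 : p * k * p⁻¹ = k⁻¹ := by
    rw [← e5, commutatorElement_def, i1, mul_inv_rev, mul_inv_rev, mul_inv_rev, i1, i2, i2]
    calc _ = (p * p) * p' * p * p' * p := by group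
      _ = _ := by rw [hp.2.1]; group
  rw [← commutatorElement_eq_one_iff_commute, e5]
  rcases e6 with rfl | rfl
  · rw [conj_of_comm c5.symm] at e7
    exact eq_one_of_odd hodd (n := 1) (by rw [pow_one, pow_two]; nth_rw 1 [e7]; group)
  · exfalso
    have e8 : x r a = (k0 * k0)⁻¹ := by
      have : p * (t * k0) * p⁻¹ = t * x r a * k0 := by
        calc _ = p * t * p⁻¹ * (p * k0 * p⁻¹) := by group
          _ = _ := by rw [hp.1.2, conj_of_comm c5.symm]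
      rw [this, mul_inv_rev, h.t_inv, hk0t.inv_left.eq, mul_assoc, mul_right_inj] at e7
      rw [mul_inv_rev, ← mul_inv_cancel_right (x r a) k0, e7]
    have h8 : k0 = 1 := eq_one_of_odd hodd (n := 2) (by
      have := x_sq h.pin r a
      rw [e8, ← mul_inv_rev, inv_eq_one] at this
      rw [show 2 ^ 2 = 2 * 2 from rfl, pow_mul, pow_two, pow_two, this])
    rw [h8, one_mul, inv_one] at e8
    obtain rfl := h.pin.inj _ _ e8
    obtain ⟨c, rfl⟩ := h.hat_zero hp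
    rw [commutatorElement_eq_one_iff_commute.2 (hp'.1.1 r (by omega) c).symm, h8, mul_one] at e5
    exact h.t_not (e5 ▸ one_mem L)

theorem hat_cent {r : Φ} {g : G} (hg : g ∈ L) (hc : ∀ a, Commute g (x r a)) {p : G} {a : F}
    (hp : Hat R x t r p a) : Commute g p := by
  obtain ⟨y, hy, k, hk, hodd, hn, rfl⟩ := h.ctx.lf.f5 r g hg hc
  have h1 : Commute y p := mem_CY.2 hp.1.1 y hy
  have h2 : ∀ a, Commute k (x r a) := fun a => by
    have : Commute y (x r a) := mem_CY.2 (h.cy_x r a) y hy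
    simpa using this.inv_left.mul_left (hc a)
  have h3 : Hat R x t r (k * p * k⁻¹) a := by
    refine ⟨⟨mem_CY.1 ?_, ?_⟩, ?_, fun c e => hp.2.2 c ?_⟩
    · exact (mem_normalizer_iff.1 (H83.normalizer_le_normalizer_centralizer _ hn) p).1
        (mem_CY.2 hp.1.1)
    · calc _ = k * (p * (k⁻¹ * t * k⁻¹⁻¹) * p⁻¹) * k⁻¹ := by group
        _ = k * t * k⁻¹ * (k * x r a * k⁻¹) := by
          rw [conj_of_comm (h.tL (inv_mem hk)), hp.1.2]; group
        _ = _ := by rw [conj_of_comm (h.tL hk), conj_of_comm (h2 a)]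
    · calc _ = k * (p * p) * k⁻¹ := by group
        _ = 1 := by rw [hp.2.1]; group
    · have := conj_of_comm ((h.tL hk).mul_right (h2 c))
      rw [← this] at e
      simpa using e
  obtain ⟨c, e⟩ := h.hat_uniq ho hp h3
  have h4 : k ^ 2 ∈ C1[p] := by
    rw [mem_centralizer_singleton_iff, ← mul_inv_eq_iff_eq_mul]
    calc _ = k * (k * p * k⁻¹) * k⁻¹ := by rw [pow_two]; group
      _ = k * p * k⁻¹ * (k * x r c * k⁻¹) := by nth_rw 1 [e]; group
      _ = _ := by rw [e, conj_of_comm (h2 c), mul_assoc, x_sq h.pin, mul_one]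
  exact h1.mul_left (mem_centralizer_singleton_iff.1
    (H83.mem_of_pow_mem_of_coprime h4 (Nat.coprime_two_right.2 hodd)))

theorem card_Xh (r : Φ) : Nat.card (h.Xh ho r) = Nat.card F ^ 2 := by
  choose z hz using h.hat_onto ho r
  rw [pow_two, ← Nat.card_prod]
  refine (Nat.card_congr (Equiv.ofBijective (fun c : F × F =>
    (⟨z c.1 * x r c.2, mem_hat.2 ⟨_, h.hat_mul_x (hz c.1) c.2⟩⟩ : h.Xh ho r)) ⟨?_, ?_⟩)).symm
  · rintro ⟨a, b⟩ ⟨a', b'⟩ e
    have e' : z a * x r b = z a' * x r b' := congrArg Subtype.val e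
    obtain rfl : a = a' := h.D_uniq (h.hat_mul_x (hz a) b).1 (e' ▸ (h.hat_mul_x (hz a') b').1)
    rw [x_inj h.pin (mul_left_cancel e')]
  · rintro ⟨p, hp⟩
    obtain ⟨a, ha⟩ := mem_hat.1 hp
    obtain ⟨c, rfl⟩ := h.hat_uniq ho (hz a) ha
    exact ⟨(a, c), rfl⟩

theorem hats : Hats R L x t (h.Xh ho) where
  mem := fun _ _ => Iff.rfl
  le := fun r a => mem_hat.2 ⟨_, h.hat_x r a⟩
  surj := fun r a => by
    obtain ⟨z, hz⟩ := h.hat_onto ho r a
    exact ⟨z, mem_hat.2 ⟨_, hz⟩, hz.1.2⟩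
  fix := fun r p hp hc => by
    obtain ⟨a, ha⟩ := mem_hat.1 hp
    have := ha.1.2
    rw [conj_of_comm hc, left_eq_mul] at this
    obtain rfl := h.pin.inj _ _ this
    exact h.hat_zero ha
  card := h.card_Xh ho
  odd := fun k hk hkt hodd r p hp => by
    obtain ⟨a, ha⟩ := mem_hat.1 hp
    exact h.hat_odd ho ha hk hkt hodd
  cent := fun r g hg hc p hp => by
    obtain ⟨a, ha⟩ := mem_hat.1 hp
    exact h.hat_cent ho hg hc ha
  line := fun r s hrs p hp p' hp' => by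
    obtain ⟨a, ha⟩ := mem_hat.1 hp
    obtain ⟨a', ha'⟩ := mem_hat.1 hp'
    exact h.hat_line ho hrs ha ha'
  br := fun r s k hk p hp b => by
    obtain ⟨a, ha⟩ := mem_hat.1 hp
    exact mem_hat.2 ⟨_, h.hat_br ho hk ha b⟩

end St

theorem hat (hR : RootStmt) (hP : PinStmt.{u, v}) {ι Φ : Type} [Fintype ι] [DecidableEq ι]
    (R : RS ι Φ) (hL : Lace R) {F : Type v} [Field F] [Finite F] {G : Type u} [Group G] [Finite G]
    (L : Subgroup G) (x : Φ → F → G) (t : G) (hc : Ctx9 R L x t) (h2 : R2 L t) (hs : Start R x t) :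
    ∃ Xh, Hats R L x t Xh := by
  have h : St R L x t := ⟨hR R hL, hc, h2⟩
  exact ⟨_, h.hats (h.onto hL hP hs)⟩

end Cfsg.Agent.Lead.S9Hat
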