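import Cfsg.Agent.H9.FXDefs
import Cfsg.Agent.H87.Sylow
import Cfsg.Agent.H10.SylowUtil

/-!
The transfer template for groups of fixity four.
-/

set_option autoImplicit false

namespace Cfsg.Agent.Lead.FXT

open Subgroup
open scoped commutatorElement

universe u

variable {G : Type u} [Group G]

theorem card_inf_mul (K X : Subgroup G) :
    Nat.card ↥(K ⊓ X) * K.relIndex X = Nat.card X := by
  have h := (K.subgroupOf X).card_mul_index
  have e : Nat.card ↥(K.subgroupOf X) = Nat.card ↥(K ⊓ X) := by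
    rw [← inf_subgroupOf_right]
    exact Nat.card_congr (subgroupOfEquivOfLe inf_le_right).toEquiv
  rw [e] at h
  exact h

theorem relIndex_dvd {K M X : Subgroup G} (hKM : K ≤ M) (hN : M ≤ normalizer (K : Set G))
    (hX : X ≤ M) : K.relIndex X ∣ K.relIndex M := by
  have : (K.subgroupOf M).Normal := (normal_subgroupOf_iff_le_normalizer hKM).2 hN
  rw [← relIndex_subgroupOf hX]
  exact relIndex_dvd_index_of_normal _ _

theorem relIndex_dvd_p [Finite G] {p : ℕ} [hp : Fact p.Prime] {K M₀ M X : Subgroup G}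
    (h1 : K ≤ M₀) (h2 : M₀ ≤ M) (hN : M ≤ normalizer (K : Set G)) (hi : M₀.relIndex M = p)
    (hj : ¬ p ∣ K.relIndex M₀) (hX : X ≤ M) (hXp : IsPGroup p X) : K.relIndex X ∣ p := by
  have hd := relIndex_dvd (h1.trans h2) hN hX
  rw [← relIndex_mul_relIndex K M₀ M h1 h2, hi] at hd
  obtain ⟨n, hn⟩ := IsPGroup.iff_card.1 hXp
  have hd2 : K.relIndex X ∣ p ^ n := hn ▸ relIndex_dvd_card K X
  have hc : Nat.Coprime (K.relIndex X) (K.relIndex M₀) :=
    Nat.Coprime.coprime_dvd_left hd2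
      (Nat.Coprime.pow_left n ((Nat.Prime.coprime_iff_not_dvd hp.out).2 hj))
  exact hc.dvd_of_dvd_mul_left hd

theorem comm_of_card_sq [Finite G] {p : ℕ} [hp : Fact p.Prime] {H : Subgroup G}
    (hH : Nat.card H = p ^ 2) {a b : G} (ha : a ∈ H) (hb : b ∈ H) : a * b = b * a := by
  have := IsPGroup.isMulCommutative_of_card_eq_prime_sq (G := H) hH
  exact congrArg Subtype.val (this.is_comm.comm (⟨a, ha⟩ : H) ⟨b, hb⟩)

theorem pow_mem_of_card_sq [Finite G] {p : ℕ} [hp : Fact p.Prime] {H A : Subgroup G}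
    (hH : Nat.card H = p ^ 2) (hA : A ≤ H) (hAc : Nat.card A = p) {y : G} (hy : y ∈ H) :
    y ^ p ∈ A := by
  have : (A.subgroupOf H).Normal := by
    rw [normal_subgroupOf_iff hA]
    intro a h ha hh
    rw [comm_of_card_sq hH hh (hA ha)]
    simpa using ha
  have h1 := card_inf_mul A H
  rw [inf_eq_left.2 hA, hAc, hH, pow_two] at h1
  have h2 : A.relIndex H = p := Nat.eq_of_mul_eq_mul_left hp.out.pos h1
  have h3 := pow_index_mem (A.subgroupOf H) ⟨y, hy⟩
  change _ ^ A.relIndex H ∈ _ at h3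
  rw [h2] at h3
  exact h3

theorem exp_of_two [Finite G] {p : ℕ} [hp : Fact p.Prime] {H A B : Subgroup G}
    (hH : Nat.card H = p ^ 2) (hA : A ≤ H) (hAc : Nat.card A = p) (hB : B ≤ H)
    (hBc : Nat.card B = p) (hAB : A ⊓ B = ⊥) {y : G} (hy : y ∈ H) : y ^ p = 1 := by
  have : y ^ p ∈ A ⊓ B := ⟨pow_mem_of_card_sq hH hA hAc hy, pow_mem_of_card_sq hH hB hBc hy⟩
  rw [hAB] at this
  exact this

theorem orderOf_cj (g x : G) : orderOf (g * x * g⁻¹) = orderOf x := by
  have := orderOf_injective (MulAut.conj g).toMonoidHom (MulAut.conj g).injective x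
  simpa using this

theorem card_eq_p_of [Finite G] {p : ℕ} [hp : Fact p.Prime] {A : Subgroup G}
    (h : Nat.card A ∣ p) (h1 : A ≠ ⊥) : Nat.card A = p := by
  rcases (Nat.dvd_prime hp.out).1 h with h | h
  · exact absurd (card_eq_one.1 h) h1
  · exact h

theorem comm_mem_of_prime [Finite G] {p : ℕ} [hp : Fact p.Prime] {M₀ M : Subgroup G}
    (h2 : M₀ ≤ M) (hN : M ≤ normalizer (M₀ : Set G)) (hi : M₀.relIndex M = p) {a b : G}
    (ha : a ∈ M) (hb : b ∈ M) : a * b * a⁻¹ * b⁻¹ ∈ M₀ := by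
  have : (M₀.subgroupOf M).Normal := (normal_subgroupOf_iff_le_normalizer h2).2 hN
  have hc : Nat.card (M ⧸ M₀.subgroupOf M) = p := hi
  have : IsCyclic (M ⧸ M₀.subgroupOf M) := isCyclic_of_prime_card hc
  have hcomm : ∀ u v : M ⧸ M₀.subgroupOf M, u * v = v * u := fun u v =>
    (IsCyclic.isMulCommutative (α := M ⧸ M₀.subgroupOf M)).is_comm.comm u v
  have : ((⟨a, ha⟩ * ⟨b, hb⟩ * ⟨a, ha⟩⁻¹ * ⟨b, hb⟩⁻¹ : M) : M ⧸ M₀.subgroupOf M) = 1 := by
    simp only [QuotientGroup.mk_mul, QuotientGroup.mk_inv]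
    rw [hcomm (QuotientGroup.mk _) (QuotientGroup.mk _)]
    group
  rw [QuotientGroup.eq_one_iff, mem_subgroupOf] at this
  exact this

theorem tStmt : Cfsg.Agent.H9.FX.TStmt.{u} := by
  intro G _ _ p hp P K M₀ M hperf h1 h2 hNK hN0 hi hj hK hP hTI
  have hKM : K ≤ M := h1.trans h2
  have conjK : ∀ m ∈ M, ∀ k ∈ K, m * k * m⁻¹ ∈ K := fun m hm k hk =>
    (mem_normalizer_iff.1 (hNK hm) k).1 hk
  have hPp : IsPGroup p (P : Subgroup G) := P.isPGroup'
  have hR1p : IsPGroup p ↥((P : Subgroup G) ⊓ M) := hPp.to_inf_left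
  have hRp : IsPGroup p ↥((P : Subgroup G) ⊓ K) := hPp.to_inf_left
  -- an element of order `p` in `P ⊓ K`
  have hR : (P : Subgroup G) ⊓ K ≠ ⊥ := by
    obtain ⟨k, hk, hko⟩ := Cfsg.Agent.H10.exists_mem_orderOf_eq hK
    have hz : IsPGroup p (zpowers k) := IsPGroup.of_card (n := 1) (by rw [Nat.card_zpowers, hko, pow_one])
    obtain ⟨m, hm, hm'⟩ := Cfsg.Agent.H87.exists_conj_mem_of_relIndex hR1p inf_le_right hP hz
      ((zpowers_le.2 hk).trans hKM)
    intro hb
    have : m * k * m⁻¹ ∈ (P : Subgroup G) ⊓ K := ⟨(hm' k (mem_zpowers k)).1, conjK m hm k hk⟩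
    rw [hb, mem_bot] at this
    have h3 := orderOf_cj m k
    rw [this, orderOf_one, hko] at h3
    exact hp.out.one_lt.ne h3
  have hnot : ¬ (P : Subgroup G) ⊓ M ≤ M₀ := fun h => by
    have h3 := relIndex_dvd_of_le_left M h
    rw [hi] at h3
    exact hP h3
  by_cases hPM : (P : Subgroup G) ≤ M
  swap
  · -- case 1
    obtain ⟨s, hsP, hsn, hsN⟩ := Cfsg.Agent.H87.exists_mem_normalizer_not_mem hPp
      (P := (P : Subgroup G) ⊓ M) inf_le_left (fun h => hPM (h.trans inf_le_right))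
    have hsM : s ∉ M := fun h => hsn ⟨hsP, h⟩
    set R := (P : Subgroup G) ⊓ K with hRdef
    set W := R.map (MulAut.conj s).toMonoidHom with hW
    have hWle : W ≤ (P : Subgroup G) ⊓ M := by
      rintro _ ⟨r, hr, rfl⟩
      exact (mem_normalizer_iff.1 hsN r).1 ⟨hr.1, hKM hr.2⟩
    have hWp : IsPGroup p W := hRp.map _
    have hKW : K ⊓ W = ⊥ := by
      by_contra hne
      obtain ⟨k, hk, hko⟩ := Cfsg.Agent.H10.exists_orderOf_eq_of_ne_bot (hWp.to_inf_right) hne
      obtain ⟨hkK, r, hr, rfl⟩ := hk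
      refine hsM (hTI s r hr.2 ?_ hkK)
      rw [← hko]; exact (orderOf_cj s r).symm
    have hWc : Nat.card W ∣ p := by
      have := card_inf_mul K W
      rw [hKW, card_bot, one_mul] at this
      rw [← this]
      exact relIndex_dvd_p h1 h2 hNK hi hj (hWle.trans inf_le_right) hWp
    have hRW : Nat.card W = Nat.card R := Cfsg.Agent.H10.card_map_conj R s
    have hRc : Nat.card R = p := card_eq_p_of (hRW ▸ hWc) hR
    have hidx : K.relIndex ((P : Subgroup G) ⊓ M) = p := by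
      rcases (Nat.dvd_prime hp.out).1
        (relIndex_dvd_p h1 h2 hNK hi hj inf_le_right hR1p) with h | h
      · exact absurd ((relIndex_eq_one.1 h).trans h1) hnot
      · exact h
    have hR1c : Nat.card ↥((P : Subgroup G) ⊓ M) = p ^ 2 := by
      have := card_inf_mul K ((P : Subgroup G) ⊓ M)
      have e : K ⊓ ((P : Subgroup G) ⊓ M) = R := by
        ext y
        exact ⟨fun h => ⟨h.2.1, h.1⟩, fun h => ⟨h.2, h.1, hKM h.2⟩⟩
      rw [e, hRc, hidx] at this
      rw [← this, pow_two]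
    obtain ⟨x, hx, hxo⟩ := Cfsg.Agent.H10.exists_orderOf_eq_of_ne_bot hRp hR
    have hC : (P : Subgroup G) ⊓ centralizer ({x} : Set G) = (P : Subgroup G) ⊓ M := by
      ext y
      constructor
      · rintro ⟨hyP, hyC⟩
        refine ⟨hyP, hTI y x hx.2 hxo ?_⟩
        rw [mem_centralizer_singleton_iff.1 hyC]
        simpa using hx.2
      · intro hy
        exact ⟨hy.1, mem_centralizer_singleton_iff.2
          (comm_of_card_sq hR1c hy ⟨hx.1, hKM hx.2⟩)⟩
    refine ⟨x, hx.1, hxo, ⟨1, by simpa using hx.2⟩, hC ▸ hR1c, ?_⟩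
    intro y hy
    rw [hC] at hy
    refine exp_of_two hR1c (A := R) (B := W) (fun r hr => ⟨hr.1, hKM hr.2⟩) hRc hWle
      (hRW.trans hRc) ?_ hy
    rw [eq_bot_iff, ← hKW]
    exact inf_le_inf_right _ inf_le_right
  have hPinf : (P : Subgroup G) ⊓ M = P := inf_eq_left.2 hPM
  rw [hPinf] at hnot
  -- a central element of order `p` in `P ⊓ K`
  obtain ⟨z, hz, hzo, hzc⟩ : ∃ z ∈ (P : Subgroup G) ⊓ K, orderOf z = p ∧
      ∀ y ∈ (P : Subgroup G), y * z = z * y := by
    obtain ⟨w, hw, hw1, hwc⟩ := Cfsg.Agent.H87.exists_fixed_mem hPp hRp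
      (fun y hy w hw => ⟨P.mul_mem (P.mul_mem hy hw.1) (P.inv_mem hy), conjK y (hPM hy) w hw.2⟩) hR
    have hzp : IsPGroup p (zpowers w) := hRp.to_le (zpowers_le.2 hw)
    obtain ⟨z, hz, hzo⟩ := Cfsg.Agent.H10.exists_orderOf_eq_of_ne_bot hzp
      (by rwa [Ne, zpowers_eq_bot])
    refine ⟨z, zpowers_le.2 hw hz, hzo, fun y hy => ?_⟩
    obtain ⟨n, rfl⟩ := mem_zpowers_iff.1 hz
    exact (Commute.zpow_right (hwc y hy) n).eq
  by_cases hex : ∃ g x : G, g ∉ M ∧ x ∈ (P : Subgroup G) ∧ orderOf x = p ∧ g * x * g⁻¹ ∈ K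
  · -- case 2
    obtain ⟨g, x, hg, hxP, hxo, hxK⟩ := hex
    have hxn : x ∉ K := fun h => hg (hTI g x h hxo hxK)
    set H := (P : Subgroup G) ⊓ centralizer ({x} : Set G) with hH
    have hHp : IsPGroup p H := hPp.to_inf_left
    have hxH : x ∈ H := ⟨hxP, mem_centralizer_singleton_iff.2 rfl⟩
    set C := K ⊓ H with hC
    have hCp : IsPGroup p C := hHp.to_inf_right
    set W := C.map (MulAut.conj g).toMonoidHom with hW
    have hWp : IsPGroup p W := hCp.map _
    have hWle : W ≤ M := by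
      rintro _ ⟨c, hc, rfl⟩
      refine hTI _ (g * x * g⁻¹) hxK ((orderOf_cj g x).trans hxo) ?_
      have hcx : c * x = x * c := mem_centralizer_singleton_iff.1 hc.2.2
      have : (MulAut.conj g).toMonoidHom c * (g * x * g⁻¹) * ((MulAut.conj g).toMonoidHom c)⁻¹
          = g * x * g⁻¹ := by
        change g * c * g⁻¹ * (g * x * g⁻¹) * (g * c * g⁻¹)⁻¹ = _
        calc g * c * g⁻¹ * (g * x * g⁻¹) * (g * c * g⁻¹)⁻¹ = g * (c * x) * c⁻¹ * g⁻¹ := by group
          _ = g * x * g⁻¹ := by rw [hcx]; group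
      rw [this]; exact hxK
    have hKW : K ⊓ W = ⊥ := by
      by_contra hne
      obtain ⟨k, hk, hko⟩ := Cfsg.Agent.H10.exists_orderOf_eq_of_ne_bot (hWp.to_inf_right) hne
      obtain ⟨hkK, r, hr, rfl⟩ := hk
      refine hg (hTI g r hr.1 ?_ hkK)
      rw [← hko]; exact (orderOf_cj g r).symm
    have hWc : Nat.card W ∣ p := by
      have := card_inf_mul K W
      rw [hKW, card_bot, one_mul] at this
      rw [← this]
      exact relIndex_dvd_p h1 h2 hNK hi hj hWle hWp
    have hCW : Nat.card W = Nat.card C := Cfsg.Agent.H10.card_map_conj C g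
    have hzC : z ∈ C := ⟨hz.2, hz.1, mem_centralizer_singleton_iff.2 (hzc x hxP).symm⟩
    have hCne : C ≠ ⊥ := by
      intro hb
      rw [hb, mem_bot] at hzC
      rw [hzC, orderOf_one] at hzo
      exact hp.out.one_lt.ne hzo
    have hCc : Nat.card C = p := card_eq_p_of (hCW ▸ hWc) hCne
    have hidx : K.relIndex H = p := by
      rcases (Nat.dvd_prime hp.out).1
        (relIndex_dvd_p h1 h2 hNK hi hj (inf_le_left.trans hPM) hHp) with h | h
      · exact absurd (relIndex_eq_one.1 h hxH) hxn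
      · exact h
    have hHc : Nat.card H = p ^ 2 := by
      have := card_inf_mul K H
      rw [← hC, hCc, hidx] at this
      rw [← this, pow_two]
    refine ⟨x, hxP, hxo, ⟨g, hxK⟩, hHc, fun y hy => ?_⟩
    have hxc : Nat.card (zpowers x) = p := by rw [Nat.card_zpowers, hxo]
    refine exp_of_two hHc (A := C) (B := zpowers x) inf_le_right hCc (zpowers_le.2 hxH) hxc ?_ hy
    have : Fact (Nat.card (zpowers x)).Prime := ⟨hxc ▸ hp.out⟩
    rcases ((C ⊓ zpowers x).subgroupOf (zpowers x)).eq_bot_or_eq_top_of_prime_card with h | h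
    · rw [subgroupOf_eq_bot] at h
      exact disjoint_iff.1 h ▸ (inf_eq_left.2 inf_le_right).symm
    · rw [subgroupOf_eq_top] at h
      exact absurd (h (mem_zpowers x)).1.1 hxn
  · -- case 3
    exfalso
    push Not at hex
    have hM : ∀ g x : G, x ∈ (P : Subgroup G) → orderOf x = p → g * x * g⁻¹ ∈ K → g ∈ M := by
      intro g x hx ho hk
      by_contra hg
      exact hex g x hg hx ho hk
    have key : ∀ g x : G, x ∈ (P : Subgroup G) → g * x * g⁻¹ ∈ (P : Subgroup G) →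
        ∃ m ∈ M, m * x * m⁻¹ = g * x * g⁻¹ := by
      intro g x hx hy
      set y := g * x * g⁻¹ with hydef
      have hz1 : IsPGroup p (zpowers z) :=
        IsPGroup.of_card (n := 1) (by rw [Nat.card_zpowers, hzo, pow_one])
      have hz2 : IsPGroup p (zpowers (g * z * g⁻¹)) :=
        IsPGroup.of_card (n := 1) (by rw [Nat.card_zpowers, orderOf_cj, hzo, pow_one])
      have hc1 : zpowers z ≤ centralizer ({y} : Set G) :=
        zpowers_le.2 (mem_centralizer_singleton_iff.2 (hzc y hy).symm)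
      have hc2 : zpowers (g * z * g⁻¹) ≤ centralizer ({y} : Set G) := by
        refine zpowers_le.2 (mem_centralizer_singleton_iff.2 ?_)
        calc g * z * g⁻¹ * y = g * (z * x) * g⁻¹ := by rw [hydef]; group
          _ = y * (g * z * g⁻¹) := by rw [← hzc x hx, hydef]; group
      obtain ⟨c, hc, T, hT1, hT2⟩ := Cfsg.Agent.H87.exists_conj_common_sylow hz1 hc1 hz2 hc2
      obtain ⟨h, rfl⟩ := MulAction.exists_smul_eq G P T
      have e1 : h⁻¹ * z * h ∈ (P : Subgroup G) :=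
        Cfsg.Agent.H10.mem_smul_sylow.1 (hT1 (mem_zpowers z))
      have e2 : h⁻¹ * (c * (g * z * g⁻¹) * c⁻¹) * h ∈ (P : Subgroup G) :=
        Cfsg.Agent.H10.mem_smul_sylow.1 (hT2 _ (mem_zpowers _))
      have hh : h ∈ M := by
        refine hM h _ e1 ?_ ?_
        · have := orderOf_cj h⁻¹ z
          rw [inv_inv] at this
          rw [this, hzo]
        · have : h * (h⁻¹ * z * h) * h⁻¹ = z := by group
          rw [this]; exact hz.2
      have hh2 : (h⁻¹ * c * g)⁻¹ ∈ M := by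
        refine hM _ _ e2 ?_ ?_
        · have : h⁻¹ * (c * (g * z * g⁻¹) * c⁻¹) * h = (h⁻¹ * c * g) * z * (h⁻¹ * c * g)⁻¹ := by
            group
          rw [this, orderOf_cj, hzo]
        · have : (h⁻¹ * c * g)⁻¹ * (h⁻¹ * (c * (g * z * g⁻¹) * c⁻¹) * h) * (h⁻¹ * c * g)⁻¹⁻¹
              = z := by group
          rw [this]; exact hz.2
      refine ⟨c * g, ?_, ?_⟩
      · have := M.mul_mem hh (M.inv_mem hh2)
        simpa [mul_assoc] using this
      · have hcy : c * y = y * c := mem_centralizer_singleton_iff.1 hc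
        calc c * g * x * (c * g)⁻¹ = c * y * c⁻¹ := by rw [hydef]; group
          _ = y := by rw [hcy]; group
    apply hnot
    have hf := commutator_inf_eq_focalSubgroup P
    rw [hperf, top_inf_eq] at hf
    rw [hf, focalSubgroup_def, closure_le]
    rintro _ ⟨hg, x, hx, v, rfl⟩
    have hv : v * x⁻¹ * v⁻¹ ∈ (P : Subgroup G) := by
      have := P.mul_mem (P.inv_mem hx) hg
      have e : x⁻¹ * ⁅x, v⁆ = v * x⁻¹ * v⁻¹ := by rw [commutatorElement_def]; group
      rwa [e] at this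
    obtain ⟨m, hm, hme⟩ := key v x⁻¹ (P.inv_mem hx) hv
    have : ⁅x, v⁆ = x * m * x⁻¹ * m⁻¹ := by
      rw [commutatorElement_def]
      calc x * v * x⁻¹ * v⁻¹ = x * (v * x⁻¹ * v⁻¹) := by group
        _ = x * (m * x⁻¹ * m⁻¹) := by rw [hme]
        _ = _ := by group
    change ⁅x, v⁆ ∈ M₀
    rw [this]
    exact comm_mem_of_prime h2 hN0 hi (hPM hx) hm

end Cfsg.Agent.Lead.FXT
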