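import Cfsg.Agent.Lead.PcDefs

set_option autoImplicit false

namespace Cfsg.Agent.Lead.Pc

open Subgroup

universe u

theorem cp_of {G : Type u} [Group G] [Finite G]
    (hP : ∀ (p : ℕ), p.Prime → ∀ A B : Subgroup G, IsCyclic ↥A → IsCyclic ↥B → IsPGroup p ↥A →
      Nat.card ↥A = Nat.card ↥B → ∃ g : G, B = A.map (MulAut.conj g).toMonoidHom) : CP G := by
  intro x y ⟨k, hk⟩ e
  obtain ⟨j, -, hj⟩ := (Nat.dvd_prime_pow Nat.prime_two).1 (orderOf_dvd_of_pow_eq_one hk)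
  obtain ⟨g, hg⟩ := hP 2 Nat.prime_two (zpowers y) (zpowers x) inferInstance inferInstance
    (IsPGroup.of_card (n := j) (by rw [Nat.card_zpowers, e, hj]))
    (by rw [Nat.card_zpowers, Nat.card_zpowers, e])
  refine ⟨g, ?_⟩
  rw [hg]
  exact ⟨y, mem_zpowers y, rfl⟩

end Cfsg.Agent.Lead.Pc
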