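import Cfsg.Agent.Lead.T3Defs
import Cfsg.Agent.S0821

/-!
# Assembly of Tits' theorem from the pieces
-/

set_option autoImplicit false

namespace Cfsg.Agent.Lead.T3

open Cfsg.Agent.H35

universe u

theorem concl_of_equiv {G : Type u} {Γ : Type} [Group G] [Group Γ] (e : G ≃* Γ) (h : Concl Γ) :
    Concl G := by
  rcases h with ⟨F, i1, i2, n, a, b, ⟨f⟩⟩ | ⟨F, i1, i2, n, a, b, ⟨f⟩⟩ | ⟨F, i1, i2, n, q, a, b, c, ⟨f⟩⟩ |
    ⟨F, i1, i2, n, a, b, ⟨f⟩⟩ | ⟨F, i1, i2, n, a, ⟨f⟩⟩ | ⟨F, i1, i2, n, a, b, c, d, ⟨f⟩⟩ | h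
  · exact .inl ⟨F, i1, i2, n, a, b, ⟨e.trans f⟩⟩
  · exact .inr (.inl ⟨F, i1, i2, n, a, b, ⟨e.trans f⟩⟩)
  · exact .inr (.inr (.inl ⟨F, i1, i2, n, q, a, b, c, ⟨e.trans f⟩⟩))
  · exact .inr (.inr (.inr (.inl ⟨F, i1, i2, n, a, b, ⟨e.trans f⟩⟩)))
  · exact .inr (.inr (.inr (.inr (.inl ⟨F, i1, i2, n, a, ⟨e.trans f⟩⟩))))
  · exact .inr (.inr (.inr (.inr (.inr (.inl ⟨F, i1, i2, n, a, b, c, d, ⟨e.trans f⟩⟩)))))
  refine .inr (.inr (.inr (.inr (.inr (.inr ?_)))))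
  rcases h with ⟨F, i1, i2, a, ⟨f⟩⟩ | ⟨F, i1, i2, ⟨f⟩⟩ | ⟨F, i1, i2, ⟨f⟩⟩ | ⟨F, i1, i2, ⟨f⟩⟩ |
    ⟨F, i1, i2, ⟨f⟩⟩ | ⟨F, i1, i2, q, a, b, ⟨f⟩⟩ | ⟨F, i1, i2, q, a, b, ⟨f⟩⟩ | ⟨F, i1, i2, q, a, b, ⟨f⟩⟩ |
    ⟨F, i1, i2, q, a, b, ⟨f⟩⟩ | ⟨F, i1, i2, q, a, b, ⟨f⟩⟩ | ⟨⟨f⟩⟩
  · exact .inl ⟨F, i1, i2, a, ⟨e.trans f⟩⟩
  · exact .inr (.inl ⟨F, i1, i2, ⟨e.trans f⟩⟩)
  · exact .inr (.inr (.inl ⟨F, i1, i2, ⟨e.trans f⟩⟩))
  · exact .inr (.inr (.inr (.inl ⟨F, i1, i2, ⟨e.trans f⟩⟩)))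
  · exact .inr (.inr (.inr (.inr (.inl ⟨F, i1, i2, ⟨e.trans f⟩⟩))))
  · exact .inr (.inr (.inr (.inr (.inr (.inl ⟨F, i1, i2, q, a, b, ⟨e.trans f⟩⟩)))))
  · exact .inr (.inr (.inr (.inr (.inr (.inr (.inl ⟨F, i1, i2, q, a, b, ⟨e.trans f⟩⟩))))))
  · exact .inr (.inr (.inr (.inr (.inr (.inr (.inr (.inl ⟨F, i1, i2, q, a, b, ⟨e.trans f⟩⟩)))))))
  · exact .inr (.inr (.inr (.inr (.inr (.inr (.inr (.inr (.inl
      ⟨F, i1, i2, q, a, b, ⟨e.trans f⟩⟩))))))))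
  · exact .inr (.inr (.inr (.inr (.inr (.inr (.inr (.inr (.inr (.inl
      ⟨F, i1, i2, q, a, b, ⟨e.trans f⟩⟩)))))))))
  · exact .inr (.inr (.inr (.inr (.inr (.inr (.inr (.inr (.inr (.inr ⟨e.trans f⟩)))))))))

section

variable {I W : Type} [Group W] {X : Cox I W}

theorem Typed.m_eq {G : Type u} [Group G] {P : BNPair G} (T : Typed P X) (a b : I) :
    X.m a b = orderOf ((BN.gens P).s (T.e a) * (BN.gens P).s (T.e b)) := by
  rw [Cox.m, ← T.φ_s, ← T.φ_s, ← map_mul, MulEquiv.orderOf_eq]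

theorem Typed.q_eq {G : Type u} [Group G] {P : BNPair G} (T : Typed P X) (c : G ⧸ P.B) (i : I) :
    T.bld.q c i = BN.ind P ((BN.gens P).s (T.e i)) := by
  rw [← BN.card_wdist_eq c]
  refine Nat.card_congr (Equiv.subtypeEquivRight fun y => ?_)
  change T.φ _ = X.s i ↔ _
  rw [← T.φ_s, T.φ.apply_eq_iff_eq]

theorem comap_q {D E : Type*} (B : Bld X D) (e : E ≃ D) (c : E) (i : I) :
    (B.comap e).q c i = B.q (e c) i :=
  Nat.card_congr (e.subtypeEquiv fun _ => Iff.rfl)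

theorem exists_typed (hs : SubStmt.{u}) {G : Type u} [Group G] (P : BNPair G) (e : I ≃ P.S)
    (h : ∀ a b, orderOf ((BN.gens P).s (e a) * (BN.gens P).s (e b)) = X.m a b) :
    ∃ T : Typed P X, T.e = e := by
  obtain ⟨φ, h1, h2⟩ := hs X (BN.gens P) (BN.exchange P) BN.gens_s_injective e h
  exact ⟨⟨e, φ, h1, h2⟩, rfl⟩

variable [Finite W]

theorem exists_apt (h : Ba1Stmt.{u}) {C : Type u} [Finite C] (B : Bld X C) (c : C) :
    ∃ σ, B.Apt σ := by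
  obtain ⟨-, -, h3, -, -, -, -, -, -, h10⟩ := h B
  obtain ⟨d, hd⟩ := h3 c X.w0
  obtain ⟨σ, hσ, -⟩ := h10 c d hd
  exact ⟨σ, hσ⟩

/-- The building of a model, moved to the universe `u`. -/
noncomputable def Typed.up {Γ : Type} [Group Γ] {Q : BNPair Γ} (T : Typed Q X) :
    Bld X (ULift.{u} (Γ ⧸ Q.B)) := T.bld.comap Equiv.ulift

omit [Finite W] in
theorem Typed.up_q {Γ : Type} [Group Γ] {Q : BNPair Γ} (T : Typed Q X) (c : ULift.{u} (Γ ⧸ Q.B))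
    (i : I) : T.up.q c i = BN.ind Q ((BN.gens Q).s (T.e i)) := by
  rw [Typed.up, comap_q, T.q_eq]

theorem fin_up (hf : FinStmt.{u}) {G : Type u} [Group G] [Finite G] [IsSimpleGroup G]
    {P : BNPair G} {Γ : Type} [Group Γ] [Finite Γ] [IsSimpleGroup Γ] {Q : BNPair Γ} (T : Typed P X)
    (T' : Typed Q X) (hI : Nonempty I) (hm : ∀ i, ∃ j, 3 ≤ X.m i j) (hc : Concl Γ) (hg : Good Q)
    (h : T.bld.Isom T'.up) : Nonempty (G ≃* Γ) := by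
  obtain ⟨f, hf'⟩ := h
  exact hf P Q T T' hI hm hc hg ⟨f.trans Equiv.ulift, hf'⟩

theorem fin_up2 (hf : FinStmt.{0}) {G : Type} [Group G] [Finite G] [IsSimpleGroup G]
    {P : BNPair G} {Γ : Type} [Group Γ] [Finite Γ] [IsSimpleGroup Γ] {Q : BNPair Γ} (T : Typed P X)
    (T' : Typed Q X) (hI : Nonempty I) (hm : ∀ i, ∃ j, 3 ≤ X.m i j) (hc : Concl Γ) (hg : Good Q)
    (h : (Typed.up.{u} T).Isom T'.up) : Nonempty (G ≃* Γ) := by
  obtain ⟨f, hf'⟩ := h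
  exact hf P Q T T' hI hm hc hg ⟨(Equiv.ulift.symm.trans f).trans Equiv.ulift,
    fun x y => hf' ⟨x⟩ ⟨y⟩⟩

end

theorem tm_nbr {n : ℕ} {par : ℕ → ℕ} (sp : ℕ) (hn : 2 ≤ n) (hp : ∀ k, 0 < k → k < n → par k < k)
    (a : Fin n) : ∃ b, 3 ≤ tm n par sp a b := by
  by_cases h : a.1 = 0
  · have := hp 1 one_pos (by omega)
    refine ⟨⟨1, by omega⟩, ?_⟩
    rw [tm, if_neg (fun e => by simp [Fin.ext_iff, h] at e),
      if_pos (.inl ⟨one_ne_zero, by simp only [h]; omega⟩)]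
    split_ifs <;> omega
  · have := hp a (by omega) a.2
    refine ⟨⟨par a, by omega⟩, ?_⟩
    rw [tm, if_neg (fun e => by simp only [Fin.ext_iff] at e; omega), if_pos (.inr ⟨h, rfl⟩)]
    split_ifs <;> omega

theorem Typ.nbr {n : ℕ} {par : ℕ → ℕ} {sp : ℕ} (h : Typ n par sp) (a : Fin n) :
    ∃ b, 3 ≤ tm n par sp a b := by
  have hA : ∀ k, 0 < k → k < n → parA k < k := fun k _ _ => by unfold parA; omega
  rcases h with ⟨⟨h, rfl⟩ | ⟨h, rfl⟩ | ⟨h, rfl⟩, -⟩ | ⟨h, rfl, -⟩ | ⟨h, rfl, -⟩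
  · exact tm_nbr _ (by omega) hA a
  · exact tm_nbr _ (by omega) (fun k _ _ => by unfold parD; split_ifs <;> omega) a
  · exact tm_nbr _ (by omega) (fun k _ _ => by unfold parE; split_ifs <;> omega) a
  · exact tm_nbr _ (by omega) hA a
  · exact tm_nbr _ (by omega) hA a

theorem QPar.iff {q t : ℕ} {k k' : Prop} (hq : 2 ≤ q) (h : QPar q t k) (h' : QPar q t k')
    (hne : ¬ (t = q ∧ Odd q)) : k ↔ k' := by
  have key : ∀ r, q = r ^ 2 → (t = q ∨ t = q ^ 2) → (t = r ∨ t = r ^ 3) → False := by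
    rintro r rfl h1 h2
    have hr : 2 ≤ r := by
      by_contra hc
      have : r = 0 ∨ r = 1 := by omega
      rcases this with rfl | rfl <;> omega
    have h12 : r ^ 1 < r ^ 2 := Nat.pow_lt_pow_right hr (by norm_num)
    have h23 : r ^ 2 < r ^ 3 := Nat.pow_lt_pow_right hr (by norm_num)
    have h34 : r ^ 3 < r ^ 4 := Nat.pow_lt_pow_right hr (by norm_num)
    have h4 : (r ^ 2) ^ 2 = r ^ 4 := by ring
    rw [pow_one] at h12
    omega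
  rcases h with ⟨a, b⟩ | ⟨a, b | ⟨r, b, c⟩⟩ <;> rcases h' with ⟨a', b'⟩ | ⟨a', b' | ⟨r', b', c'⟩⟩
  all_goals first
    | exact iff_of_true a a'
    | exact iff_of_false a a'
    | exact absurd b' hne
    | exact absurd b hne
    | exact (key _ b' b c').elim
    | exact (key _ b b' c).elim

/-- The statements used by the assembly. -/
structure Pieces : Prop where
  sub0 : SubStmt.{0}
  ba1 : Ba1Stmt.{u}
  cls : ClsStmt
  fh : FhStmt.{u}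
  usl : UslStmt.{u}
  uc : UcStmt.{u}
  uf1 : Uf1Stmt.{u}
  uf2 : Uf2Stmt.{u}
  trans : TransStmt.{u}
  ma : MaStmt
  md : MdStmt
  me : MeStmt
  mf : MfStmt
  mt : MtStmt
  ms : MsStmt
  mo : MoStmt
  mu : MuStmt
  fin : FinStmt.{u}
  fin0 : FinStmt.{0}

section Cases

variable (H : Pieces.{u}) {G : Type u} [Group G] [Finite G] [IsSimpleGroup G] {P : BNPair G}
  {n : ℕ} {W : Type} [Group W] [Finite W] {X : Cox (Fin n) W} (T : Typed P X)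

include H

/-- A model gives a typed building with an apartment. -/
theorem IsMod.typed {Γ : Type} [Group Γ] {M : Fin n → Fin n → ℕ} {q : Fin n → ℕ} (h : IsMod Γ M q)
    (hM : ∀ a b, X.m a b = M a b) (π : Fin n ≃ Fin n) (hπ : ∀ a b, M (π a) (π b) = M a b) :
    ∃ (Q : BNPair Γ) (T' T'' : Typed Q X), Good Q ∧ T''.e = π.trans T'.e ∧
      ∀ c i, (Typed.up.{u} T').q c i = q i := by
  obtain ⟨_, _, -, Q, e, hg, h1, h2⟩ := h
  obtain ⟨T', rfl⟩ := exists_typed (X := X) H.sub0 Q e fun a b => by rw [h1, hM]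
  obtain ⟨T'', h3⟩ := exists_typed (X := X) H.sub0 Q (π.trans T'.e) fun a b => by
    simp only [Equiv.trans_apply]; rw [h1, hM, hπ]
  exact ⟨Q, T', T'', hg, h3, fun c i => by rw [T'.up_q, h2]⟩

include T

theorem case_sl {par : ℕ → ℕ} (ht : SLType n par) (hM : ∀ a b, X.m a b = tm n par 0 a b) :
    Concl G := by
  obtain ⟨σ, hσ⟩ := exists_apt H.ba1 T.bld ((1 : G) : G ⧸ P.B)
  obtain ⟨F, _, _, hq⟩ := H.usl.1 T.bld σ hσ par ht hM
  have := Fintype.ofFinite F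
  have hmod : HasMod (tm n par 0) fun _ => Fintype.card F := by
    rcases ht with ⟨h, rfl⟩ | ⟨h, rfl⟩ | ⟨h, rfl⟩
    exacts [H.ma F n h, H.md F n h, H.me F n h]
  obtain ⟨Γ, _, hΓ⟩ := hmod
  obtain ⟨Q, T', -, hg, -, hq'⟩ := hΓ.typed H hM (Equiv.refl _) fun _ _ => rfl
  obtain ⟨_, _, hc, -⟩ := hΓ
  obtain ⟨σ', hσ'⟩ := exists_apt H.ba1 T'.up ⟨((1 : Γ) : Γ ⧸ Q.B)⟩
  have hn : 0 < n := by rcases ht with h | h | h <;> omega
  obtain ⟨e⟩ := fin_up H.fin T T' ⟨⟨0, hn⟩⟩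
    (fun i => by simpa only [hM] using Typ.nbr (.inl ⟨ht, rfl⟩) i) hc hg
    (H.usl.2 T.bld T'.up σ σ' hσ hσ' (fun i => by rw [hq, hq', Nat.card_eq_fintype_card])
      par ht hM)
  exact concl_of_equiv e hc

theorem case_c (hn : 3 ≤ n) (hM : ∀ a b, X.m a b = tm n parA (n - 1) a b) : Concl G := by
  obtain ⟨σ, hσ⟩ := exists_apt H.ba1 T.bld ((1 : G) : G ⧸ P.B)
  let j : Fin n := ⟨n - 2, by omega⟩
  let k : Fin n := ⟨n - 1, by omega⟩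
  have hj : j.1 + 2 = n := by simp only [j]; omega
  have hk : k.1 + 1 = n := by simp only [k]; omega
  have hjk : j ≠ k := fun e => by simp only [j, k, Fin.ext_iff] at e; omega
  have hnb : ∀ i, ∃ b, 3 ≤ X.m i b := fun i => by
    simpa only [hM] using Typ.nbr (.inr (.inl ⟨hn, rfl, rfl⟩)) i
  obtain ⟨F, _, _, hq, hp⟩ := H.uc.1 T.bld σ hσ j k hn hj hk hM
  have := Fintype.ofFinite F
  have h2 : 2 ≤ Nat.card F := Finite.one_lt_card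
  have hqC : ∀ i, T.bld.q (σ 1) i = qC n (Nat.card F) (T.bld.q (σ 1) k) i := fun i => by
    unfold qC
    split_ifs with h
    · rw [show i = k from Fin.ext (by omega)]
    · exact hq i fun e => h (e ▸ hk)
  -- a model with the same parameters and the same kind is enough
  have fin : ∀ (Γ : Type) [Group Γ] [Finite Γ] [IsSimpleGroup Γ] (Q : BNPair Γ) (T' : Typed Q X)
      (σ' : W → ULift.{u} (Γ ⧸ Q.B)), Concl Γ → Good Q → T'.up.Apt σ' →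
      (∀ i, T.bld.q (σ 1) i = T'.up.q (σ' 1) i) → (T.bld.Kind σ j k ↔ T'.up.Kind σ' j k) →
      Concl G := by
    intro Γ _ _ _ Q T' σ' hc hg hσ' h1 h3
    obtain ⟨e⟩ := fin_up H.fin T T' ⟨k⟩ hnb hc hg (H.uc.2 T.bld T'.up σ σ' hσ hσ' h1 j k hn hj hk hM h3)
    exact concl_of_equiv e hc
  by_cases ho : T.bld.q (σ 1) k = Nat.card F ∧ Odd (Nat.card F)
  · have hq1 : ∀ i, T.bld.q (σ 1) i = Fintype.card F := fun i => by
      rw [hqC, ho.1, qC, ite_self, Nat.card_eq_fintype_card]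
    have hodd : Odd (Fintype.card F) := Nat.card_eq_fintype_card (α := F) ▸ ho.2
    have m1 := H.ms F n hn
    have m2 := (H.mo F n hn).1 hodd
    obtain ⟨Q1, T1, -, hg1, -, q1⟩ := m1.typed H hM (Equiv.refl _) fun _ _ => rfl
    obtain ⟨Q2, T2, -, hg2, -, q2⟩ := m2.typed H hM (Equiv.refl _) fun _ _ => rfl
    obtain ⟨_, _, c1, -⟩ := m1
    obtain ⟨_, _, c2, -⟩ := m2
    obtain ⟨σ1, h1⟩ := exists_apt H.ba1 T1.up ⟨((1 : PSp n F) : _ ⧸ Q1.B)⟩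
    obtain ⟨σ2, h2⟩ := exists_apt H.ba1 T2.up ⟨((1 : POmega F (quadFormOdd n F)) : _ ⧸ Q2.B)⟩
    by_cases k1 : T.bld.Kind σ j k ↔ T1.up.Kind σ1 j k
    · exact fin _ Q1 T1 σ1 c1 hg1 h1 (fun i => by rw [hq1, q1]) k1
    by_cases k2 : T.bld.Kind σ j k ↔ T2.up.Kind σ2 j k
    · exact fin _ Q2 T2 σ2 c2 hg2 h2 (fun i => by rw [hq1, q2]) k2
    obtain ⟨e⟩ := fin_up2 H.fin0 T1 T2 ⟨k⟩ hnb c2 hg2
      (H.uc.2 T1.up T2.up σ1 σ2 h1 h2 (fun i => by rw [q1, q2]) j k hn hj hk hM (by tauto))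
    exact ((S0821.result hodd n hn).false e).elim
  · have hmod : HasMod (tm n parA (n - 1)) (qC n (Nat.card F) (T.bld.q (σ 1) k)) := by
      rw [Nat.card_eq_fintype_card] at hp ho ⊢
      rcases hp with ⟨-, h | h⟩ | ⟨-, h | ⟨r, h, h' | h'⟩⟩
      · have e : qC n (Fintype.card F) (T.bld.q (σ 1) k) = fun _ => Fintype.card F :=
          funext fun i => by rw [h, qC, ite_self]
        rw [e]
        exact ⟨_, _, H.ms F n hn⟩
      · rw [h]; exact (H.mo F n hn).2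
      · exact absurd h ho
      · rw [h', h]; exact (H.mu F n r hn h).1
      · rw [h', h]; exact (H.mu F n r hn h).2
    obtain ⟨Γ, _, hΓ⟩ := hmod
    obtain ⟨Q, T', -, hg, -, hq'⟩ := hΓ.typed H hM (Equiv.refl _) fun _ _ => rfl
    obtain ⟨_, _, hc, -⟩ := hΓ
    obtain ⟨σ', hσ'⟩ := exists_apt H.ba1 T'.up ⟨((1 : Γ) : Γ ⧸ Q.B)⟩
    have h1 : ∀ i, T.bld.q (σ 1) i = T'.up.q (σ' 1) i := fun i => by rw [hq', ← hqC]
    obtain ⟨F', _, _, hq2, hp2⟩ := H.uc.1 T'.up σ' hσ' j k hn hj hk hM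
    rw [← hq2 j hjk, ← h1, ← h1, hq j hjk] at hp2
    exact fin Γ Q T' σ' hc hg hσ' h1 (hp.iff h2 hp2 ho)

end Cases

theorem tm_rev : ∀ a b : Fin 4, tm 4 parA 2 (Fin.revPerm a) (Fin.revPerm b) = tm 4 parA 2 a b := by
  decide

section F4

variable (H : Pieces.{u}) {G : Type u} [Group G] [Finite G] [IsSimpleGroup G] {P : BNPair G}
  {W : Type} [Group W] [Finite W] {X : Cox (Fin 4) W}

include H

theorem IsMod.two {Γ : Type} [Group Γ] {q : Fin 4 → ℕ} (h : IsMod Γ (tm 4 parA 2) q)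
    (hM : ∀ a b, X.m a b = tm 4 parA 2 a b) :
    ∃ (Q : BNPair Γ) (T' T'' : Typed Q X) (σ' σ'' : W → ULift.{u} (Γ ⧸ Q.B)), Good Q ∧
      T'.up.Apt σ' ∧ T''.up.Apt σ'' ∧ (∀ i, T'.up.q (σ' 1) i = q i) ∧
      (∀ i, T''.up.q (σ'' 1) i = q i.rev) ∧
      ∀ j k, T''.up.Kind σ'' j k ↔ T'.up.Kind σ' j.rev k.rev := by
  obtain ⟨Q, T', T'', hg, he, hq⟩ := h.typed H hM Fin.revPerm tm_rev
  obtain ⟨_, -⟩ := h
  obtain ⟨σ', hσ'⟩ := exists_apt H.ba1 T'.up ⟨((1 : Γ) : Γ ⧸ Q.B)⟩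
  obtain ⟨h1, h2, h3⟩ := H.trans T'.up T''.up Fin.revPerm (T''.φ.symm.trans T'.φ)
    (fun i => by
      rw [MulEquiv.trans_apply, ← T''.φ_s, MulEquiv.symm_apply_apply, he, Equiv.trans_apply, T'.φ_s])
    (fun w => by rw [MulEquiv.trans_apply, T'.len, ← T''.len, MulEquiv.apply_symm_apply])
    (fun x y => by
      change T'.φ (T''.φ.symm (T''.φ _)) = T'.φ _
      rw [MulEquiv.symm_apply_apply]) σ' hσ'
  refine ⟨Q, T', T'', σ', _, hg, hσ', h1, hq _, fun i => ?_, h3⟩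
  rw [Function.comp_apply, map_one, h2, hq]
  rfl

theorem case_f (T : Typed P X) (hM : ∀ a b, X.m a b = tm 4 parA 2 a b) : Concl G := by
  obtain ⟨σ, hσ⟩ := exists_apt H.ba1 T.bld ((1 : G) : G ⧸ P.B)
  have hnb : ∀ i, ∃ b, 3 ≤ X.m i b := fun i => by
    simpa only [hM] using Typ.nbr (.inr (.inr ⟨rfl, rfl, rfl⟩)) i
  have t1 : X.Tri 4 0 1 2 := by simp only [Cox.Tri, hM]; decide
  have t2 : X.Tri 4 3 2 1 := by simp only [Cox.Tri, hM]; decide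
  have m03 : X.m 0 3 = 2 := by rw [hM]; decide
  have m30 : X.m 3 0 = 2 := by rw [hM]; decide
  have finA : ∀ (Γ : Type) [Group Γ] [Finite Γ] [IsSimpleGroup Γ] (Q : BNPair Γ) (T' : Typed Q X)
      (σ' : W → ULift.{u} (Γ ⧸ Q.B)), Concl Γ → Good Q → T'.up.Apt σ' →
      (∀ i, T.bld.q (σ 1) i = T'.up.q (σ' 1) i) → T.bld.q (σ 1) 2 ≤ T.bld.q (σ 1) 1 →
      (T.bld.Kind σ 1 2 ↔ T'.up.Kind σ' 1 2) → Concl G := by
    intro Γ _ _ _ Q T' σ' hc hg hσ' h1 h2 h3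
    obtain ⟨e⟩ := fin_up H.fin T T' ⟨0⟩ hnb hc hg
      (H.uf2 T.bld T'.up σ σ' 0 1 2 3 hσ hσ' t1 t2 m03 (by decide) h1 h2 h3)
    exact concl_of_equiv e hc
  have finB : ∀ (Γ : Type) [Group Γ] [Finite Γ] [IsSimpleGroup Γ] (Q : BNPair Γ) (T' : Typed Q X)
      (σ' : W → ULift.{u} (Γ ⧸ Q.B)), Concl Γ → Good Q → T'.up.Apt σ' →
      (∀ i, T.bld.q (σ 1) i = T'.up.q (σ' 1) i) → T.bld.q (σ 1) 1 ≤ T.bld.q (σ 1) 2 →
      (T.bld.Kind σ 2 1 ↔ T'.up.Kind σ' 2 1) → Concl G := by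
    intro Γ _ _ _ Q T' σ' hc hg hσ' h1 h2 h3
    obtain ⟨e⟩ := fin_up H.fin T T' ⟨0⟩ hnb hc hg
      (H.uf2 T.bld T'.up σ σ' 3 2 1 0 hσ hσ' t2 t1 m30 (by decide) h1 h2 h3)
    exact concl_of_equiv e hc
  -- equal parameters
  have eqc : ∀ (F : Type) [Field F] [Finite F], (∀ i, T.bld.q (σ 1) i = Nat.card F) →
      (T.bld.Kind σ 1 2 ∨ T.bld.Kind σ 2 1) → Concl G := by
    intro F _ _ hq hk
    have := Fintype.ofFinite F
    obtain ⟨Γ, _, hΓ⟩ := H.mf F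
    obtain ⟨Q, T', T'', σ', σ'', hg, a', a'', q', q'', hK⟩ := hΓ.two H hM
    obtain ⟨_, _, hc, -⟩ := hΓ
    have e' : ∀ i, T.bld.q (σ 1) i = T'.up.q (σ' 1) i := fun i => by
      rw [hq, q', Nat.card_eq_fintype_card]
    have e'' : ∀ i, T.bld.q (σ 1) i = T''.up.q (σ'' 1) i := fun i => by
      rw [hq, q'', Nat.card_eq_fintype_card]
    have hk' : T'.up.Kind σ' 1 2 ∨ T'.up.Kind σ' 2 1 := by
      obtain ⟨F', _, _, -, b, -, c | c⟩ := H.uf1 T'.up σ' 0 1 2 3 a' t1 t2 (by rw [q', q'])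
      · exact c.2
      · have h2 : 2 ≤ Nat.card F' := Finite.one_lt_card
        rw [q'] at b
        rw [q', b] at c
        nlinarith [c.1]
    have k12 := hK 1 2
    have k21 := hK 2 1
    change _ ↔ T'.up.Kind σ' 2 1 at k12
    change _ ↔ T'.up.Kind σ' 1 2 at k21
    by_cases c1 : T.bld.Kind σ 1 2 ↔ T'.up.Kind σ' 1 2
    · exact finA Γ Q T' σ' hc hg a' e' (by rw [hq, hq]) c1
    by_cases c2 : T.bld.Kind σ 2 1 ↔ T'.up.Kind σ' 2 1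
    · exact finB Γ Q T' σ' hc hg a' e' (by rw [hq, hq]) c2
    exact finA Γ Q T'' σ'' hc hg a'' e'' (by rw [hq, hq]) (by tauto)
  have nk : ∀ {C : Type u} [Finite C] (B : Bld X C) (τ : W → C) i j k l, B.Apt τ → X.Tri 4 i j k →
      X.Tri 4 l k j → B.q (τ 1) k < B.q (τ 1) j → ¬ B.Kind τ j k := by
    intro C _ B τ i j k l a b c d
    obtain ⟨F', _, _, -, e, -, f | f⟩ := H.uf1 B τ i j k l a b c d.le
    · omega
    · exact f.2
  rcases le_total (T.bld.q (σ 1) 2) (T.bld.q (σ 1) 1) with h | h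
  · obtain ⟨F, _, _, a, b, c, d | d⟩ := H.uf1 T.bld σ 0 1 2 3 hσ t1 t2 h
    · refine eqc F (fun i => ?_) d.2
      fin_cases i
      exacts [a, b, d.1, c.trans d.1]
    · have := Fintype.ofFinite F
      have h2 : 2 ≤ Nat.card F := Finite.one_lt_card
      obtain ⟨Γ, _, hΓ⟩ := H.mt F _ (Nat.card_eq_fintype_card.symm.trans d.1.symm)
      obtain ⟨Q, T', T'', σ', σ'', hg, a', a'', q', q'', hK⟩ := hΓ.two H hM
      obtain ⟨_, _, hc, -⟩ := hΓ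
      have e' : ∀ i, T.bld.q (σ 1) i = T'.up.q (σ' 1) i := fun i => by
        rw [q']
        fin_cases i
        exacts [a.trans d.1.symm, b.trans d.1.symm, rfl, c]
      refine finA Γ Q T' σ' hc hg a' e' h (iff_of_false d.2 (nk _ σ' 0 1 2 3 a' t1 t2 ?_))
      rw [← e', ← e', b]
      nlinarith [d.1]
  · obtain ⟨F, _, _, a, b, c, d | d⟩ := H.uf1 T.bld σ 3 2 1 0 hσ t2 t1 h
    · refine eqc F (fun i => ?_) d.2.symm
      fin_cases i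
      exacts [c.trans d.1, d.1, b, a]
    · have := Fintype.ofFinite F
      have h2 : 2 ≤ Nat.card F := Finite.one_lt_card
      obtain ⟨Γ, _, hΓ⟩ := H.mt F _ (Nat.card_eq_fintype_card.symm.trans d.1.symm)
      obtain ⟨Q, T', T'', σ', σ'', hg, a', a'', q', q'', hK⟩ := hΓ.two H hM
      obtain ⟨_, _, hc, -⟩ := hΓ
      have e' : ∀ i, T.bld.q (σ 1) i = T''.up.q (σ'' 1) i := fun i => by
        rw [q'']
        fin_cases i
        exacts [c, rfl, b.trans d.1.symm, a.trans d.1.symm]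
      refine finB Γ Q T'' σ'' hc hg a'' e' h (iff_of_false d.2 (nk _ σ'' 3 2 1 0 a'' t2 t1 ?_))
      rw [← e', ← e', b]
      nlinarith [d.1]

end F4

theorem main (H : Pieces.{u}) {G : Type u} [Group G] [Finite G] [IsSimpleGroup G] (P : BNPair G)
    (h3 : 3 ≤ P.rank) (hirr : P.Irreducible) : Concl G := by
  obtain ⟨hfh, hty⟩ := H.fh P
  have e0 : Fin (Nat.card P.S) ≃ P.S := (Finite.equivFin P.S).symm
  obtain ⟨W0, _, _, X0, T0, rfl⟩ := hty _ e0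
  obtain ⟨n, par, sp, ht, e, he⟩ := H.cls X0 (by rw [Nat.card_fin]; exact h3) (fun J hJ hJ' => by
      obtain ⟨a, ha⟩ := hJ
      obtain ⟨b, hb⟩ := hJ'
      obtain ⟨s, ⟨i, hi, rfl⟩, s', ⟨hs', hn⟩, hc⟩ := hirr ((fun i => (T0.e i : G)) '' J)
        (by rintro _ ⟨i, -, rfl⟩; exact (T0.e i).2) ⟨_, a, ha, rfl⟩
        ⟨T0.e b, (T0.e b).2, by
          rintro ⟨i, hi, h⟩
          exact hb (T0.e.injective (Subtype.ext h) ▸ hi)⟩
      refine ⟨i, hi, T0.e.symm ⟨s', hs'⟩, fun h => hn ⟨_, h, congrArg Subtype.val (T0.e.apply_symm_apply ⟨s', hs'⟩)⟩, fun h => hc ?_⟩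
      rw [T0.m_eq, Equiv.apply_symm_apply] at h
      have h1 := pow_orderOf_eq_one ((BN.gens P).s (T0.e i) * (BN.gens P).s ⟨s', hs'⟩)
      rw [h, pow_two] at h1
      have hi' := P.subset (T0.e i).2
      have hs'' := P.subset hs'
      rw [← BN.mkW_eq_one_iff (mul_mem (mul_mem (mul_mem hi' hs'') (inv_mem hi')) (inv_mem hs'')),
        BN.mkW_mul (mul_mem (mul_mem hi' hs'') (inv_mem hi')) (inv_mem hs''),
        BN.mkW_mul (mul_mem hi' hs'') (inv_mem hi'), BN.mkW_mul hi' hs'', BN.mkW_inv hi',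
        BN.mkW_inv hs'']
      change (BN.gens P).s (T0.e i) * (BN.gens P).s ⟨s', hs'⟩ * ((BN.gens P).s (T0.e i))⁻¹ *
        ((BN.gens P).s ⟨s', hs'⟩)⁻¹ = 1
      rw [InvGen.inv_s, InvGen.inv_s, mul_assoc, h1])
    (fun i j hij => by rw [T0.m_eq]; exact hfh _ _ (T0.e.injective.ne hij))
  obtain ⟨W, _, _, X, T, hT⟩ := hty _ (e.trans T0.e)
  have hM : ∀ a b, X.m a b = tm n par sp a b := fun a b => by
    rw [T.m_eq, hT, ← he, T0.m_eq]; rfl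
  rcases ht with ⟨h, rfl⟩ | ⟨h, rfl, rfl⟩ | ⟨rfl, rfl, rfl⟩
  · exact case_sl H T h hM
  · exact case_c H T h hM
  · exact case_f H T hM

end Cfsg.Agent.Lead.T3
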