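import Cfsg.Agent.Lead.T3Asm
import Cfsg.Agent.H7.T3Cx
import Cfsg.Agent.H77.T3Rt
import Cfsg.Agent.H28.T3Sub
import Cfsg.Agent.H62.T3Ba1
import Cfsg.Agent.H92.T3Ba2
import Cfsg.Agent.H3.T3Ba3
import Cfsg.Agent.H61.T3Link
import Cfsg.Agent.H69.T3Ext
import Cfsg.Agent.H74.T3Key
import Cfsg.Agent.H91.T3Panel
import Cfsg.Agent.H38.T3Sig
import Cfsg.Agent.H8.T3Glob
import Cfsg.Agent.H92.T3Glue
import Cfsg.Agent.H61.T3Wall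
import Cfsg.Agent.H7.T3Mou1
import Cfsg.Agent.H62.T3Mou
import Cfsg.Agent.H19.T3Free
import Cfsg.Agent.H32.T3Com
import Cfsg.Agent.H20.T3Res
import Cfsg.Agent.H44.T3Pce
import Cfsg.Agent.H71.T3Pc
import Cfsg.Agent.H83.T3Stp0
import Cfsg.Agent.H3.T3Stp
import Cfsg.Agent.H74.T3Ca
import Cfsg.Agent.H33.T3Win
import Cfsg.Agent.H15.T3Qa
import Cfsg.Agent.H79.T3Qb1
import Cfsg.Agent.H4.T3Qb2
import Cfsg.Agent.H69.T3Qce
import Cfsg.Agent.H85.T3Qcx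
import Cfsg.Agent.H52.T3Lines
import Cfsg.Agent.H52.T3Uc
import Cfsg.Agent.H90.T3Fin

/-!
# The building-theoretic pieces of Tits' theorem, chained (no hypotheses left)

In particular: `ext` (extension theorem), `glue`, `mou` (thick finite irreducible buildings of rank at
least three with edge labels at most four are Moufang), `usl`, `uc`, `uf1`, `uf2` (uniqueness).
-/

set_option autoImplicit false

namespace Cfsg.Agent.Lead.T3.Ch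

open Cfsg.Agent.Lead.T3

universe u

theorem cx : CxStmt := H7.T3Cx.cxStmt
theorem rt : RtStmt := H77.T3Rt.rtStmt
theorem ba1 : Ba1Stmt.{u} := @H62.T3B.ba1Stmt.{u}
theorem ba2 : Ba2Stmt.{u} := @H92.T3.ba2Stmt.{u} @cx @ba1.{u}
theorem ba3 : Ba3Stmt.{u} := @H3.T3Ba3.ba3Stmt.{u} @cx @ba1.{u}
theorem link : LinkStmt.{u} := @H61.T3Link.linkStmt.{u} @cx @ba1.{u} @ba2.{u} @ba3.{u}
theorem sg0 : Sg0Stmt.{u} := @H69.T3.sg0Stmt.{u} @ba1.{u}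
theorem key : KeyStmt.{u} := @H74.T3K.keyStmt.{u} @cx @ba1.{u} @ba2.{u}
theorem panel : PanelStmt.{u} := @H91.T3Panel.panelStmt.{u}
theorem sig : SigStmt.{u} :=
  @H38.T3Sig.sigStmt.{u} @cx @ba1.{u} @link.{u} @sg0.{u} @key.{u} @panel.{u}
theorem glob : GlobStmt.{u} := @globStmt.{u} @cx @ba1.{u} @ba3.{u} @link.{u}
theorem ext : ExtStmt.{u} := @H69.T3.extStmt.{u} @cx @ba1.{u} @link.{u} @sig.{u} @glob.{u}
theorem glue : GlueStmt.{u} := @H92.T3.glueStmt.{u} @cx @ba1.{u} @ext.{u}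
theorem wall : WallStmt := @H61.T3Wall.wallStmt
theorem mou1 : Mou1Stmt.{u} := @H7.T3Mou1.mou1Stmt.{u} @ba1.{u} @ba2.{u} @ba3.{u} @ext.{u}
theorem mou : MouStmt.{u} := @H62.T3M.mouStmt.{u} @wall @mou1.{u}
theorem free : FreeStmt.{u} := @H19.T3Free.freeStmt.{u} @cx @rt @ba1.{u} @ba3.{u}
theorem mel : MelStmt.{u} := @H19.T3Free.melStmt.{u} @cx @rt @ba1.{u} @ba3.{u}
theorem com : ComStmt.{u} := @H32.T3C.comStmt.{u} @cx @rt @ba1.{u} @free.{u}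
theorem res : ResStmt.{u} := @H20.T3.resStmt.{u} @free.{u}
theorem trans : TransStmt.{u} := @H20.T3.transStmt.{u}
theorem pce : PceStmt.{u} := @H44.T3Pce.pceStmt.{u}
theorem pc1 : Pc1Stmt.{u} := @H71.T3Pc.pc1Stmt.{u}
theorem pc2 : Pc2Stmt.{u} := @H71.T3Pc.pc2Stmt.{u}
theorem stp0 : Stp0Stmt.{u} := @H83.T3S.stp0Stmt.{u} @free.{u}
theorem stp : StpStmt.{u} :=
  @H3.T3Stp.stpStmt.{u} @free.{u} @mel.{u} @com.{u} @res.{u} @stp0.{u}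
theorem sth : SthStmt.{u} := @H3.T3Stp.sthStmt.{u}
theorem ca : CaStmt.{u} := @H74.T3C.caStmt.{u} @cx @rt @mou.{u} @com.{u} @stp.{u} @sth.{u}
theorem qc4 : Qc4Stmt.{u} :=
  @H74.T3C.qc4Stmt.{u} @cx @rt @mou.{u} @free.{u} @com.{u} @res.{u} @stp.{u} @sth.{u}
theorem win : WinStmt.{u} :=
  @H33.T3Win.winStmt.{u} @cx @rt @free.{u} @mel.{u} @com.{u} @sth.{u}
theorem qa : QaStmt.{u} := @H15.T3Q.qaStmt.{u}
theorem qb1 : Qb1Stmt.{u} := @H79.T3Q.qb1Stmt.{u}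
theorem qb2 : Qb2Stmt.{u} := @H4.T3Q.qb2Stmt.{u}
theorem qce : QceStmt.{u} := @H69.T3Q.qceStmt.{u} @mou.{u} @res.{u} @stp.{u} @win.{u} @qa.{u}
theorem qc1 : Qc1Stmt.{u} := @H69.T3Q.qc1Stmt.{u} @cx @rt @free.{u}
theorem qcx : QcxStmt.{u} := @H85.T3Qcx.qcxStmt.{u} @cx @rt @ba1.{u} @ba3.{u} @free.{u}
theorem usl : UslStmt.{u} :=
  @H52.T3U.uslStmt.{u} @glue.{u} @mou.{u} @res.{u} @pce.{u} @pc1.{u} @pc2.{u} @ca.{u}
theorem uc : UcStmt.{u} :=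
  @H52.T3U.ucStmt.{u} @glue.{u} @mou.{u} @res.{u} @pce.{u} @pc1.{u} @pc2.{u} @ca.{u} @qb1.{u}
    @qb2.{u} @qce.{u} @qc1.{u} @qcx.{u}
theorem uf1 : Uf1Stmt.{u} :=
  @H52.T3U.uf1Stmt.{u} @mou.{u} @res.{u} @pce.{u} @pc1.{u} @qb1.{u} @qce.{u} @qc1.{u}
theorem uf2 : Uf2Stmt.{u} :=
  @H52.T3U.uf2Stmt.{u} @glue.{u} @mou.{u} @res.{u} @pce.{u} @pc1.{u} @pc2.{u} @qb1.{u} @qb2.{u}
    @qce.{u} @qc1.{u} @qcx.{u} @qc4.{u}
theorem fin : FinStmt.{u} := @H90.T3Fin.finStmt.{u} @free.{0}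

end Cfsg.Agent.Lead.T3.Ch
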